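import Groth.Prelude.Def_Dieu
import Mathlib.RingTheory.Finiteness.Projective
import Mathlib.RingTheory.Finiteness.Nakayama
import Mathlib.Algebra.Module.Torsion.Basic
import Mathlib.LinearAlgebra.FiniteDimensional.Lemmas
import Mathlib.LinearAlgebra.Dimension.OrzechProperty
import Mathlib.LinearAlgebra.Prod
import Mathlib.Algebra.Module.Projective
import Mathlib.RingTheory.Ideal.Quotient.Basic

/-! Scalar extension `Dieu.BC` of finite projective modules; a bijectivity criterion. -/

set_option autoImplicit false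

namespace Groth.L15.DW

universe u v w w'
open Dieu

variable {A : Type u} {B : Type v} [CommRing A] [CommRing B] (g : A →+* B)
  {P : Type w} [AddCommGroup P] [Module A P]

theorem finite_BC [Module.Finite A P] : Module.Finite B (BC g P) := by
  classical
  obtain ⟨s, hs⟩ := (inferInstance : Module.Finite A P).fg_top
  refine ⟨⟨s.image (fun x => BC.tmul g 1 x), ?_⟩⟩
  rw [eq_top_iff]
  intro z hz
  clear hz
  induction z using BC.induction_on g with
  | zero => exact zero_mem _
  | add a b ha hb => exact add_mem ha hb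
  | tmul b x =>
    rw [BC.tmul_eq_smul_tmul_one]
    refine Submodule.smul_mem _ _ ?_
    have hx : x ∈ Submodule.span A (s : Set P) := hs ▸ Submodule.mem_top
    induction hx using Submodule.span_induction with
    | mem y hy => exact Submodule.subset_span (Finset.mem_coe.2 (Finset.mem_image_of_mem _ hy))
    | zero => rw [BC.tmul_zero]; exact zero_mem _
    | add a c _ _ ha hc => rw [BC.tmul_add]; exact add_mem ha hc
    | smul a c _ hc => rw [← BC.tmul_apply_eq, BC.tmul_eq_smul_tmul_one]; exact Submodule.smul_mem _ _ hc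

/-- The coordinates, as a semilinear map. -/
def coordSemi (n : ℕ) : (Fin n → A) →ₛₗ[g] (Fin n → B) where
  toFun x i := g (x i)
  map_add' x y := funext fun i => map_add g _ _
  map_smul' a x := funext fun i => map_mul g _ _

theorem projective_BC [Module.Finite A P] [Module.Projective A P] : Module.Projective B (BC g P) := by
  classical
  obtain ⟨n, r, s, -, -, hrs⟩ := Module.Finite.exists_comp_eq_id_of_projective A P
  let fwd : BC g (Fin n → A) →ₗ[B] (Fin n → B) := BC.lift g (coordSemi g n)
  let bwd : (Fin n → B) →ₗ[B] BC g (Fin n → A) :=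
    (Pi.basisFun B (Fin n)).constr B fun i => BC.tmul g 1 (Pi.single i 1)
  have h1 : bwd ∘ₗ fwd = LinearMap.id := by
    refine BC.ext g fun x => ?_
    rw [LinearMap.comp_apply, LinearMap.id_apply, BC.lift_tmul, one_smul,
      Module.Basis.constr_apply_fintype]
    show ∑ i, g (x i) • BC.tmul g 1 (Pi.single i 1) = _
    have : ∀ i, g (x i) • BC.tmul g 1 (Pi.single i (1 : A)) = BC.tmul g 1 (x i • (Pi.single i 1 : Fin n → A)) :=
      fun i => by rw [← BC.tmul_apply_eq, BC.tmul_eq_smul_tmul_one g (g (x i))]
    rw [Finset.sum_congr rfl fun i _ => this i]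
    show ∑ i, BC.ι g (Fin n → A) (x i • Pi.single i 1) = BC.ι g (Fin n → A) x
    rw [← map_sum, ← pi_eq_sum_univ' x]
  refine Module.Projective.of_split (fwd ∘ₗ BC.map g s) (BC.map g r ∘ₗ bwd) ?_
  refine BC.ext g fun x => ?_
  have h2 := LinearMap.congr_fun h1 (BC.tmul g 1 (s x))
  rw [LinearMap.comp_apply, LinearMap.id_apply] at h2
  rw [LinearMap.comp_apply, LinearMap.comp_apply, LinearMap.comp_apply, LinearMap.id_apply,
    BC.map_tmul, h2, BC.map_tmul, ← LinearMap.comp_apply, hrs, LinearMap.id_apply]

/-- A surjection of finite modules onto a projective one which is injective modulo every maximal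
ideal is bijective. -/
theorem bijective_of_mod_maximal {R : Type u} [CommRing R] {M : Type v} {N : Type w}
    [AddCommGroup M] [Module R M] [Module.Finite R M] [AddCommGroup N] [Module R N]
    [Module.Projective R N] (f : M →ₗ[R] N) (hf : Function.Surjective f)
    (h : ∀ m : Ideal R, m.IsMaximal → ∀ z : M, f z ∈ m • (⊤ : Submodule R N) → z ∈ m • (⊤ : Submodule R M)) :
    Function.Bijective f := by
  obtain ⟨s, hs⟩ := Module.projective_lifting_property f LinearMap.id hf
  refine ⟨?_, hf⟩
  rw [← LinearMap.ker_eq_bot]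
  let e : M →ₗ[R] M := LinearMap.id - s ∘ₗ f
  have hKfg : (LinearMap.ker f).FG := by
    have : LinearMap.ker f = LinearMap.range e := by
      ext x
      constructor
      · intro hx; exact ⟨x, by simp [e, LinearMap.mem_ker.1 hx]⟩
      · rintro ⟨y, rfl⟩
        rw [LinearMap.mem_ker]
        show f (y - s (f y)) = 0
        rw [map_sub, ← LinearMap.comp_apply, hs, LinearMap.id_apply, sub_self]
    rw [this, LinearMap.range_eq_map]
    exact Module.Finite.fg_top.map e
  by_contra hne
  obtain ⟨x, hx, hx0⟩ := (Submodule.ne_bot_iff _).1 hne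
  let ann : Ideal R := (R ∙ x).annihilator
  have hann : ann ≠ ⊤ := by
    intro h1
    have h1' : (1 : R) ∈ ann := h1 ▸ Submodule.mem_top
    have := (Submodule.mem_annihilator_span_singleton _ _).1 h1'
    rw [one_smul] at this
    exact hx0 this
  obtain ⟨m, hm, hle⟩ := Ideal.exists_le_maximal ann hann
  have hKle : LinearMap.ker f ≤ m • LinearMap.ker f := by
    intro z hz
    have hz' := h m hm z (by rw [LinearMap.mem_ker.1 hz]; exact zero_mem _)
    have : e z = z := by simp [e, LinearMap.mem_ker.1 hz]
    rw [← this]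
    refine Submodule.smul_induction_on hz' (fun a ha t _ => ?_) (fun a b ha hb => ?_)
    · rw [map_smul]
      refine Submodule.smul_mem_smul ha ?_
      rw [LinearMap.mem_ker]
      show f (t - s (f t)) = 0
      rw [map_sub, ← LinearMap.comp_apply f s, hs, LinearMap.id_apply, sub_self]
    · rw [map_add]; exact add_mem ha hb
  obtain ⟨r, hr, hr0⟩ := Submodule.exists_sub_one_mem_and_smul_eq_zero_of_fg_of_le_smul m _ hKfg hKle
  have hrm : r ∈ m := hle ((Submodule.mem_annihilator_span_singleton _ _).2 (hr0 x hx))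
  exact hm.ne_top ((Ideal.eq_top_iff_one m).2 (by simpa using m.sub_mem hrm hr))

/-- Two semilinear maps out of a complement pair: if each `κ`-dimension is at most that of the
corresponding summand, a surjection is injective mod `m`. -/
theorem mod_maximal_of_twist {W : Type u} [CommRing W] (σ : W →+* W) {P : Type v} [AddCommGroup P]
    [Module W P] [Module.Finite W P] {L T : Submodule W P} (hLT : IsCompl L T)
    (m : Ideal W) [hm : m.IsMaximal] (hσ : ∀ a ∈ m, σ a ∈ m)
    (f : BC σ L × BC σ T →ₗ[W] P) (hf : Function.Surjective f)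
    (z : BC σ L × BC σ T) (hz : f z ∈ m • (⊤ : Submodule W P)) :
    z ∈ m • (⊤ : Submodule W (BC σ L × BC σ T)) := by
  classical
  letI := Ideal.Quotient.field m
  let e := Submodule.prodEquivOfIsCompl L T hLT
  let q := (m • (⊤ : Submodule W P)).mkQ
  haveI : Module.Finite (W ⧸ m) (P ⧸ m • (⊤ : Submodule W P)) :=
    Module.Finite.of_restrictScalars_finite W _ _
  haveI : Module.Finite W L := Module.Finite.of_surjective ((LinearMap.fst W L T).comp e.symm.toLinearMap)
    (fun l => ⟨e (l, 0), by simp⟩)
  haveI : Module.Finite W T := Module.Finite.of_surjective ((LinearMap.snd W L T).comp e.symm.toLinearMap)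
    (fun l => ⟨e (0, l), by simp⟩)
  haveI : Module.Finite (W ⧸ m) (L ⧸ m • (⊤ : Submodule W L)) :=
    Module.Finite.of_restrictScalars_finite W _ _
  haveI : Module.Finite (W ⧸ m) (T ⧸ m • (⊤ : Submodule W T)) :=
    Module.Finite.of_restrictScalars_finite W _ _
  let bL := Module.finBasis (W ⧸ m) (L ⧸ m • (⊤ : Submodule W L))
  let bT := Module.finBasis (W ⧸ m) (T ⧸ m • (⊤ : Submodule W T))
  choose x hx using fun i => Submodule.mkQ_surjective _ (bL i)
  choose y hy using fun i => Submodule.mkQ_surjective _ (bT i)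
  let Z := BC σ L × BC σ T
  let u : (Fin (Module.finrank (W ⧸ m) (L ⧸ m • (⊤ : Submodule W L))) ⊕
      Fin (Module.finrank (W ⧸ m) (T ⧸ m • (⊤ : Submodule W T)))) → Z :=
    Sum.elim (fun i => (BC.tmul σ 1 (x i), 0)) (fun i => (0, BC.tmul σ 1 (y i)))
  let ω := fun i => (e (Sum.elim (fun i => (x i, (0 : T))) (fun i => ((0 : L), y i)) i))
  have hsplit : ∀ (M : Type v) [AddCommGroup M] [Module W M] (nn : ℕ)
      (b : Module.Basis (Fin nn) (W ⧸ m) (M ⧸ m • (⊤ : Submodule W M))) (x : Fin nn → M),
      (∀ i, (m • (⊤ : Submodule W M)).mkQ (x i) = b i) → ∀ l : M,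
      ∃ (c : Fin nn → W) (r : M), r ∈ m • (⊤ : Submodule W M) ∧ l = ∑ i, c i • x i + r := by
    intro M _ _ nn b x hx l
    choose c hc using fun i => Ideal.Quotient.mk_surjective (b.repr ((m • (⊤ : Submodule W M)).mkQ l) i)
    refine ⟨c, l - ∑ i, c i • x i, ?_, by abel⟩
    rw [← Submodule.Quotient.mk_eq_zero, ← Submodule.mkQ_apply, map_sub, map_sum, sub_eq_zero]
    conv_lhs => rw [← b.sum_repr ((m • (⊤ : Submodule W M)).mkQ l)]
    refine Finset.sum_congr rfl fun i _ => ?_
    rw [map_smul, hx, ← hc i]
    rfl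
  -- the u span Z mod m
  have hspanZ : ∀ z : Z, ∃ c : _ → W, z - ∑ i, c i • u i ∈ m • (⊤ : Submodule W Z) := by
    have key : ∀ (S : Submodule W Z), (∀ i, u i ∈ S) → m • (⊤ : Submodule W Z) ≤ S → S = ⊤ := by
      intro S hu hm'
      have hl : ∀ l : L, (BC.tmul σ 1 l, (0 : BC σ T)) ∈ S := by
        intro l
        obtain ⟨c, r, hr, rfl⟩ := hsplit L _ bL x hx l
        let φ : L →ₛₗ[σ] Z := (LinearMap.inl W (BC σ L) (BC σ T)).comp (BC.ι σ L)
        show φ _ ∈ S
        rw [map_add, map_sum]
        refine add_mem (sum_mem fun i _ => ?_) ?_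
        · rw [φ.map_smulₛₗ]; exact S.smul_mem _ (hu (Sum.inl i))
        · refine hm' (Submodule.smul_induction_on hr (fun a ha t _ => ?_) (fun a b ha hb => ?_))
          · rw [φ.map_smulₛₗ]; exact Submodule.smul_mem_smul (hσ a ha) trivial
          · rw [map_add]; exact add_mem ha hb
      have ht : ∀ l : T, ((0 : BC σ L), BC.tmul σ 1 l) ∈ S := by
        intro l
        obtain ⟨c, r, hr, rfl⟩ := hsplit T _ bT y hy l
        let φ : T →ₛₗ[σ] Z := (LinearMap.inr W (BC σ L) (BC σ T)).comp (BC.ι σ T)
        show φ _ ∈ S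
        rw [map_add, map_sum]
        refine add_mem (sum_mem fun i _ => ?_) ?_
        · rw [φ.map_smulₛₗ]; exact S.smul_mem _ (hu (Sum.inr i))
        · refine hm' (Submodule.smul_induction_on hr (fun a ha t _ => ?_) (fun a b ha hb => ?_))
          · rw [φ.map_smulₛₗ]; exact Submodule.smul_mem_smul (hσ a ha) trivial
          · rw [map_add]; exact add_mem ha hb
      rw [eq_top_iff]
      rintro ⟨a, b⟩ hab
      clear hab
      have h1 : (LinearMap.inl W (BC σ L) (BC σ T)) a ∈ S := by
        induction a using BC.induction_on σ with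
        | zero => rw [map_zero]; exact zero_mem _
        | add p q hp hq => rw [map_add]; exact add_mem hp hq
        | tmul c l => rw [BC.tmul_eq_smul_tmul_one, map_smul]; exact S.smul_mem _ (hl l)
      have h2 : (LinearMap.inr W (BC σ L) (BC σ T)) b ∈ S := by
        induction b using BC.induction_on σ with
        | zero => rw [map_zero]; exact zero_mem _
        | add p q hp hq => rw [map_add]; exact add_mem hp hq
        | tmul c l => rw [BC.tmul_eq_smul_tmul_one, map_smul]; exact S.smul_mem _ (ht l)
      simpa using add_mem h1 h2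
    intro z
    have hz : z ∈ (Submodule.span W (Set.range u) ⊔ m • (⊤ : Submodule W Z)) := by
      rw [key (Submodule.span W (Set.range u) ⊔ m • (⊤ : Submodule W Z)) (fun i => Submodule.mem_sup_left (Submodule.subset_span ⟨i, rfl⟩)) le_sup_right]
      trivial
    obtain ⟨s, hs, r, hr, rfl⟩ := Submodule.mem_sup.1 hz
    obtain ⟨c, rfl⟩ := (Submodule.mem_span_range_iff_exists_fun W).1 hs
    exact ⟨c, by rwa [add_sub_cancel_left]⟩
  -- a basis of P mod m
  have hω : ∀ i, e.symm (ω i) = Sum.elim (fun i => (x i, (0 : T))) (fun i => ((0 : L), y i)) i :=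
    fun i => e.symm_apply_apply _
  have hωli : LinearIndependent (W ⧸ m) (fun i => q (ω i)) := by
    rw [Fintype.linearIndependent_iff]
    intro c hc
    choose d hd using fun i => Ideal.Quotient.mk_surjective (c i)
    have hmem : ∑ i, d i • ω i ∈ m • (⊤ : Submodule W P) := by
      rw [← Submodule.Quotient.mk_eq_zero, ← Submodule.mkQ_apply, map_sum, ← hc]
      exact Finset.sum_congr rfl fun i _ => by rw [map_smul, ← hd i]; rfl
    have h1 : ∀ v ∈ m • (⊤ : Submodule W P), (e.symm v).1 ∈ m • (⊤ : Submodule W L) ∧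
        (e.symm v).2 ∈ m • (⊤ : Submodule W T) := by
      intro v hv
      refine Submodule.smul_induction_on hv (fun a ha t _ => ?_) (fun a b ha hb => ?_)
      · rw [map_smul, Prod.smul_fst, Prod.smul_snd]
        exact ⟨Submodule.smul_mem_smul ha trivial, Submodule.smul_mem_smul ha trivial⟩
      · rw [map_add, Prod.fst_add, Prod.snd_add]
        exact ⟨add_mem ha.1 hb.1, add_mem ha.2 hb.2⟩
    obtain ⟨hL', hT'⟩ := h1 _ hmem
    simp only [map_sum, map_smul, map_add, Prod.fst_add, Prod.snd_add, hω, Prod.fst_sum, Prod.snd_sum, Fintype.sum_sum_type, Sum.elim_inl,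
      Sum.elim_inr, Prod.smul_fst, Prod.smul_snd, smul_zero, Finset.sum_const_zero, add_zero,
      zero_add] at hL' hT'
    have hsum : ∀ (M : Type v) [AddCommGroup M] [Module W M] (nn : ℕ)
        (b : Module.Basis (Fin nn) (W ⧸ m) (M ⧸ m • (⊤ : Submodule W M))) (x : Fin nn → M)
        (_ : ∀ i, (m • (⊤ : Submodule W M)).mkQ (x i) = b i) (d : Fin nn → W),
        ∑ i, d i • x i ∈ m • (⊤ : Submodule W M) → ∀ i, Ideal.Quotient.mk m (d i) = 0 := by
      intro M _ _ nn b x hx d hd
      apply Fintype.linearIndependent_iff.1 b.linearIndependent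
      rw [← Submodule.Quotient.mk_eq_zero, ← Submodule.mkQ_apply, map_sum] at hd
      rw [← hd]
      exact Finset.sum_congr rfl fun i _ => by rw [map_smul, hx]; rfl
    rintro (i | i)
    · rw [← hd]; exact hsum L _ bL x hx _ hL' i
    · rw [← hd]; exact hsum T _ bT y hy _ hT' i
  have hq : ∀ (c : W) (v : P), q (c • v) = Ideal.Quotient.mk m c • q v := fun c v => by
    rw [map_smul]; rfl
  have hfspan : ⊤ ≤ Submodule.span (W ⧸ m) (Set.range fun i => q (f (u i))) := by
    intro v _
    obtain ⟨p, rfl⟩ := Submodule.mkQ_surjective _ v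
    obtain ⟨z, rfl⟩ := hf p
    obtain ⟨c, hc⟩ := hspanZ z
    have hfr : f (z - ∑ i, c i • u i) ∈ m • (⊤ : Submodule W P) := by
      refine Submodule.smul_induction_on hc (fun a ha t _ => ?_) (fun a b ha hb => ?_)
      · rw [map_smul]; exact Submodule.smul_mem_smul ha trivial
      · rw [map_add]; exact add_mem ha hb
    rw [← Submodule.Quotient.mk_eq_zero, ← Submodule.mkQ_apply, map_sub, map_sub, sub_eq_zero] at hfr
    rw [hfr, map_sum, map_sum]
    refine Submodule.sum_mem _ fun i _ => ?_
    rw [map_smul]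
    show q (c i • f (u i)) ∈ _
    rw [hq]
    exact Submodule.smul_mem _ _ (Submodule.subset_span ⟨i, rfl⟩)
  have hli : LinearIndependent (W ⧸ m) (fun i => q (f (u i))) := by
    refine linearIndependent_of_top_le_span_of_card_eq_finrank hfspan (le_antisymm ?_ ?_)
    · exact hωli.fintype_card_le_finrank
    · refine finrank_le_of_span_eq_top (v := fun i => q (f (u i))) (eq_top_iff.2 hfspan)
  obtain ⟨c, hc⟩ := hspanZ z
  have hfr : f (z - ∑ i, c i • u i) ∈ m • (⊤ : Submodule W P) := by
    refine Submodule.smul_induction_on hc (fun a ha t _ => ?_) (fun a b ha hb => ?_)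
    · rw [map_smul]; exact Submodule.smul_mem_smul ha trivial
    · rw [map_add]; exact add_mem ha hb
  have hsum0 : ∑ i, Ideal.Quotient.mk m (c i) • q (f (u i)) = 0 := by
    have : q (f (∑ i, c i • u i)) = 0 := by
      rw [show ∑ i, c i • u i = z - (z - ∑ i, c i • u i) by abel, map_sub, map_sub,
        show q (f z) = 0 from (Submodule.Quotient.mk_eq_zero _).2 hz,
        show q (f (z - ∑ i, c i • u i)) = 0 from (Submodule.Quotient.mk_eq_zero _).2 hfr, sub_zero]
    rw [← this, map_sum, map_sum]
    exact Finset.sum_congr rfl fun i _ => by rw [map_smul, hq]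
  have hcm : ∀ i, c i ∈ m := fun i =>
    Ideal.Quotient.eq_zero_iff_mem.1 (Fintype.linearIndependent_iff.1 hli _ hsum0 i)
  rw [show z = (z - ∑ i, c i • u i) + ∑ i, c i • u i by abel]
  exact add_mem hc (sum_mem fun i _ => Submodule.smul_mem_smul (hcm i) trivial)

end Groth.L15.DW
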