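import Groth.Agent.L15.DW.Mk
import Groth.Agent.L15.DW.BC

/-! Base change of 3n-displays. -/

set_option autoImplicit false

namespace Groth.L15.DW

universe u v w w'
open WittVector W4c1extbt610 Dieu

section semilin

variable {A B C : Type u} [CommRing A] [CommRing B] [CommRing C] (g : A →+* B) (h : B →+* C)
  {P : Type v} [AddCommGroup P] [Module A P] {N : Type w} [AddCommGroup N] [Module C N]

/-- The `h`-semilinear extension of an `h ∘ g`-semilinear map. -/
noncomputable def liftSemi (φ : P →ₛₗ[h.comp g] N) : BC g P →ₛₗ[h] N :=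
  (BC.lift (h.comp g) φ).comp (BC.push g h)

theorem liftSemi_tmul (φ : P →ₛₗ[h.comp g] N) (b : B) (x : P) :
    liftSemi g h φ (BC.tmul g b x) = h b • φ x := by
  rw [liftSemi, LinearMap.comp_apply, BC.push_tmul, BC.lift_tmul]

end semilin

variable {p : ℕ} [hp : Fact p.Prime] {S R : Type u} [CommRing S] [CommRing R] (f : S →+* R)
  {P : Type v} [AddCommGroup P] [Module (WittVector p S) P]

local notation "g" => (WittVector.map f : WittVector p S →+* WittVector p R)
local notation "σS" => (WittVector.frobenius : WittVector p S →+* WittVector p S)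
local notation "σR" => (WittVector.frobenius : WittVector p R →+* WittVector p R)

/-- Extension of a Frobenius semilinear map. -/
noncomputable def bcSemi (G : P →ₛₗ[σS] P) : BC g P →ₛₗ[σR] BC g P :=
  liftSemi g σR
    { toFun := fun x => BC.tmul g 1 (G x)
      map_add' := fun x y => by rw [map_add, BC.tmul_add]
      map_smul' := fun a x => by
        show BC.ι g P (G (a • x)) = _
        rw [G.map_smulₛₗ, (BC.ι g P).map_smulₛₗ]
        show g (σS a) • _ = σR (g a) • _
        rw [map_frobenius]
        rfl }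

theorem bcSemi_tmul (G : P →ₛₗ[σS] P) (w : WittVector p R) (x : P) :
    bcSemi f G (BC.tmul g w x) = BC.tmul g (σR w) (G x) := by
  rw [bcSemi, liftSemi_tmul, BC.tmul_eq_smul_tmul_one g (σR w)]
  rfl

theorem map_mem_IV {a : WittVector p S} (ha : a ∈ IV p S) : g a ∈ IV p R := by
  rw [mem_IV_iff] at *
  rw [map_coeff, ha, map_zero]

variable (D : Display3n p S P)

theorem ι_mem_ker (y : D.Q) : BC.ι g P (y : P) ∈ LinearMap.ker (bcQuotMap f D.Q) := by
  rw [LinearMap.mem_ker, BC.ι_apply, bcQuotMap_tmul, Submodule.mkQ_apply,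
    (Submodule.Quotient.mk_eq_zero _).2 y.2, BC.tmul_zero]

theorem IV_smul_le_ker : IV p R • (⊤ : Submodule (WittVector p R) (BC g P)) ≤ LinearMap.ker (bcQuotMap f D.Q) := by
  rw [Submodule.smul_le]
  intro a ha z _
  rw [LinearMap.mem_ker, LinearMap.map_smulₛₗ, show constantCoeff a = 0 from mem_IV_iff.1 ha, zero_smul]

theorem exists_dispBC : ∃! DR : Display3n p R (BC g P), IsDispBaseChange f D DR := by
  haveI := D.finite
  haveI := D.projective
  haveI := finite_BC g (P := P)
  haveI := projective_BC g (P := P)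
  obtain ⟨L, T, hLT, hQ⟩ := D.exists_normal
  let pL : P →ₗ[WittVector p S] P := L.subtype.comp (Submodule.projectionOnto L T hLT)
  let pT : P →ₗ[WittVector p S] P := T.subtype.comp (Submodule.projectionOnto T L hLT.symm)
  have hsum : ∀ x, pL x + pT x = x := fun x => Submodule.projection_add_projection_eq_self hLT x
  have hpLL : ∀ l ∈ L, pL l = l := fun l hl => congrArg Subtype.val (Submodule.projectionOnto_apply_left hLT ⟨l, hl⟩)
  have hpLT : ∀ t ∈ T, pL t = 0 := fun t ht => congrArg Subtype.val (Submodule.projectionOnto_apply_right hLT ⟨t, ht⟩)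
  let LR := LinearMap.range (BC.map g L.subtype)
  let TR := LinearMap.range (BC.map g T.subtype)
  have hLRid : ∀ z ∈ LR, BC.map g pL z = z := by
    rintro _ ⟨u, rfl⟩
    induction u using BC.induction_on g with
    | zero => simp
    | add a b ha hb => rw [map_add, map_add, ha, hb]
    | tmul b x => rw [BC.map_tmul, BC.map_tmul, Submodule.subtype_apply, hpLL x.1 x.2]
  have hTRzero : ∀ z ∈ TR, BC.map g pL z = 0 := by
    rintro _ ⟨u, rfl⟩
    induction u using BC.induction_on g with
    | zero => simp
    | add a b ha hb => rw [map_add, map_add, ha, hb, add_zero]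
    | tmul b x => rw [BC.map_tmul, BC.map_tmul, Submodule.subtype_apply, hpLT x.1 x.2, BC.tmul_zero]
  have hLR : ∀ (w : WittVector p R) (l : P), l ∈ L → BC.tmul g w l ∈ LR := fun w l hl =>
    ⟨BC.tmul g w ⟨l, hl⟩, BC.map_tmul g _ _ _⟩
  have hTR : ∀ (w : WittVector p R) (t : P), t ∈ T → BC.tmul g w t ∈ TR := fun w l hl =>
    ⟨BC.tmul g w ⟨l, hl⟩, BC.map_tmul g _ _ _⟩
  have hpTmem : ∀ x, pT x ∈ T := fun x => (Submodule.projectionOnto T L hLT.symm x).2
  have hpLmem : ∀ x, pL x ∈ L := fun x => (Submodule.projectionOnto L T hLT x).2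
  have hcompl : IsCompl LR TR := by
    refine ⟨Submodule.disjoint_def.2 fun z hz hz' => ?_, codisjoint_iff.2 (eq_top_iff.2 fun z _ => ?_)⟩
    · rw [← hLRid z hz, hTRzero z hz']
    · induction z using BC.induction_on g with
      | zero => exact zero_mem _
      | add a b ha hb => exact add_mem (ha trivial) (hb trivial)
      | tmul b x =>
        rw [← hsum x, BC.tmul_add]
        exact Submodule.add_mem_sup (hLR _ _ (hpLmem x)) (hTR _ _ (hpTmem x))
  let VLfull : BC g P →ₛₗ[σR] BC g P := bcSemi f
    ((D.Vinv.comp ((Submodule.inclusion (le_Q D hQ)).comp (Submodule.projectionOnto L T hLT))))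
  have hVLfull : ∀ (w : WittVector p R) (l : P) (hl : l ∈ L),
      VLfull (BC.tmul g w l) = BC.tmul g (σR w) (D.Vinv ⟨l, le_Q D hQ hl⟩) := by
    intro w l hl
    rw [bcSemi_tmul]
    show BC.tmul g _ (D.Vinv (Submodule.inclusion (le_Q D hQ) _)) = _
    rw [Submodule.projectionOnto_apply_left hLT ⟨l, hl⟩]
    rfl
  have hF : ∀ l : LR, bcSemi f D.F (l : BC g P) = (p : WittVector p R) • VLfull.comp LR.subtype l := by
    rintro ⟨_, u, rfl⟩
    show bcSemi f D.F (BC.map g L.subtype u) = (p : WittVector p R) • VLfull (BC.map g L.subtype u)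
    induction u using BC.induction_on g with
    | zero => simp
    | add a b ha hb => simp only [map_add, smul_add, ha, hb]
    | tmul b x =>
      rw [BC.map_tmul, Submodule.subtype_apply, bcSemi_tmul, hVLfull b x.1 x.2,
        F_eq_p_smul D ⟨x.1, le_Q D hQ x.2⟩, BC.tmul_eq_smul_tmul_one g (σR b), ← BC.ι_apply,
        (BC.ι g P).map_smulₛₗ, map_natCast, smul_comm, BC.ι_apply, ← BC.tmul_eq_smul_tmul_one]
  have hspan : Submodule.span (WittVector p R)
      (Set.range (VLfull.comp LR.subtype) ∪ bcSemi f D.F '' TR) = ⊤ := by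
    set Z := Submodule.span (WittVector p R)
      (Set.range (VLfull.comp LR.subtype) ∪ bcSemi f D.F '' TR)
    have h1 : ∀ x, BC.tmul g 1 x ∈ Z := by
      intro x
      have : x ∈ Submodule.comap (BC.ι g P) Z := by
        have hx : x ∈ (⊤ : Submodule (WittVector p S) P) := trivial
        rw [← span_L_T D hQ] at hx
        refine Submodule.span_le.2 ?_ hx
        rintro _ (⟨l, rfl⟩ | ⟨t, rfl⟩)
        · refine Submodule.subset_span (Or.inl ⟨⟨_, hLR 1 l.1 l.2⟩, ?_⟩)
          show VLfull (BC.tmul g 1 l.1) = _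
          rw [hVLfull 1 l.1 l.2, map_one]
          rfl
        · refine Submodule.subset_span (Or.inr ⟨_, hTR 1 t.1 t.2, ?_⟩)
          rw [bcSemi_tmul, map_one]
          rfl
      exact this
    rw [eq_top_iff]
    intro z _
    induction z using BC.induction_on g with
    | zero => exact zero_mem _
    | add a b ha hb => exact add_mem (ha trivial) (hb trivial)
    | tmul b x => rw [BC.tmul_eq_smul_tmul_one]; exact Z.smul_mem _ (h1 x)
  obtain ⟨DR, hQR, hFR, hVR⟩ := exists_mkDisplay hcompl (bcSemi f D.F) (VLfull.comp LR.subtype) hF hspan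
  have hker : DR.Q = LinearMap.ker (bcQuotMap f D.Q) := by
    rw [hQR]
    refine le_antisymm (sup_le ?_ ?_) ?_
    · rintro _ ⟨u, rfl⟩
      rw [LinearMap.mem_ker]
      induction u using BC.induction_on g with
      | zero => simp
      | add a b ha hb => rw [map_add, map_add, ha, hb, add_zero]
      | tmul b x =>
        rw [BC.map_tmul, bcQuotMap_tmul, Submodule.subtype_apply, Submodule.mkQ_apply,
          (Submodule.Quotient.mk_eq_zero _).2 (le_Q D hQ x.2), BC.tmul_zero]
    · exact le_trans (Submodule.smul_mono le_rfl le_top) (IV_smul_le_ker f D)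
    intro z hz
    have hdec : z = BC.map g pL z + BC.map g pT z := by
      clear hz
      induction z using BC.induction_on g with
      | zero => simp
      | add a b ha hb => rw [map_add, map_add]; nth_rewrite 1 [ha, hb]; abel
      | tmul b x => rw [BC.map_tmul, BC.map_tmul, ← BC.tmul_add, hsum]
    rw [hdec]
    refine Submodule.add_mem_sup ?_ ?_
    · clear hz hdec
      induction z using BC.induction_on g with
      | zero => simp
      | add a b ha hb => rw [map_add]; exact add_mem ha hb
      | tmul b x => rw [BC.map_tmul]; exact hLR _ _ (hpLmem x)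
    obtain ⟨n, e, φ, hφ⟩ := exists_dual_basis (WittVector p S) P
    let φR : Fin n → (BC g P →ₗ[WittVector p R] WittVector p R) := fun i =>
      BC.lift g ((semilinearOfRingHom g).comp (φ i))
    have hexp : ∀ z : BC g P, BC.map g pT z = ∑ i, φR i (BC.map g pT z) • BC.tmul g 1 (pT (e i)) := by
      intro z
      induction z using BC.induction_on g with
      | zero => simp
      | add a b ha hb =>
        simp only [map_add, add_smul, Finset.sum_add_distrib]
        rw [← ha, ← hb]
      | tmul b x =>
        rw [BC.map_tmul]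
        conv_lhs =>
          rw [show pT x = ∑ i, φ i (pT x) • pT (e i) by
            conv_lhs => rw [show pT x = pT (pT x) from (congrArg Subtype.val
              (Submodule.projectionOnto_apply_left hLT.symm ⟨_, hpTmem x⟩)).symm, ← hφ (pT x), map_sum]
            simp only [map_smul]]
          rw [BC.tmul_eq_smul_tmul_one, ← BC.ι_apply, map_sum, Finset.smul_sum]
        refine Finset.sum_congr rfl fun i _ => ?_
        rw [(BC.ι g P).map_smulₛₗ, smul_smul]
        simp [φR]
    have hIV : ∀ i, φR i (BC.map g pT z) ∈ IV p R := by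
      intro i
      let ξ : (P ⧸ D.Q) →ₛₗ[(constantCoeff : WittVector p R →+* R).comp g] R :=
        D.Q.liftQ ((semilinearOfRingHom ((constantCoeff : WittVector p R →+* R).comp g)).comp ((φ i).comp pT))
          fun y hy => by
            rw [LinearMap.mem_ker, LinearMap.comp_apply, semilinearOfRingHom_apply]
            exact mem_IV_iff.1 (map_mem_IV f
              (apply_mem_of_mem_IV_smul _ (projT_mem hLT (hQ ▸ hy))))
      have key : ∀ z, BC.lift ((constantCoeff : WittVector p R →+* R).comp g) ξ (bcQuotMap f D.Q z) =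
          constantCoeff (φR i (BC.map g pT z)) := by
        intro z
        induction z using BC.induction_on g with
        | zero => simp
        | add a b ha hb => simp only [map_add, ha, hb]
        | tmul b x =>
          rw [bcQuotMap_tmul, BC.map_tmul, BC.lift_tmul]
          simp [φR, ξ, mul_coeff_zero, map_coeff]
      have h := key z
      rw [LinearMap.mem_ker.1 hz, map_zero] at h
      exact mem_IV_iff.2 h.symm
    rw [hexp z]
    exact sum_mem fun i _ => Submodule.smul_mem_smul (hIV i) (hTR 1 _ (hpTmem _))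
  refine ⟨DR, ⟨hker, fun w x => by rw [hFR]; exact bcSemi_tmul f D.F w x, ?_, ?_⟩, ?_⟩
  · intro w y h
    have hι : ∀ y : D.Q, BC.ι g P (y : P) ∈ DR.Q := fun y => hker ▸ ι_mem_ker f D y
    have hone : ∀ y : D.Q, DR.Vinv ⟨_, hι y⟩ = BC.ι g P (D.Vinv y) := by
      refine Q_induction D hQ (fun a b ha hb => ?_) (fun l hl => ?_) (fun c t _ => ?_)
      · rw [show (⟨_, hι (a + b)⟩ : DR.Q) = ⟨_, hι a⟩ + ⟨_, hι b⟩ from
          Subtype.ext (map_add (BC.ι g P) _ _), map_add, map_add, map_add, ha, hb]
      · refine (hVR ⟨_, hLR 1 l hl⟩).trans ?_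
        show VLfull (BC.tmul g 1 l) = _
        rw [hVLfull 1 l hl, map_one]
        rfl
      · rw [show (⟨_, hι ⟨_, V_smul_mem D c t⟩⟩ : DR.Q) =
            ⟨verschiebung (g c) • BC.tmul g 1 t, V_smul_mem DR _ _⟩ from Subtype.ext (by
              show BC.ι g P (verschiebung c • t) = _
              rw [(BC.ι g P).map_smulₛₗ, map_verschiebung]
              rfl), Vinv_V_smul, Vinv_V_smul, hFR, bcSemi_tmul, map_one, (BC.ι g P).map_smulₛₗ]
        rfl
    rw [show (⟨_, h⟩ : DR.Q) = w • ⟨_, hι y⟩ from Subtype.ext (BC.tmul_eq_smul_tmul_one g w (y : P)),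
      DR.Vinv.map_smulₛₗ, hone, BC.ι_apply, ← BC.tmul_eq_smul_tmul_one]
  · intro w x h
    rw [show (⟨_, h⟩ : DR.Q) = ⟨verschiebung w • BC.tmul g 1 x, V_smul_mem DR _ _⟩ from
      Subtype.ext (BC.tmul_eq_smul_tmul_one g (verschiebung w) x), Vinv_V_smul, hFR, bcSemi_tmul, map_one,
      ← BC.tmul_eq_smul_tmul_one]
  · intro D' hD'
    have hF' : DR.F = D'.F := by
      ext z
      rw [hFR]
      induction z using BC.induction_on g with
      | zero => simp
      | add a b ha hb => rw [map_add, map_add, ha, hb]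
      | tmul b x => rw [bcSemi_tmul, hD'.F_tmul]
    refine (Display3n_ext DR D' hQR (hker.trans hD'.Q_eq.symm) hF' ?_).symm
    intro l hl h'
    refine (hVR ⟨l, hl⟩).trans ?_
    show VLfull l = _
    obtain ⟨u, rfl⟩ := hl
    revert h'
    induction u using BC.induction_on g with
    | zero =>
      intro h'
      rw [show (⟨_, h'⟩ : D'.Q) = 0 from Subtype.ext (map_zero _)]
      simp
    | add a b ha hb =>
      intro h'
      have hm : ∀ u, BC.map g L.subtype u ∈ D'.Q := fun u =>
        (hker.trans hD'.Q_eq.symm) ▸ le_Q DR hQR ⟨u, rfl⟩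
      rw [show (⟨_, h'⟩ : D'.Q) = ⟨_, hm a⟩ + ⟨_, hm b⟩ from Subtype.ext (map_add _ _ _), map_add,
        map_add, map_add, ← ha (hm a), ← hb (hm b)]
    | tmul b x =>
      intro h'
      have hbx : BC.tmul g b (x : P) ∈ D'.Q := by rw [BC.map_tmul] at h'; exact h'
      rw [show (⟨_, h'⟩ : D'.Q) = ⟨_, hbx⟩ from Subtype.ext (BC.map_tmul g _ _ _),
        hD'.Vinv_tmul b ⟨x.1, le_Q D hQ x.2⟩ hbx, BC.map_tmul]
      exact hVLfull b x.1 x.2

end Groth.L15.DW
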