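import Groth.Prelude.Def_W4c1extbt610Disp
import Mathlib.RingTheory.WittVector.Identities
import Mathlib.RingTheory.WittVector.Truncated
import Mathlib.RingTheory.WittVector.Domain
import Mathlib.RingTheory.WittVector.Teichmuller
import Mathlib.RingTheory.Nilpotent.Lemmas
import Mathlib.RingTheory.Ideal.Quotient.Operations
import Mathlib.RingTheory.Jacobson.Ideal
import Mathlib.Tactic.Ring

/-! Basic facts on `W(R)` for displays. -/

set_option autoImplicit false

namespace Groth.L15.DW

universe u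
open WittVector

variable {p : ℕ} [hp : Fact p.Prime] {R : Type u} [CommRing R]

local notation "𝕎" => WittVector p

theorem V_mul (a b : 𝕎 R) : verschiebung a * b = verschiebung (a * frobenius b) :=
  (verschiebung_mul_frobenius a b).symm

theorem exists_V_of_coeff_zero {x : 𝕎 R} (h : x.coeff 0 = 0) : ∃ y, verschiebung y = x := by
  exact ⟨x.shift 1, (eq_iterate_verschiebung (n := 1) (fun i hi => by
    rw [Nat.lt_one_iff.1 hi, h])).symm⟩

theorem mem_IV_iff {x : 𝕎 R} : x ∈ W4c1extbt610.IV p R ↔ x.coeff 0 = 0 := by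
  constructor
  · intro hx
    induction hx using Submodule.span_induction with
    | mem x hx => obtain ⟨y, rfl⟩ := hx; exact verschiebung_coeff_zero y
    | zero => exact zero_coeff p R 0
    | add x y _ _ h h' => rw [add_coeff_zero, h, h', add_zero]
    | smul a x _ h => rw [smul_eq_mul, mul_coeff_zero, h, mul_zero]
  · intro h
    obtain ⟨y, rfl⟩ := exists_V_of_coeff_zero h
    exact W4c1extbt610.verschiebung_mem_IV p R y

theorem IV_eq_ker : W4c1extbt610.IV p R = RingHom.ker (constantCoeff : 𝕎 R →+* R) :=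
  Ideal.ext fun x => by rw [mem_IV_iff, RingHom.mem_ker]; rfl

/-- The inverse of the Verschiebung on `I`. -/
noncomputable def vinvFun (x : W4c1extbt610.IV p R) : 𝕎 R :=
  (exists_V_of_coeff_zero (mem_IV_iff.1 x.2)).choose

theorem V_vinvFun (x : W4c1extbt610.IV p R) : verschiebung (vinvFun x) = x.1 :=
  (exists_V_of_coeff_zero (mem_IV_iff.1 x.2)).choose_spec

/-- `V⁻¹ : I → W`, Frobenius semilinear. -/
noncomputable def vinv : W4c1extbt610.IV p R →ₛₗ[(frobenius : 𝕎 R →+* 𝕎 R)] 𝕎 R where
  toFun := vinvFun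
  map_add' x y := verschiebung_injective p R (by
    rw [map_add, V_vinvFun, V_vinvFun, V_vinvFun]; rfl)
  map_smul' a x := verschiebung_injective p R (by
    rw [V_vinvFun, smul_eq_mul, mul_comm, ← V_mul, V_vinvFun]
    exact mul_comm _ _)

theorem V_vinv (x : W4c1extbt610.IV p R) : verschiebung (vinv x) = x.1 := V_vinvFun x

theorem vinv_V (a : 𝕎 R) (h : verschiebung a ∈ W4c1extbt610.IV p R) : vinv ⟨_, h⟩ = a :=
  verschiebung_injective p R (V_vinv ⟨_, h⟩)

theorem frobenius_IV (x : W4c1extbt610.IV p R) : frobenius x.1 = (p : 𝕎 R) * vinv x := by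
  conv_lhs => rw [← V_vinv x]
  rw [frobenius_verschiebung, mul_comm]

theorem exists_pow_eq_iterate_V (h : IsNilpotent (p : R)) :
    ∀ j : ℕ, ∃ (k : ℕ) (b : 𝕎 R), (p : 𝕎 R) ^ k = verschiebung^[j] b := by
  obtain ⟨M, hM⟩ := h
  obtain ⟨a, ha⟩ := exists_V_of_coeff_zero (x := ((p : 𝕎 R)) ^ M) (by
    have : (constantCoeff : 𝕎 R →+* R) ((p : 𝕎 R) ^ M) = 0 := by rw [map_pow, map_natCast, hM]
    exact this)
  intro j
  induction j with
  | zero => exact ⟨0, 1, by simp⟩
  | succ j ih =>
    obtain ⟨k, b, hb⟩ := ih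
    refine ⟨k + M, a * frobenius b, ?_⟩
    rw [Function.iterate_succ_apply, ← V_mul, ha, pow_add, hb, iterate_verschiebung_mul_left]
    congr 1
    have hF : (frobenius^[j]) ((p : 𝕎 R) ^ M) = (p : 𝕎 R) ^ M := by
      rw [iterate_map_pow, Function.iterate_fixed (map_natCast _ _)]
    rw [hF, mul_comm]

theorem V_pow_succ (y : 𝕎 R) : ∀ n : ℕ,
    verschiebung y ^ (n + 1) = verschiebung ((p : 𝕎 R) ^ n * y ^ (n + 1)) := by
  intro n
  induction n with
  | zero => simp
  | succ n ih =>
    rw [pow_succ, ih, V_mul, frobenius_verschiebung]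
    congr 1
    ring

theorem truncate_iterate_V (b : 𝕎 R) (n : ℕ) : WittVector.truncate n (verschiebung^[n] b) = 0 :=
  (mem_ker_truncate n _).2 fun _ hi => iterate_verschiebung_coeff_eq_zero b hi

theorem isNilpotent_truncate_p (h : IsNilpotent (p : R)) (n : ℕ) :
    IsNilpotent (WittVector.truncate n (p : 𝕎 R)) := by
  obtain ⟨k, b, hb⟩ := exists_pow_eq_iterate_V (p := p) h n
  exact ⟨k, by rw [← map_pow, hb, truncate_iterate_V]⟩

theorem isNilpotent_truncate_IV (h : IsNilpotent (p : R)) (n : ℕ) {x : 𝕎 R}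
    (hx : x ∈ W4c1extbt610.IV p R) : IsNilpotent (WittVector.truncate n x) := by
  obtain ⟨y, rfl⟩ := exists_V_of_coeff_zero (mem_IV_iff.1 hx)
  obtain ⟨k, b, hb⟩ := exists_pow_eq_iterate_V (p := p) h n
  refine ⟨k + 1, ?_⟩
  rw [← map_pow, V_pow_succ, hb, ← RingHom.mem_ker]
  refine (mem_ker_truncate n _).2 fun i hi => ?_
  obtain ⟨w, hw⟩ : ∃ w, verschiebung^[n] b * y ^ (k + 1) = verschiebung^[n] w :=
    ⟨_, iterate_verschiebung_mul_left b _ n⟩
  rw [hw, ← Function.iterate_succ_apply' verschiebung n w]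
  exact iterate_verschiebung_coeff_eq_zero w (Nat.lt_succ_of_lt hi)

/-- An element whose truncations are units is a unit. -/
theorem isUnit_of_truncate {x : 𝕎 R} (h : ∀ n, IsUnit (WittVector.truncate n x)) : IsUnit x := by
  classical
  choose z hz using fun n => (h n).exists_right_inv
  have hcompat : ∀ {m n : ℕ} (hmn : m ≤ n), TruncatedWittVector.truncate hmn (z n) = z m := by
    intro m n hmn
    apply (h m).mul_left_cancel
    rw [hz m, ← TruncatedWittVector.truncate_wittVector_truncate hmn, ← map_mul, hz n, map_one]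
  let w : 𝕎 R := WittVector.mk p fun i => (z (i + 1)).coeff (Fin.last i)
  have hw : ∀ n, WittVector.truncate n w = z n := by
    intro n
    refine TruncatedWittVector.ext fun i => ?_
    rw [coeff_truncate, coeff_mk, ← hcompat (show i.val + 1 ≤ n from i.2),
      TruncatedWittVector.coeff_truncate]
    rfl
  refine IsUnit.of_mul_eq_one w ?_
  refine WittVector.ext fun n => ?_
  have := congrArg (fun t : TruncatedWittVector p (n + 1) R => t.coeff (Fin.last n))
    (show WittVector.truncate (n + 1) (x * w) = WittVector.truncate (n + 1) (1 : 𝕎 R) by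
      rw [map_mul, map_one, hw, hz])
  simpa only [coeff_truncate, Fin.val_last] using this

theorem isUnit_one_add (h : IsNilpotent (p : R)) {x : 𝕎 R} (hx : x ∈ W4c1extbt610.IV p R) :
    IsUnit (1 + x) :=
  isUnit_of_truncate fun n => by
    rw [map_add, map_one]; exact (isNilpotent_truncate_IV h n hx).isUnit_one_add

theorem isUnit_of_constantCoeff (h : IsNilpotent (p : R)) {x : 𝕎 R} (hx : IsUnit (x.coeff 0)) :
    IsUnit x := by
  obtain ⟨c, hc⟩ := hx.exists_right_inv
  have hmem : x * teichmuller p c - 1 ∈ W4c1extbt610.IV p R := by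
    rw [IV_eq_ker, RingHom.mem_ker, map_sub, map_mul, map_one]
    show x.coeff 0 * (teichmuller p c).coeff 0 - 1 = 0
    rw [teichmuller_coeff_zero, hc, sub_self]
  have := isUnit_one_add h hmem
  rw [add_sub_cancel] at this
  exact isUnit_of_mul_isUnit_left this

theorem mem_of_isMaximal (h : IsNilpotent (p : R)) (m : Ideal (𝕎 R)) [hm : m.IsMaximal] :
    W4c1extbt610.IV p R ≤ m := by
  have hJ : W4c1extbt610.IV p R ≤ Ideal.jacobson ⊥ := by
    intro x hx
    rw [Ideal.mem_jacobson_bot]
    intro y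
    rw [add_comm]
    exact isUnit_one_add h (Ideal.mul_mem_right _ _ hx)
  exact hJ.trans (sInf_le ⟨bot_le, hm⟩)

theorem p_mem_of_isMaximal (h : IsNilpotent (p : R)) (m : Ideal (𝕎 R)) [hm : m.IsMaximal] :
    (p : 𝕎 R) ∈ m := by
  obtain ⟨k, b, hb⟩ := exists_pow_eq_iterate_V (p := p) h 1
  apply hm.isPrime.mem_of_pow_mem k
  rw [hb]
  exact mem_of_isMaximal h m (W4c1extbt610.verschiebung_mem_IV p R b)

theorem frob_teich (r : R) : frobenius (teichmuller p r) = teichmuller p r ^ p := by
  let P := MvPolynomial PUnit.{u+1} ℤ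
  let Q := MvPolynomial PUnit.{u+1} ℚ
  have key : ∀ r : P, frobenius (teichmuller p r) = teichmuller p r ^ p := by
    intro r
    apply WittVector.map_injective (MvPolynomial.map (Int.castRingHom ℚ))
      (MvPolynomial.map_injective _ Int.cast_injective)
    rw [(frobenius_isPoly p).map, map_pow, map_teichmuller]
    apply (ghostMap.bijective_of_invertible p Q).1
    ext n
    simp only [ghostMap_apply, ghostComponent_frobenius, map_pow, ghostComponent_teichmuller]
    rw [← pow_mul, ← pow_succ]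
  let e : P →+* R := MvPolynomial.eval₂Hom (Int.castRingHom R) fun _ => r
  have := congrArg (WittVector.map e) (key (MvPolynomial.X PUnit.unit))
  rwa [(frobenius_isPoly p).map, map_pow, map_teichmuller,
    show e (MvPolynomial.X PUnit.unit) = r from MvPolynomial.eval₂Hom_X' _ _ _] at this

theorem sub_teich_coeff_zero (x : 𝕎 R) : (x - teichmuller p (x.coeff 0)).coeff 0 = 0 := by
  have h : (constantCoeff : 𝕎 R →+* R) (x - teichmuller p (x.coeff 0)) = 0 := by
    rw [map_sub]
    show x.coeff 0 - (teichmuller p (x.coeff 0)).coeff 0 = 0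
    rw [teichmuller_coeff_zero, sub_self]
  exact h

theorem frobenius_sub_pow_mem (x : 𝕎 R) : frobenius x - x ^ p ∈ Ideal.span {(p : 𝕎 R)} := by
  set t := teichmuller p (x.coeff 0) with htdef
  have ht : frobenius t = t ^ p := frob_teich (x.coeff 0)
  obtain ⟨y, hy⟩ := exists_V_of_coeff_zero (sub_teich_coeff_zero x)
  rw [← htdef] at hy
  obtain ⟨a, ha⟩ : ∃ a, frobenius (x - t) = (p : 𝕎 R) * a :=
    ⟨y, by rw [← hy, frobenius_verschiebung, mul_comm]⟩
  rw [map_sub, ht] at ha
  obtain ⟨q, hq⟩ : ∃ q, x ^ p = t ^ p + (x - t) ^ p + (p : 𝕎 R) * q := by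
    obtain ⟨r, hr⟩ := exists_add_pow_prime_eq hp.out t (x - t)
    exact ⟨t * (x - t) * r, by rw [add_sub_cancel] at hr; rw [hr]; ring⟩
  have h2 : (x - t) ^ p ∈ Ideal.span {(p : 𝕎 R)} := by
    have h := V_pow_succ y (p - 1)
    rw [Nat.sub_add_cancel hp.out.one_le] at h
    rw [← hy, h, show p - 1 = (p - 2) + 1 from by have := hp.out.two_le; omega, pow_succ', mul_assoc,
      ← nsmul_eq_mul, map_nsmul, nsmul_eq_mul]
    exact Ideal.mul_mem_right _ _ (Ideal.mem_span_singleton_self _)
  rw [Ideal.mem_span_singleton] at h2 ⊢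
  rw [hq, show frobenius x - (t ^ p + (x - t) ^ p + (p : 𝕎 R) * q) =
    (p : 𝕎 R) * a - (x - t) ^ p - (p : 𝕎 R) * q by rw [← ha]; ring]
  exact dvd_sub (dvd_sub (dvd_mul_right _ _) h2) (dvd_mul_right _ _)

theorem frobenius_mem_iff (h : IsNilpotent (p : R)) (m : Ideal (𝕎 R)) [hm : m.IsMaximal] (x : 𝕎 R) :
    frobenius x ∈ m ↔ x ∈ m := by
  have h1 : frobenius x - x ^ p ∈ m :=
    (Ideal.span_singleton_le_iff_mem m).2 (p_mem_of_isMaximal h m) (frobenius_sub_pow_mem x)
  refine ⟨fun h2 => hm.isPrime.mem_of_pow_mem p ((Submodule.sub_mem_iff_right _ h2).1 h1), fun h2 => ?_⟩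
  exact (Submodule.sub_mem_iff_left _ (m.pow_mem_of_mem h2 p hp.out.pos)).1 h1

theorem map_frobenius {S : Type u} [CommRing S] (f : R →+* S) (x : 𝕎 R) :
    WittVector.map f (frobenius x) = frobenius (WittVector.map f x) :=
  (frobenius_isPoly p).map f x

theorem map_verschiebung {S : Type u} [CommRing S] (f : R →+* S) (x : 𝕎 R) :
    WittVector.map f (verschiebung x) = verschiebung (WittVector.map f x) :=
  WittVector.map_verschiebung f x

end Groth.L15.DW
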