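import Groth.Agent.L15.DW.Nilp
import Mathlib.LinearAlgebra.Basis.Prod
import Mathlib.LinearAlgebra.Matrix.Basis

/-! The matrix criterion for the nilpotence condition. -/

set_option autoImplicit false

namespace Groth.L15.DW

universe u v w
open WittVector W4c1extbt610 Dieu

variable {p : ℕ} [hp : Fact p.Prime] {R : Type u} [CommRing R]
  {P : Type v} [AddCommGroup P] [Module (WittVector p R) P]

local notation "σ" => (WittVector.frobenius : WittVector p R →+* WittVector p R)

/-- Reduction `W → R / p`. -/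
noncomputable def θ : WittVector p R →+* R ⧸ Ideal.span {(p : R)} :=
  (Ideal.Quotient.mk _).comp constantCoeff

theorem mem_J0_iff {a : WittVector p R} : a ∈ (J0 : Ideal (WittVector p R)) ↔ θ a = 0 := by
  constructor
  · intro ha
    obtain ⟨x, hx, y, hy, rfl⟩ := Submodule.mem_sup.1 ha
    obtain ⟨c, rfl⟩ := Ideal.mem_span_singleton'.1 hy
    rw [map_add, θ, RingHom.comp_apply, RingHom.comp_apply, map_mul, map_natCast, map_mul, map_natCast,
      show constantCoeff x = 0 from mem_IV_iff.1 hx, map_zero, zero_add,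
      ← map_natCast (Ideal.Quotient.mk (Ideal.span {(p : R)})),
      Ideal.Quotient.eq_zero_iff_mem.2 (Ideal.mem_span_singleton_self _), mul_zero]
  · intro h
    obtain ⟨r, hr⟩ := Ideal.mem_span_singleton'.1 (Ideal.Quotient.eq_zero_iff_mem.1 h)
    rw [← sub_add_cancel a (teichmuller p r * (p : WittVector p R))]
    refine Submodule.add_mem_sup ?_ (Ideal.mul_mem_left _ _ (Ideal.mem_span_singleton_self _))
    rw [IV_eq_ker, RingHom.mem_ker, map_sub, map_mul, map_natCast, ← hr]
    show r * (p : R) - (teichmuller p r).coeff 0 * (p : R) = 0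
    rw [teichmuller_coeff_zero, sub_self]

theorem θ_σ_iterate (a : WittVector p R) : ∀ m, θ ((σ)^[m] a) = θ a ^ p ^ m := by
  have h1 : ∀ a : WittVector p R, θ (σ a) = θ a ^ p := fun a => by
    rw [← map_pow, ← sub_eq_zero, ← map_sub]
    exact mem_J0_iff.1 (Ideal.mem_sup_right (frobenius_sub_pow_mem a))
  intro m
  induction m with
  | zero => simp
  | succ m ih => rw [Function.iterate_succ_apply', h1, ih, ← pow_mul, pow_succ]

theorem isDisplay_iff_matrix (hnil : IsNilpotent (p : R)) (D : Display3n p R P)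
    {L T : Submodule (WittVector p R) P} (hLT : IsCompl L T) (hLQ : L ≤ D.Q)
    {ιT ιL : Type w} [Fintype ιT] [Fintype ιL] [DecidableEq ιT] [DecidableEq ιL]
    (bT : Module.Basis ιT (WittVector p R) T) (bL : Module.Basis ιL (WittVector p R) L)
    (α β : Matrix (ιT ⊕ ιL) (ιT ⊕ ιL) (WittVector p R)) (hαβ : α * β = 1)
    (hF : ∀ j : ιT, D.F (bT j : P) =
      Finset.univ.sum fun i : ιT ⊕ ιL => α i (Sum.inl j) • Sum.elim (fun a : ιT => (bT a : P)) (fun a : ιL => (bL a : P)) i)
    (hV : ∀ k : ιL, D.Vinv ⟨(bL k : P), hLQ (bL k).2⟩ =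
      Finset.univ.sum fun i : ιT ⊕ ιL => α i (Sum.inr k) • Sum.elim (fun a : ιT => (bT a : P)) (fun a : ιL => (bL a : P)) i) :
    IsDisplay D ↔
      ∃ N : ℕ, 0 < N ∧
        (((List.range N).reverse.map fun i : ℕ =>
            (Matrix.of fun k l : ιL =>
                Ideal.Quotient.mk (Ideal.span {(p : R)}) (WittVector.constantCoeff (β (Sum.inr k) (Sum.inr l)))).map
              fun x : R ⧸ Ideal.span {(p : R)} => x ^ p ^ i).prod
          = 0) := by
  classical
  let b : Module.Basis (ιT ⊕ ιL) (WittVector p R) P :=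
    (bT.prod bL).map (Submodule.prodEquivOfIsCompl T L hLT.symm)
  have hb : ∀ i, b i = Sum.elim (fun a : ιT => (bT a : P)) (fun a : ιL => (bL a : P)) i := by
    rintro (j | k) <;> simp [b]
  let φ : (ιT ⊕ ιL) → (P →ₗ[WittVector p R] WittVector p R) := fun i => b.coord i
  have hφ : ∀ x, ∑ i, φ i x • b i = x := fun x => b.sum_repr x
  have hBmat : ∀ Vs, IsVSharp D Vs →
      matV (fun i => b i) φ Vs =
        Matrix.diagonal (Sum.elim (fun _ => (p : WittVector p R)) (fun _ => 1)) * β := by
    intro Vs hVs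
    suffices h : matV (fun i => b i) φ Vs * α =
        Matrix.diagonal (Sum.elim (fun _ => (p : WittVector p R)) (fun _ => 1)) by
      rw [← h, Matrix.mul_assoc, hαβ, Matrix.mul_one]
    refine Matrix.ext fun l i => ?_
    have hcol : (matV (fun i => b i) φ Vs * α) l i = bcFun σ (φ l) (Vs (∑ m, α m i • b m)) := by
      simp only [Matrix.mul_apply, matV, Matrix.of_apply, map_sum, map_smul, smul_eq_mul, mul_comm (α _ i)]
    rw [hcol]
    simp only [hb]
    rcases i with j | k
    · have h := hVs.app_smul_F 1 (bT j : P)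
      rw [one_smul] at h
      rw [← hF, h, map_smul, bcFun_tmul, one_mul, show (bT j : P) = b (Sum.inl j) from (hb (Sum.inl j)).symm,
        show φ l (b (Sum.inl j)) = if Sum.inl j = l then 1 else 0 from b.repr_self_apply _ _, Matrix.diagonal_apply]
      by_cases e : Sum.inl j = l
      · subst e; simp
      · rw [if_neg e, if_neg (Ne.symm e), map_zero, smul_zero]
    · have h := hVs.app_smul_Vinv 1 ⟨(bL k : P), hLQ (bL k).2⟩
      rw [one_smul] at h
      rw [← hV, h, bcFun_tmul, one_mul, show (bL k : P) = b (Sum.inr k) from (hb (Sum.inr k)).symm,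
        show φ l (b (Sum.inr k)) = if Sum.inr k = l then 1 else 0 from b.repr_self_apply _ _, Matrix.diagonal_apply]
      by_cases e : Sum.inr k = l
      · subst e; simp
      · rw [if_neg e, if_neg (Ne.symm e), map_zero]
  let Y : Matrix ιL ιL (R ⧸ Ideal.span {(p : R)}) := Matrix.of fun k l =>
    Ideal.Quotient.mk (Ideal.span {(p : R)}) (WittVector.constantCoeff (β (Sum.inr k) (Sum.inr l)))
  let Pn : ℕ → Matrix ιL ιL (R ⧸ Ideal.span {(p : R)}) := fun N =>
    ((List.range N).reverse.map fun i : ℕ => Y.map fun x => x ^ p ^ i).prod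
  have hPn : ∀ N, Pn (N + 1) = (Y.map fun x => x ^ p ^ N) * Pn N := fun N => by
    simp only [Pn, List.range_succ, List.reverse_append, List.reverse_singleton, List.singleton_append,
      List.map_cons, List.prod_cons]
  have hmain : ∀ Vs, IsVSharp D Vs →
      ((∃ n, ∀ i j, matPow (fun i => b i) φ Vs n i j ∈ (J0 : Ideal (WittVector p R))) ↔
        ∃ N, 0 < N ∧ Pn N = 0) := by
    intro Vs hVs
    let C := fun n => (matPow (fun i => b i) φ Vs n).map θ
    let X := (matV (fun i => b i) φ Vs).map θ
    have hXl : ∀ j i, X (Sum.inl j) i = 0 := fun j i => by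
      simp only [X, hBmat Vs hVs, Matrix.map_apply, Matrix.diagonal_mul, Sum.elim_inl, map_mul]
      rw [mem_J0_iff.1 (Ideal.mem_sup_right (Ideal.mem_span_singleton_self _)), zero_mul]
    have hXr : ∀ k l, X (Sum.inr k) (Sum.inr l) = Y k l := fun k l => by
      simp only [X, hBmat Vs hVs, Matrix.map_apply, Matrix.diagonal_mul, Sum.elim_inr, one_mul]
      rfl
    have hC0 : C 0 = X := by simp only [C, X, matPow_zero]
    have hCl : ∀ n i j, C (n + 1) i j = ∑ l, X i l ^ p ^ (n + 1) * C n l j := fun n i j => by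
      simp only [C, X, matPow_succ_left Vs hφ n, Matrix.map_apply, Matrix.mul_apply, map_sum, map_mul, θ_σ_iterate]
    have hCr : ∀ n i j, C (n + 1) i j = ∑ l, C n i l ^ p * X l j := fun n i j => by
      simp only [C, X, matPow_succ Vs hφ n, Matrix.map_apply, Matrix.mul_apply, map_sum, map_mul]
      refine Finset.sum_congr rfl fun l _ => ?_
      have h := θ_σ_iterate (p := p) (matPow (fun i => b i) φ Vs n i l) 1
      rw [Function.iterate_one, pow_one] at h
      exact congrArg (· * _) h
    have hp0 : ∀ m : ℕ, (0 : R ⧸ Ideal.span {(p : R)}) ^ p ^ m = 0 := fun m =>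
      zero_pow (pow_ne_zero _ hp.out.ne_zero)
    have hCinl : ∀ n j i, C n (Sum.inl j) i = 0 := by
      intro n
      induction n with
      | zero => intro j i; rw [hC0]; exact hXl j i
      | succ n _ =>
        intro j i
        rw [hCl]
        exact Finset.sum_eq_zero fun l _ => by rw [hXl, hp0, zero_mul]
    have hCrr : ∀ n k l, C n (Sum.inr k) (Sum.inr l) = Pn (n + 1) k l := by
      intro n
      induction n with
      | zero =>
        intro k l
        rw [hC0, hXr]
        show _ = (((List.range 1).reverse.map fun i : ℕ => Y.map fun x => x ^ p ^ i).prod) k l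
        simp
      | succ n ih =>
        intro k l
        rw [hCl, Fintype.sum_sum_type, Finset.sum_eq_zero fun j _ => by rw [hCinl, mul_zero], zero_add,
          hPn (n + 1), Matrix.mul_apply]
        exact Finset.sum_congr rfl fun m _ => by rw [hXr, ih, Matrix.map_apply]
    have hC : ∀ n, (∀ i j, matPow (fun i => b i) φ Vs n i j ∈ (J0 : Ideal (WittVector p R))) ↔
        ∀ i j, C n i j = 0 := fun n => forall_congr' fun i => forall_congr' fun j => mem_J0_iff
    constructor
    · rintro ⟨n, hn⟩
      refine ⟨n + 1, n.succ_pos, Matrix.ext fun k l => ?_⟩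
      rw [← hCrr, (hC n).1 hn]
      rfl
    · rintro ⟨N, hN, hP⟩
      obtain ⟨n, rfl⟩ : ∃ n, N = n + 1 := ⟨N - 1, by omega⟩
      refine ⟨n + 1, (hC _).2 fun i j => ?_⟩
      rw [hCr, Fintype.sum_sum_type, Finset.sum_eq_zero fun l _ => by rw [hXl, mul_zero], zero_add]
      refine Finset.sum_eq_zero fun l _ => ?_
      rcases i with a | a
      · rw [hCinl, zero_pow hp.out.ne_zero, zero_mul]
      · rw [hCrr, hP, Matrix.zero_apply, zero_pow hp.out.ne_zero, zero_mul]
  constructor
  · rintro ⟨Vs, hVs, hn⟩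
    exact (hmain Vs hVs).1 ((isVNilpotent_iff hφ Vs).1 hn)
  · intro h
    obtain ⟨Vs, hVs, -⟩ := exists_vsharp D hnil
    exact ⟨Vs, hVs, (isVNilpotent_iff hφ Vs).2 ((hmain Vs hVs).2 h)⟩

end Groth.L15.DW
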