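import Groth.Agent.L15.DW.Mk
import Mathlib.RingTheory.AdicCompletion.Basic
import Mathlib.Tactic.NoncommRing

/-! Lifting idempotent endomorphisms over an adically complete ring. -/

set_option autoImplicit false

namespace Groth.L15.DW

universe u v

variable {A : Type u} [CommRing A] (I : Ideal A) {M : Type v} [AddCommGroup M] [Module A M]

/-- `f` takes values in `J M`. -/
def Into (J : Ideal A) (f : Module.End A M) : Prop := ∀ x, f x ∈ J • (⊤ : Submodule A M)

theorem Into.mul {J K : Ideal A} {f g : Module.End A M} (hg : Into K g) (hf : Into J f) :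
    Into (J * K) (g * f) := by
  intro x
  rw [Module.End.mul_apply]
  refine Submodule.smul_induction_on (hf x) (fun a ha t _ => ?_) (fun a b ha hb => ?_)
  · rw [map_smul, ← smul_eq_mul, Submodule.smul_assoc]
    exact Submodule.smul_mem_smul ha (hg t)
  · rw [map_add]; exact add_mem ha hb

theorem Into.mul_left {J : Ideal A} {f : Module.End A M} (hf : Into J f) (g : Module.End A M) :
    Into J (g * f) := by
  intro x
  exact Submodule.smul_top_le_comap_smul_top J g (hf x)

theorem Into.mul_right {J : Ideal A} {f : Module.End A M} (hf : Into J f) (g : Module.End A M) :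
    Into J (f * g) := fun x => hf (g x)

theorem Into.add {J : Ideal A} {f g : Module.End A M} (hf : Into J f) (hg : Into J g) :
    Into J (f + g) := fun x => add_mem (hf x) (hg x)

theorem Into.neg {J : Ideal A} {f : Module.End A M} (hf : Into J f) : Into J (-f) := fun x => neg_mem (hf x)

theorem Into.mono {J K : Ideal A} {f : Module.End A M} (hf : Into J f) (h : J ≤ K) : Into K f :=
  fun x => Submodule.smul_mono h le_rfl (hf x)

/-- One Newton step. -/
def newton (a : Module.End A M) : Module.End A M := 3 * (a * a) - 2 * (a * a * a)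

theorem newton_sq (a : Module.End A M) :
    newton a * newton a - newton a = (a * a - a) * (a * a - a) * (4 * (a * a - a) - 3) := by
  rw [newton]; noncomm_ring

theorem newton_sub (a : Module.End A M) : newton a - a = -((2 * a - 1) * (a * a - a)) := by
  rw [newton]; noncomm_ring

theorem exists_idempotent_lift' [Module.Finite A M] [Module.Projective A M]
    (G : ℕ → Ideal A) (hle : ∀ n, ∃ K, I ^ K ≤ G n)
    (hcomp : ∀ f : ℕ → A, (∀ m n, m ≤ n → f m - f n ∈ G m) → ∃ L, ∀ n, f n - L ∈ G n)
    (hhaus : ∀ x, (∀ n, x ∈ G n) → x = 0) (hG1 : ∃ m, G m ≤ I)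
    (a : Module.End A M) (ha : Into I (a * a - a)) :
    ∃ E : Module.End A M, IsIdempotentElem E ∧ Into I (E - a) := by
  obtain ⟨d, e, φ, hφ⟩ := exists_dual_basis A M
  let s : ℕ → Module.End A M := fun m => newton^[m] a
  have hs1 : ∀ m, s (m + 1) = newton (s m) := fun m => Function.iterate_succ_apply' _ _ _
  have hinv : ∀ m, Into (I ^ (m + 1)) (s m * s m - s m) := by
    intro m
    induction m with
    | zero => rw [zero_add, pow_one]; exact ha
    | succ m ih =>
      rw [hs1, newton_sq]
      refine ((ih.mul ih).mul_right _).mono ?_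
      rw [← pow_add]; exact Ideal.pow_le_pow_right (by omega)
  have hstep : ∀ m, Into (I ^ (m + 1)) (s (m + 1) - s m) := fun m => by
    rw [hs1, newton_sub]; exact ((hinv m).mul_left _).neg
  have hmono : ∀ m n, m ≤ n → Into (I ^ (m + 1)) (s n - s m) := by
    intro m n hmn
    induction n, hmn using Nat.le_induction with
    | base => intro x; simp
    | succ n hn ih =>
      rw [show s (n + 1) - s m = (s (n + 1) - s n) + (s n - s m) by abel]
      exact ((hstep n).mono (Ideal.pow_le_pow_right (by omega))).add ih
  have hcoef : ∀ (J : Ideal A) (z : M), z ∈ J • (⊤ : Submodule A M) → ∀ i, φ i z ∈ J := by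
    intro J z hz i
    refine Submodule.smul_induction_on hz (fun a ha t _ => ?_) (fun a b ha hb => ?_)
    · rw [map_smul, smul_eq_mul]; exact J.mul_mem_right _ ha
    · rw [map_add]; exact add_mem ha hb
  choose K hK using hle
  let K' : ℕ → ℕ := fun n => n + ∑ i ∈ Finset.range (n + 1), K i
  have hK'mono : ∀ m n, m ≤ n → K' m ≤ K' n := fun m n h =>
    Nat.add_le_add h (Finset.sum_le_sum_of_subset fun i hi => Finset.mem_range.2 (by
      have := Finset.mem_range.1 hi; omega))
  have hK' : ∀ n, I ^ K' n ≤ G n := fun n =>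
    (Ideal.pow_le_pow_right (le_add_left (Finset.single_le_sum (f := K) (fun i _ => Nat.zero_le _)
      (Finset.self_mem_range_succ n)))).trans (hK n)
  have hlim : ∀ i j : Fin d, ∃ L : A, ∀ n, φ i (s (K' n) (e j)) - L ∈ G n := by
    intro i j
    refine hcomp (fun n => φ i (s (K' n) (e j))) fun m n hmn => ?_
    rw [← map_sub, ← neg_sub, map_neg]
    exact neg_mem (hK' m (Ideal.pow_le_pow_right (Nat.le_succ _) (hcoef _ _ (hmono _ _ (hK'mono m n hmn) (e j)) i)))
  choose L hL using hlim
  let E : Module.End A M :=
    ∑ i, ∑ j, (L i j • φ j).smulRight (e i)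
  have hE : ∀ n, Into (G n) (E - s (K' n)) := by
    intro n x
    have h1 : s (K' n) x = ∑ i, ∑ j, (φ i (s (K' n) (e j)) * φ j x) • e i := by
      conv_lhs => rw [← hφ (s (K' n) x)]
      refine Finset.sum_congr rfl fun i _ => ?_
      rw [← Finset.sum_smul]
      congr 1
      conv_lhs => rw [← hφ x, map_sum, map_sum]
      exact Finset.sum_congr rfl fun j _ => by rw [map_smul, map_smul, smul_eq_mul, mul_comm]
    rw [LinearMap.sub_apply, h1]
    simp only [E, LinearMap.sum_apply, LinearMap.smulRight_apply, LinearMap.smul_apply, smul_eq_mul,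
      ← Finset.sum_sub_distrib, ← sub_smul, ← sub_mul]
    refine Submodule.sum_mem _ fun i _ => Submodule.sum_mem _ fun j _ => Submodule.smul_mem_smul ?_ trivial
    rw [← neg_sub, neg_mul]
    exact neg_mem (Ideal.mul_mem_right _ _ (hL i j n))
  refine ⟨E, ?_, ?_⟩
  · show E * E = E
    rw [← sub_eq_zero]
    have hz : ∀ n, Into (G n) (E * E - E) := by
      intro n
      rw [show E * E - E = (E - s (K' n)) * E + s (K' n) * (E - s (K' n)) + (s (K' n) * s (K' n) - s (K' n)) +
        -(E - s (K' n)) by noncomm_ring]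
      exact ((((hE n).mul_right _).add ((hE n).mul_left _)).add
        ((hinv _).mono ((Ideal.pow_le_pow_right (Nat.le_succ _)).trans (hK' n)))).add (hE n).neg
    ext x
    rw [LinearMap.zero_apply, ← hφ ((E * E - E) x)]
    refine Finset.sum_eq_zero fun i _ => ?_
    suffices h : φ i ((E * E - E) x) = 0 by rw [h, zero_smul]
    exact hhaus _ fun n => hcoef _ _ (hz n x) i
  · obtain ⟨m, hm⟩ := hG1
    rw [show E - a = (E - s (K' m)) + (s (K' m) - s 0) by show _ = (E - s (K' m)) + (s (K' m) - a); abel]
    have h1 := hmono 0 (K' m) (Nat.zero_le _)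
    rw [zero_add, pow_one] at h1
    exact ((hE m).mono hm).add h1

theorem exists_idempotent_lift [IsAdicComplete I A] [Module.Finite A M] [Module.Projective A M]
    (a : Module.End A M) (ha : Into I (a * a - a)) :
    ∃ E : Module.End A M, IsIdempotentElem E ∧ Into I (E - a) := by
  refine exists_idempotent_lift' I (fun n => I ^ n) (fun n => ⟨n, le_rfl⟩) (fun f hf => ?_) (fun x hx => ?_)
    ⟨1, (pow_one I).le⟩ a ha
  · obtain ⟨L, hL⟩ := IsPrecomplete.prec (inferInstance : IsPrecomplete I A) (f := f) (fun {m n} hmn => by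
      rw [SModEq.sub_mem, smul_eq_mul, Ideal.mul_top]; exact hf m n hmn)
    refine ⟨L, fun n => ?_⟩
    have h := hL n
    rwa [SModEq.sub_mem, smul_eq_mul, Ideal.mul_top] at h
  · refine IsHausdorff.haus (inferInstance : IsHausdorff I A) _ fun n => ?_
    rw [SModEq.zero, smul_eq_mul, Ideal.mul_top]
    exact hx n

end Groth.L15.DW
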