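import Groth.Agent.L15.DW.Disp
import Mathlib.RingTheory.Finiteness.Projective
import Mathlib.LinearAlgebra.Projection
import Mathlib.LinearAlgebra.StdBasis

/-! Construction of 3n-displays from normal decompositions. -/

set_option autoImplicit false

namespace Groth.L15.DW

universe u v
open WittVector W4c1extbt610

/-- Dual basis of a finite projective module. -/
theorem exists_dual_basis (A : Type u) [CommRing A] (P : Type v) [AddCommGroup P] [Module A P]
    [Module.Finite A P] [Module.Projective A P] :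
    ∃ (n : ℕ) (e : Fin n → P) (φ : Fin n → (P →ₗ[A] A)), ∀ x, ∑ i, φ i x • e i = x := by
  classical
  obtain ⟨n, r, s, -, -, hrs⟩ := Module.Finite.exists_comp_eq_id_of_projective A P
  refine ⟨n, fun i => r (Pi.single i 1), fun i => (LinearMap.proj i).comp s, fun x => ?_⟩
  conv_rhs => rw [← LinearMap.id_apply (R := A) x, ← hrs, LinearMap.comp_apply, pi_eq_sum_univ' (s x)]
  rw [map_sum]
  exact Finset.sum_congr rfl fun i _ => (map_smul r _ _).symm

variable {p : ℕ} [hp : Fact p.Prime] {R : Type u} [CommRing R]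
  {P : Type v} [AddCommGroup P] [Module (WittVector p R) P]

local notation "σ" => (WittVector.frobenius : WittVector p R →+* WittVector p R)

/-- Induction on `Q`: it suffices to treat `L` and `V c • t`. -/
theorem Q_induction (D : Display3n p R P) {L T : Submodule (WittVector p R) P}
    (hQ : D.Q = L ⊔ IV p R • T) {C : D.Q → Prop}
    (hadd : ∀ a b, C a → C b → C (a + b))
    (hL : ∀ (l : P) (hl : l ∈ L), C ⟨l, le_Q D hQ hl⟩)
    (hT : ∀ (c : WittVector p R) (t : P), t ∈ T → C ⟨verschiebung c • t, V_smul_mem D c t⟩)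
    (y : D.Q) : C y := by
  obtain ⟨y, hy⟩ := y
  have hy' : y ∈ L ⊔ IV p R • T := hQ ▸ hy
  obtain ⟨l, hl, z, hz, rfl⟩ := Submodule.mem_sup.1 hy'
  have hzQ : z ∈ D.Q := hQ ▸ Submodule.mem_sup_right hz
  rw [show (⟨l + z, hy⟩ : D.Q) = ⟨l, le_Q D hQ hl⟩ + ⟨z, hzQ⟩ from rfl]
  refine hadd _ _ (hL l hl) ?_
  suffices ∀ z, z ∈ IV p R • T → ∃ h : z ∈ D.Q, C ⟨z, h⟩ by
    obtain ⟨_, h⟩ := this z hz
    exact h
  intro z hz
  refine Submodule.smul_induction_on hz (fun a ha t ht => ?_) ?_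
  · obtain ⟨c, rfl⟩ := exists_V_of_coeff_zero (mem_IV_iff.1 ha)
    exact ⟨V_smul_mem D c t, hT c t ht⟩
  · rintro a b ⟨ha, iha⟩ ⟨hb, ihb⟩
    exact ⟨D.Q.add_mem ha hb, hadd ⟨a, ha⟩ ⟨b, hb⟩ iha ihb⟩

/-- Two displays with the same `Q` and `F` whose `V⁻¹` agree on `L` are equal. -/
theorem Display3n_ext (D D' : Display3n p R P) {L T : Submodule (WittVector p R) P}
    (hQ : D.Q = L ⊔ IV p R • T) (hQQ : D.Q = D'.Q) (hF : D.F = D'.F)
    (hV : ∀ (l : P) (h : l ∈ L) (h' : l ∈ D'.Q), D.Vinv ⟨l, le_Q D hQ h⟩ = D'.Vinv ⟨l, h'⟩) : D = D' := by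
  have key : ∀ y : D.Q, D.Vinv y = D'.Vinv ⟨y.1, hQQ ▸ y.2⟩ := by
    refine Q_induction D hQ (fun a b ha hb => ?_) (fun l hl => hV l hl _) (fun c t _ => ?_)
    · rw [map_add, ha, hb, ← map_add]; rfl
    · rw [Vinv_V_smul D c t]
      refine Eq.trans ?_ (Vinv_V_smul D' c t (V_smul_mem D' c t)).symm
      rw [hF]
  obtain ⟨Q, F, Vi, h1, h2, h3, h4, h5, h6⟩ := D
  obtain ⟨Q', F', Vi', h1', h2', h3', h4', h5', h6'⟩ := D'
  dsimp only at hQQ hF key
  subst hQQ hF
  have : Vi = Vi' := LinearMap.ext key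
  subst this
  rfl

theorem apply_mem_of_mem_IV_smul (φ : P →ₗ[WittVector p R] WittVector p R) {S : Submodule (WittVector p R) P}
    {z : P} (hz : z ∈ IV p R • S) : φ z ∈ IV p R := by
  refine Submodule.smul_induction_on hz (fun a ha t _ => ?_) (fun a b ha hb => ?_)
  · rw [map_smul, smul_eq_mul]; exact Ideal.mul_mem_right _ _ ha
  · rw [map_add]; exact add_mem ha hb

/-- `V⁻¹` on `I • P`, through a dual basis. -/
noncomputable def vinvPart {n : ℕ} (e : Fin n → P) (φ : Fin n → (P →ₗ[WittVector p R] WittVector p R))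
    (F : P →ₛₗ[σ] P) : (IV p R • (⊤ : Submodule (WittVector p R) P) : Submodule _ _) →ₛₗ[σ] P where
  toFun z := ∑ i, vinv (p := p) ⟨φ i z.1, apply_mem_of_mem_IV_smul (φ i) z.2⟩ • F (e i)
  map_add' a b := by
    rw [← Finset.sum_add_distrib]
    refine Finset.sum_congr rfl fun i _ => ?_
    rw [← add_smul, ← map_add]
    congr 2
    exact Subtype.ext (map_add (φ i) _ _)
  map_smul' a z := by
    rw [Finset.smul_sum]
    refine Finset.sum_congr rfl fun i _ => ?_
    rw [smul_smul, ← smul_eq_mul, ← LinearMap.map_smulₛₗ]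
    congr 2
    exact Subtype.ext (map_smul (φ i) _ _)

theorem vinvPart_V_smul {n : ℕ} (e : Fin n → P) (φ : Fin n → (P →ₗ[WittVector p R] WittVector p R))
    (F : P →ₛₗ[σ] P) (hφ : ∀ x, ∑ i, φ i x • e i = x) (w : WittVector p R) (x : P)
    (h : verschiebung w • x ∈ IV p R • (⊤ : Submodule (WittVector p R) P)) :
    vinvPart e φ F ⟨_, h⟩ = w • F x := by
  conv_rhs => rw [← hφ x, map_sum, Finset.smul_sum]
  show ∑ i, vinv (p := p) _ • F (e i) = _
  refine Finset.sum_congr rfl fun i _ => ?_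
  rw [F.map_smulₛₗ, smul_smul]
  congr 1
  apply verschiebung_injective p R
  rw [V_vinv, ← V_mul]
  exact map_smul (φ i) _ _

variable {L T : Submodule (WittVector p R) P}

theorem projT_mem (hLT : IsCompl L T) {y : P} (hy : y ∈ L ⊔ IV p R • T) :
    T.subtype.comp (Submodule.projectionOnto T L hLT.symm) y ∈ IV p R • (⊤ : Submodule (WittVector p R) P) := by
  obtain ⟨l, hl, z, hz, rfl⟩ := Submodule.mem_sup.1 hy
  have hzT : z ∈ T := Submodule.smul_le_right hz
  rw [map_add, LinearMap.comp_apply, LinearMap.comp_apply, Submodule.projectionOnto_apply_right hLT.symm ⟨l, hl⟩,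
    map_zero, zero_add, Submodule.projectionOnto_apply_left hLT.symm ⟨z, hzT⟩]
  exact Submodule.smul_mono le_rfl le_top hz

/-- Data for a display. -/
theorem exists_mkDisplay [Module.Finite (WittVector p R) P] [Module.Projective (WittVector p R) P]
    (hLT : IsCompl L T) (F : P →ₛₗ[σ] P) (VL : L →ₛₗ[σ] P)
    (hF : ∀ l : L, F (l : P) = (p : WittVector p R) • VL l)
    (hspan : Submodule.span (WittVector p R) (Set.range VL ∪ F '' T) = ⊤) :
    ∃ (D : Display3n p R P) (hQ : D.Q = L ⊔ IV p R • T),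
      D.F = F ∧ ∀ l : L, D.Vinv ⟨l.1, le_Q D hQ l.2⟩ = VL l := by
  obtain ⟨n, e, φ, hφ⟩ := exists_dual_basis (WittVector p R) P
  let Q : Submodule (WittVector p R) P := L ⊔ IV p R • T
  let pL : P →ₗ[WittVector p R] L := Submodule.projectionOnto L T hLT
  let pT : P →ₗ[WittVector p R] P := T.subtype.comp (Submodule.projectionOnto T L hLT.symm)
  let qT : Q →ₗ[WittVector p R] (IV p R • (⊤ : Submodule (WittVector p R) P) : Submodule _ _) :=
    (pT.comp Q.subtype).codRestrict _ (fun y => projT_mem hLT y.2)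
  let Vi : Q →ₛₗ[σ] P := (VL.comp (pL.comp Q.subtype)) + (vinvPart e φ F).comp qT
  have hViL : ∀ (l : P) (hl : l ∈ L) (h : l ∈ Q), Vi ⟨l, h⟩ = VL ⟨l, hl⟩ := by
    intro l hl h
    show VL (pL l) + vinvPart e φ F (qT ⟨l, h⟩) = _
    have h0 : qT ⟨l, h⟩ = 0 := Subtype.ext (by
      show T.subtype (Submodule.projectionOnto T L hLT.symm l) = 0
      rw [Submodule.projectionOnto_apply_right hLT.symm ⟨l, hl⟩, map_zero])
    rw [h0, map_zero, add_zero]
    congr 1
    exact Submodule.projectionOnto_apply_left hLT ⟨l, hl⟩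
  have hle : IV p R • (⊤ : Submodule (WittVector p R) P) ≤ Q := by
    rw [← hLT.sup_eq_top, Submodule.smul_sup]
    exact sup_le_sup Submodule.smul_le_right le_rfl
  have hVi : ∀ (w : WittVector p R) (x : P) (h : verschiebung w • x ∈ Q), Vi ⟨_, h⟩ = w • F x := by
    intro w x h
    show VL (pL (verschiebung w • x)) + vinvPart e φ F (qT ⟨_, h⟩) = _
    have hx : pT (verschiebung w • x) = verschiebung w • pT x := map_smul _ _ _
    have h2 : vinvPart e φ F (qT ⟨_, h⟩) = w • F (pT x) := by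
      refine Eq.trans ?_ (vinvPart_V_smul e φ F hφ w (pT x)
        (Submodule.smul_mem_smul (verschiebung_mem_IV p R w) Submodule.mem_top))
      congr 1
      exact Subtype.ext hx
    rw [h2, map_smul, VL.map_smulₛₗ, frobenius_verschiebung, mul_smul, ← hF, ← smul_add, ← map_add]
    congr 2
    have h3 := Submodule.projection_add_projection_eq_self hLT x
    exact h3
  refine ⟨⟨Q, F, Vi, inferInstance, inferInstance, hle, ⟨L, T, hLT, rfl⟩, ?_,
    fun w x => hVi w x _⟩, rfl, rfl, fun l => hViL l.1 l.2 _⟩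
  rw [eq_top_iff, ← hspan, Submodule.span_le]
  rintro _ (⟨l, rfl⟩ | ⟨t, _, rfl⟩)
  · exact Submodule.subset_span ⟨⟨l.1, Submodule.mem_sup_left l.2⟩, hViL l.1 l.2 _⟩
  · exact Submodule.subset_span ⟨⟨verschiebung 1 • t, hle (Submodule.smul_mem_smul (verschiebung_mem_IV p R 1) Submodule.mem_top)⟩,
      (hVi 1 t _).trans (one_smul _ _)⟩

end Groth.L15.DW
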