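import Groth.Agent.L15.DW.PerfectW
import Groth.Agent.L15.DW.Mk
import Mathlib.RingTheory.Finiteness.Basic

/-! The two kinds of Dieudonné modules: projective over `W`, or over `W / p^n`. -/

set_option autoImplicit false

namespace Groth.L15.DW

universe u v
open WittVector

variable {p : ℕ} [hp : Fact p.Prime] {k : Type u} [CommRing k] [CharP k p] [PerfectRing k p]
  {M : Type v} [AddCommGroup M] [Module (WittVector p k) M]

local notation "W" => WittVector p k

theorem cancel_of_projective [Module.Finite W M] [Module.Projective W M] : Cancel p (k := k) M := by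
  obtain ⟨d, e, φ, hφ⟩ := exists_dual_basis W M
  intro J I _ hJI x hx
  rw [← hφ x]
  refine Submodule.sum_mem _ fun i _ => Submodule.smul_mem_smul (hJI _ ?_) trivial
  rw [← smul_eq_mul, ← map_smul]
  refine Submodule.smul_induction_on hx (fun a ha t _ => ?_) (fun a b ha hb => ?_)
  · rw [map_smul, smul_eq_mul]; exact J.mul_mem_right _ ha
  · rw [map_add]; exact add_mem ha hb

theorem hasDual_of_projective [Module.Finite W M] [Module.Projective W M] : HasDualModP p (k := k) M := by
  obtain ⟨d, e, φ, hφ⟩ := exists_dual_basis W M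
  refine ⟨d, e, fun i => (Ideal.span {(p : W)}).mkQ.comp (φ i), fun a x h => ?_⟩
  conv in (x - _) => rw [← hφ x, ← Finset.sum_sub_distrib]
  refine Submodule.sum_mem _ fun i _ => ?_
  rw [← sub_smul]
  refine Submodule.smul_mem_smul ((Submodule.Quotient.eq _).1 ?_) trivial
  exact (h i).symm


theorem mk_smul_eq (n : ℕ) [Module (W ⧸ Ideal.span {(p : W) ^ n}) M]
    [IsScalarTower W (W ⧸ Ideal.span {(p : W) ^ n}) M] (a : W) (x : M) : Ideal.Quotient.mk (Ideal.span {(p : W) ^ n}) a • x = a • x := by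
  rw [← mul_one (Ideal.Quotient.mk _ a), ← Ideal.Quotient.algebraMap_eq, ← Algebra.smul_def, smul_assoc, one_smul]

theorem cancel_of_level (n : ℕ) [Module (W ⧸ Ideal.span {(p : W) ^ n}) M]
    [IsScalarTower W (W ⧸ Ideal.span {(p : W) ^ n}) M] (hn : 2 ≤ n) [Module.Finite (W ⧸ Ideal.span {(p : W) ^ n}) M]
    [Module.Projective (W ⧸ Ideal.span {(p : W) ^ n}) M] : Cancel p (k := k) M := by
  obtain ⟨d, e, φ, hφ⟩ := exists_dual_basis (W ⧸ Ideal.span {(p : W) ^ n}) M
  intro J I hJ hJI x hx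
  have hle : Ideal.span {(p : W) ^ n} ≤ J := by
    rw [Ideal.span_le, Set.singleton_subset_iff]
    show (p : W) ^ n ∈ J
    rw [show n = 2 + (n - 2) by omega, pow_add]
    exact J.mul_mem_right _ hJ
  have hmem : ∀ i, ∀ y ∈ J • (⊤ : Submodule W M), φ i y ∈ J.map (Ideal.Quotient.mk _) := by
    intro i y hy
    refine Submodule.smul_induction_on hy (fun a ha t _ => ?_) (fun a b ha hb => ?_)
    · rw [← mk_smul_eq n a t, map_smul, smul_eq_mul]
      exact Ideal.mul_mem_right _ _ (Ideal.mem_map_of_mem _ ha)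
    · rw [map_add]; exact add_mem ha hb
  rw [← hφ x]
  refine Submodule.sum_mem _ fun i _ => ?_
  obtain ⟨a, ha⟩ := Ideal.Quotient.mk_surjective (φ i x)
  rw [← ha, mk_smul_eq]
  refine Submodule.smul_mem_smul (hJI a ?_) trivial
  have h := hmem i _ hx
  rw [← mk_smul_eq n (p : W) x, map_smul, smul_eq_mul, ← ha, ← map_mul, ← Ideal.mem_comap,
    Ideal.comap_map_of_surjective' _ Ideal.Quotient.mk_surjective, Ideal.mk_ker, sup_eq_left.2 hle] at h
  exact h

theorem hasDual_of_level (n : ℕ) [Module (W ⧸ Ideal.span {(p : W) ^ n}) M]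
    [IsScalarTower W (W ⧸ Ideal.span {(p : W) ^ n}) M] (hn : 2 ≤ n) [Module.Finite (W ⧸ Ideal.span {(p : W) ^ n}) M]
    [Module.Projective (W ⧸ Ideal.span {(p : W) ^ n}) M] : HasDualModP p (k := k) M := by
  obtain ⟨d, e, φ, hφ⟩ := exists_dual_basis (W ⧸ Ideal.span {(p : W) ^ n}) M
  have hle : Ideal.span {(p : W) ^ n} ≤ Ideal.span {(p : W)} := by
    rw [Ideal.span_singleton_le_span_singleton]
    exact dvd_pow_self _ (by omega)
  refine ⟨d, e, fun i => ((Ideal.span {(p : W) ^ n}).liftQ (Ideal.span {(p : W)}).mkQ (by rwa [Submodule.ker_mkQ])).comp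
    ((φ i).restrictScalars W), fun a x h => ?_⟩
  conv in (x - _) => rw [← hφ x, ← Finset.sum_sub_distrib]
  refine Submodule.sum_mem _ fun i _ => ?_
  obtain ⟨b, hb⟩ := Ideal.Quotient.mk_surjective (φ i x)
  rw [← hb, mk_smul_eq, ← sub_smul]
  refine Submodule.smul_mem_smul ((Submodule.Quotient.eq _).1 ?_) trivial
  have h' := h i
  rw [LinearMap.comp_apply, LinearMap.restrictScalars_apply, ← hb] at h'
  exact h'.symm

theorem finite_of_level (n : ℕ) [Module (W ⧸ Ideal.span {(p : W) ^ n}) M]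
    [IsScalarTower W (W ⧸ Ideal.span {(p : W) ^ n}) M] [Module.Finite (W ⧸ Ideal.span {(p : W) ^ n}) M] : Module.Finite W M :=
  Module.Finite.trans (W ⧸ Ideal.span {(p : W) ^ n}) M

end Groth.L15.DW
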