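import Groth.Agent.L15.DW.Dieudonne
import Groth.Agent.L15.DW.LevelCases
import Groth.Agent.L15.DW.IdemLift
import Groth.Prelude.Def_W4c1extbt610Disp

/-! The 3n-display of a Dieudonné module over a perfect ring. -/

set_option autoImplicit false

namespace Groth.L15.DW

universe u v
open WittVector W4c1extbt610

variable {p : ℕ} [hp : Fact p.Prime] {k : Type u} [CommRing k] [CharP k p] [PerfectRing k p]
  {M : Type v} [AddCommGroup M] [Module (WittVector p k) M]
  [Module.Finite (WittVector p k) M] [Module.Projective (WittVector p k) M]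
  (F : M →ₛₗ[(WittVector.frobenius : WittVector p k →+* WittVector p k)] M)
  (V : M →ₛₗ[((WittVector.frobeniusEquiv p k).symm : WittVector p k →+* WittVector p k)] M)
  (hFV : ∀ m : M, F (V m) = (p : WittVector p k) • m) (hVF : ∀ m : M, V (F m) = (p : WittVector p k) • m)

theorem eq_zero_of_p_smul {x : M} (h : (p : WittVector p k) • x = 0) : x = 0 := by
  obtain ⟨d, e, φ, hφ⟩ := exists_dual_basis (WittVector p k) M
  rw [← hφ x]
  refine Finset.sum_eq_zero fun i _ => ?_
  rw [eq_zero_of_p_mul_eq_zero (φ i x) (by rw [mul_comm, ← smul_eq_mul, ← map_smul, h, map_zero]), zero_smul]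

theorem verschiebung_eq_p_mul (w : WittVector p k) :
    verschiebung w = (p : WittVector p k) *
      (((WittVector.frobeniusEquiv p k).symm : WittVector p k →+* WittVector p k) w) := by
  conv_lhs => rw [← σ_σ' (p := p) w, verschiebung_frobenius]
  rw [mul_comm]

include hFV hVF in
theorem exists_display_of_dieudonne :
    ∃ D : Display3n p k M, D.F = F ∧ (∀ x : M, x ∈ D.Q ↔ x ∈ Set.range V) ∧
      ∀ (m : M) (h : V m ∈ D.Q), D.Vinv ⟨V m, h⟩ = m := by
  classical
  let W := WittVector p k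
  let pW : Ideal W := Ideal.span {(p : W)}
  have hVinj : ∀ m m', V m = V m' → m = m' := fun m m' h => by
    refine sub_eq_zero.1 (eq_zero_of_p_smul (p := p) (k := k) ?_)
    rw [← hFV, map_sub, h, sub_self, map_zero]
  let Q : Submodule W M :=
    { carrier := Set.range V
      add_mem' := by rintro _ _ ⟨a, rfl⟩ ⟨b, rfl⟩; exact ⟨a + b, map_add V a b⟩
      zero_mem' := ⟨0, map_zero V⟩
      smul_mem' := fun c x => by
        rintro ⟨a, rfl⟩
        exact ⟨(WittVector.frobenius c) • a, by rw [V.map_smulₛₗ, σ'_σ]⟩ }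
  have hpQ : ∀ z : M, (p : W) • z ∈ Q := fun z => ⟨F z, hVF z⟩
  have hpMQ : pW • (⊤ : Submodule W M) ≤ Q := fun z hz => by
    obtain ⟨y, rfl⟩ := exists_eq_p_smul (p := p) (k := k) hz
    exact hpQ y
  haveI : Module.Projective (W ⧸ pW) ((M ⧸ pW • (⊤ : Submodule W M)) ⧸
      Submodule.span (W ⧸ pW) (Set.range fun m : M => (pW • (⊤ : Submodule W M)).mkQ (V m))) :=
    projective_coker_V F V hFV hVF cancel_of_projective hasDual_of_projective
  set N := pW • (⊤ : Submodule W M) with hN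
  set S := Submodule.span (W ⧸ pW) (Set.range fun m : M => N.mkQ (V m)) with hS
  obtain ⟨s, hs⟩ := Module.projective_lifting_property S.mkQ LinearMap.id (Submodule.mkQ_surjective S)
  let ebar : (M ⧸ N) →ₗ[W ⧸ pW] (M ⧸ N) := s.comp S.mkQ
  have hebar : ∀ q, S.mkQ (ebar q) = S.mkQ q := fun q => LinearMap.congr_fun hs (S.mkQ q)
  obtain ⟨e0, he0⟩ := Module.projective_lifting_property N.mkQ ((ebar.restrictScalars W).comp N.mkQ)
    (Submodule.mkQ_surjective N)
  have he0' : ∀ x, N.mkQ (e0 x) = ebar (N.mkQ x) := fun x => LinearMap.congr_fun he0 x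
  have hidem : Into pW (e0 * e0 - e0) := fun x => by
    rw [← hN, ← Submodule.Quotient.mk_eq_zero, LinearMap.sub_apply, Submodule.Quotient.mk_sub, sub_eq_zero,
      Module.End.mul_apply]
    show N.mkQ (e0 (e0 x)) = N.mkQ (e0 x)
    rw [he0', he0']
    show s (S.mkQ (ebar (N.mkQ x))) = s (S.mkQ (N.mkQ x))
    rw [hebar]
  obtain ⟨E, hE, hEe⟩ := exists_idempotent_lift pW e0 hidem
  have hEmk : ∀ x, N.mkQ (E x) = ebar (N.mkQ x) := fun x => by
    rw [← he0', Submodule.mkQ_apply, Submodule.mkQ_apply, Submodule.Quotient.eq]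
    exact hEe x
  have hEV : ∀ y, E (V y) ∈ N := fun y => by
    rw [← Submodule.Quotient.mk_eq_zero]
    show N.mkQ (E (V y)) = 0
    rw [hEmk]
    show s (S.mkQ (N.mkQ (V y))) = 0
    rw [Submodule.mkQ_apply S, (Submodule.Quotient.mk_eq_zero S).2 (Submodule.subset_span ⟨y, rfl⟩), map_zero]
  have hSQ : ∀ q ∈ S, ∃ z ∈ Q, N.mkQ z = q := by
    intro q hq
    induction hq using Submodule.span_induction with
    | mem q hq => obtain ⟨y, rfl⟩ := hq; exact ⟨V y, ⟨y, rfl⟩, rfl⟩
    | zero => exact ⟨0, zero_mem _, map_zero _⟩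
    | add a b _ _ ha hb =>
      obtain ⟨z, hz, rfl⟩ := ha; obtain ⟨z', hz', rfl⟩ := hb
      exact ⟨z + z', add_mem hz hz', map_add _ _ _⟩
    | smul c q _ hq =>
      obtain ⟨z, hz, rfl⟩ := hq
      obtain ⟨b, rfl⟩ := Ideal.Quotient.mk_surjective c
      exact ⟨b • z, Q.smul_mem b hz, rfl⟩
  let L : Submodule W M := LinearMap.ker E
  let T : Submodule W M := LinearMap.range E
  have hEE : ∀ x, E (E x) = E x := fun x => LinearMap.congr_fun hE x
  have hLT : IsCompl L T := by
    refine ⟨Submodule.disjoint_def.2 ?_, codisjoint_iff.2 (eq_top_iff.2 fun x _ => ?_)⟩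
    · rintro _ hx ⟨y, rfl⟩
      rw [← hEE, LinearMap.mem_ker.1 hx]
    · rw [← sub_add_cancel x (E x)]
      exact Submodule.add_mem_sup (by rw [LinearMap.mem_ker, map_sub, hEE, sub_self]) ⟨x, rfl⟩
  have hLQ : L ≤ Q := by
    intro l hl
    have h1 : N.mkQ l ∈ S := by
      rw [← Submodule.Quotient.mk_eq_zero S]
      show S.mkQ (N.mkQ l) = 0
      rw [← hebar, ← hEmk, LinearMap.mem_ker.1 hl, map_zero, map_zero]
    obtain ⟨z, hz, hzl⟩ := hSQ _ h1
    rw [Submodule.mkQ_apply, Submodule.mkQ_apply, Submodule.Quotient.eq] at hzl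
    rw [← sub_sub_cancel z l]
    exact sub_mem hz (hpMQ hzl)
  have hQ : Q = L ⊔ IV p k • T := by
    have hIV : IV p k = pW := by rw [IV_eq_ker, ker_constantCoeff]
    refine le_antisymm (fun x hx => ?_) (sup_le hLQ ?_)
    · obtain ⟨y, rfl⟩ := hx
      rw [← sub_add_cancel (V y) (E (V y))]
      refine Submodule.add_mem_sup (by rw [LinearMap.mem_ker, map_sub, hEE, sub_self]) ?_
      obtain ⟨z, hz⟩ := exists_eq_p_smul (p := p) (k := k) (hEV y)
      rw [hIV, ← hEE, hz, map_smul]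
      exact Submodule.smul_mem_smul (Ideal.mem_span_singleton_self _) ⟨z, rfl⟩
    · rw [hIV]; exact le_trans (Submodule.smul_mono le_rfl le_top) hpMQ
  let Vi : Q →ₛₗ[(WittVector.frobenius : W →+* W)] M :=
    { toFun := fun q => q.2.choose
      map_add' := fun a b => hVinj _ _ (by
        rw [map_add, (a + b).2.choose_spec, a.2.choose_spec, b.2.choose_spec]; rfl)
      map_smul' := fun c a => hVinj _ _ (by
        rw [V.map_smulₛₗ, (c • a).2.choose_spec, a.2.choose_spec, σ'_σ]; rfl) }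
  have hVi : ∀ (m : M) (h : V m ∈ Q), Vi ⟨V m, h⟩ = m := fun m h =>
    hVinj _ _ (Exists.choose_spec (h : V m ∈ Set.range V))
  refine ⟨⟨Q, F, Vi, inferInstance, inferInstance, ?_, ⟨L, T, hLT, hQ⟩, ?_, ?_⟩, rfl, fun x => Iff.rfl, hVi⟩
  · rw [show IV p k = pW by rw [IV_eq_ker, ker_constantCoeff]]
    exact hpMQ
  · rw [eq_top_iff]
    exact fun m _ => Submodule.subset_span ⟨⟨V m, ⟨m, rfl⟩⟩, hVi m _⟩
  · intro w x
    apply hVinj
    have hmem : verschiebung w • x ∈ Set.range V := by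
      rw [verschiebung_eq_p_mul, mul_smul]; exact hpQ _
    refine (Exists.choose_spec hmem).trans ?_
    rw [V.map_smulₛₗ, hVF, smul_smul, verschiebung_eq_p_mul, mul_comm]

end Groth.L15.DW
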