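import Mathlib.RingTheory.Finiteness.Nakayama
import Mathlib.LinearAlgebra.Matrix.Adjugate
import Mathlib.LinearAlgebra.FiniteDimensional.Basic
import Mathlib.LinearAlgebra.Matrix.ToLin
import Mathlib.Algebra.Module.Projective
import Mathlib.RingTheory.Ideal.Quotient.Basic
import Mathlib.RingTheory.Ideal.Quotient.Operations
import Mathlib.LinearAlgebra.Finsupp.Pi

/-! A finite module with functionals separating it modulo every maximal ideal is projective. -/

set_option autoImplicit false

namespace Groth.L15.DW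

universe u v

variable {A : Type u} [CommRing A] {C : Type v} [AddCommGroup C] [Module A C]

theorem exists_local_retraction [Module.Finite A C] {n : ℕ} (Φ : C →ₗ[A] (Fin n → A))
    (m : Ideal A) [m.IsMaximal]
    (hinj : ∀ c, (∀ i, Φ c i ∈ m) → c ∈ m • (⊤ : Submodule A C)) :
    ∃ a : A, a ∉ m ∧ ∃ s : (Fin n → A) →ₗ[A] C, ∀ c, s (Φ c) = a • c := by
  classical
  letI : Field (A ⧸ m) := Ideal.Quotient.field m
  let mk : A →+* A ⧸ m := Ideal.Quotient.mk m
  let Ψ : C → (Fin n → A ⧸ m) := fun c i => mk (Φ c i)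
  obtain ⟨b, hbsub, hspan, hli⟩ := exists_linearIndependent (A ⧸ m) (Set.range Ψ)
  have : Finite b := hli.finite
  obtain ⟨d, ⟨eb⟩⟩ := Finite.exists_equiv_fin b
  choose g hg using fun j : Fin d => hbsub (eb.symm j).2
  have hli' : LinearIndependent (A ⧸ m) (fun j : Fin d => Ψ (g j)) := by
    have : (fun j : Fin d => Ψ (g j)) = (Subtype.val ∘ eb.symm) := funext hg
    rw [this]; exact hli.comp _ eb.symm.injective
  obtain ⟨Linv, hLinv⟩ := (Fintype.linearCombination (A ⧸ m) (fun j : Fin d => Ψ (g j))).exists_leftInverse_of_injective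
    (LinearMap.ker_eq_bot.2 hli'.fintypeLinearCombination_injective)
  choose l hl using fun (j : Fin d) (i : Fin n) => Ideal.Quotient.mk_surjective (Linv (Pi.single i 1) j)
  let ψ : (Fin n → A) →ₗ[A] (Fin d → A) := (Matrix.of l).mulVecLin
  have hψ : ∀ y j, mk (ψ y j) = Linv (fun i => mk (y i)) j := by
    intro y j
    conv_rhs => rw [pi_eq_sum_univ' (fun i => mk (y i)), map_sum, Finset.sum_apply]
    show mk (∑ i, l j i * y i) = _
    rw [map_sum]
    refine Finset.sum_congr rfl fun i _ => ?_
    rw [map_smul, Pi.smul_apply, smul_eq_mul, map_mul, hl, mul_comm]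
  let G : Matrix (Fin d) (Fin d) A := Matrix.of fun j k => ψ (Φ (g k)) j
  have hG : G.map mk = 1 := by
    ext j k
    rw [Matrix.map_apply]
    show mk (ψ (Φ (g k)) j) = _
    rw [hψ]
    have h1 := LinearMap.congr_fun hLinv (Pi.single k 1)
    rw [LinearMap.comp_apply, LinearMap.id_apply, Fintype.linearCombination_apply_single, one_smul] at h1
    rw [h1, Matrix.one_apply, Pi.single_apply]
  have hdet : mk G.det = 1 := by rw [RingHom.map_det, RingHom.mapMatrix_apply, hG, Matrix.det_one]
  let s : (Fin n → A) →ₗ[A] C :=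
    (Fintype.linearCombination A g).comp ((Matrix.adjugate G).mulVecLin.comp ψ)
  have hs : ∀ k, s (Φ (g k)) = G.det • g k := by
    intro k
    have hv : ψ (Φ (g k)) = G.mulVec (Pi.single k 1) := by
      funext j; rw [Matrix.mulVec_single_one]; rfl
    show Fintype.linearCombination A g ((Matrix.adjugate G).mulVec (ψ (Φ (g k)))) = _
    rw [hv, Matrix.mulVec_mulVec, Matrix.adjugate_mul, Matrix.smul_mulVec, Matrix.one_mulVec, map_smul,
      Fintype.linearCombination_apply_single, one_smul]
  let S : Submodule A C := Submodule.span A (Set.range g)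
  have hgen : (⊤ : Submodule A (C ⧸ S)) ≤ m • ⊤ := by
    intro q _
    obtain ⟨c, rfl⟩ := Submodule.Quotient.mk_surjective S q
    have hc : Ψ c ∈ Submodule.span (A ⧸ m) (Set.range fun j : Fin d => Ψ (g j)) := by
      have hr : (Set.range fun j : Fin d => Ψ (g j)) = b := by
        rw [show (fun j : Fin d => Ψ (g j)) = Subtype.val ∘ eb.symm from funext hg, Set.range_comp,
          eb.symm.surjective.range_eq, Set.image_univ, Subtype.range_coe]
      rw [hr, hspan]
      exact Submodule.subset_span ⟨c, rfl⟩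
    obtain ⟨a, ha⟩ := (Submodule.mem_span_range_iff_exists_fun _).1 hc
    choose a' ha' using fun j => Ideal.Quotient.mk_surjective (a j)
    have hmem : c - ∑ j, a' j • g j ∈ m • (⊤ : Submodule A C) := by
      refine hinj _ fun i => ?_
      rw [← Ideal.Quotient.eq_zero_iff_mem, map_sub, map_sum]
      simp only [Pi.sub_apply, Finset.sum_apply, map_smul, Pi.smul_apply, smul_eq_mul, map_sub, map_sum, map_mul]
      rw [sub_eq_zero]
      have hi := congrFun ha i
      simp only [Finset.sum_apply, Pi.smul_apply, smul_eq_mul] at hi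
      rw [show mk (Φ c i) = Ψ c i from rfl, ← hi]
      exact Finset.sum_congr rfl fun j _ => by rw [ha']
    have h2 : S.mkQ c = S.mkQ (c - ∑ j, a' j • g j) := by
      rw [Submodule.mkQ_apply, Submodule.mkQ_apply, Submodule.Quotient.eq, sub_sub_cancel]
      exact Submodule.sum_mem _ fun j _ => Submodule.smul_mem _ _ (Submodule.subset_span ⟨j, rfl⟩)
    show S.mkQ c ∈ _
    rw [h2]
    have h3 := Submodule.mem_map_of_mem (f := S.mkQ) hmem
    rw [Submodule.map_smul''] at h3
    exact Submodule.smul_mono le_rfl le_top h3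
  obtain ⟨r, hr1, hr⟩ := Submodule.exists_sub_one_mem_and_smul_eq_zero_of_fg_of_le_smul m ⊤
    Module.Finite.fg_top hgen
  have hrS : ∀ c, r • c ∈ S := fun c => (Submodule.Quotient.mk_eq_zero S).1 (hr (S.mkQ c) trivial)
  refine ⟨r * G.det, fun h => ?_, r • s, fun c => ?_⟩
  · have h1 : mk r = 1 := by
      rw [← map_one mk]; exact Ideal.Quotient.mk_eq_mk_iff_sub_mem r 1 |>.2 hr1
    have h2 := (Ideal.Quotient.eq_zero_iff_mem).2 h
    rw [map_mul, show (Ideal.Quotient.mk m) r = 1 from h1, show (Ideal.Quotient.mk m) G.det = 1 from hdet,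
      mul_one] at h2
    exact one_ne_zero h2
  have key : ∀ x ∈ S, s (Φ x) = G.det • x := by
    intro x hx
    induction hx using Submodule.span_induction with
    | mem y hy => obtain ⟨k, rfl⟩ := hy; exact hs k
    | zero => simp
    | add a b _ _ ha hb => rw [map_add, map_add, ha, hb, smul_add]
    | smul a x _ hx => rw [map_smul, map_smul, hx, smul_comm]
  rw [LinearMap.smul_apply, ← map_smul, ← map_smul, key _ (hrS c), smul_smul, mul_comm]

theorem projective_of_functionals [Module.Finite A C] {n : ℕ} (Φ : C →ₗ[A] (Fin n → A))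
    (hinj : ∀ (m : Ideal A), m.IsMaximal → ∀ c, (∀ i, Φ c i ∈ m) → c ∈ m • (⊤ : Submodule A C)) :
    Module.Projective A C := by
  let I : Ideal A :=
    { carrier := {a | ∃ s : (Fin n → A) →ₗ[A] C, ∀ c, s (Φ c) = a • c}
      add_mem' := fun {a b} ⟨s, hs⟩ ⟨t, ht⟩ => ⟨s + t, fun c => by
        rw [LinearMap.add_apply, hs, ht, add_smul]⟩
      zero_mem' := ⟨0, fun c => by simp⟩
      smul_mem' := fun a b ⟨s, hs⟩ => ⟨a • s, fun c => by
        rw [LinearMap.smul_apply, hs, smul_eq_mul, mul_smul]⟩ }
  have hI : I = ⊤ := by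
    by_contra h
    obtain ⟨m, hm, hIm⟩ := Ideal.exists_le_maximal I h
    obtain ⟨a, ha, hs⟩ := exists_local_retraction Φ m (hinj m hm)
    exact ha (hIm hs)
  obtain ⟨s, hs⟩ : (1 : A) ∈ I := hI ▸ Submodule.mem_top
  exact Module.Projective.of_split Φ s (LinearMap.ext fun c => by simp [hs])

end Groth.L15.DW
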