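import Groth.Agent.L15.DW.PerfectW
import Groth.Agent.L15.DW.ProjCrit
import Mathlib.RingTheory.Finiteness.Basic
import Mathlib.Algebra.Module.Torsion.Basic

/-! Level-one properties of (truncated) Dieudonné modules over a perfect ring. -/

set_option autoImplicit false

namespace Groth.L15.DW

universe u v
open WittVector

variable {p : ℕ} [hp : Fact p.Prime] {k : Type u} [CommRing k] [CharP k p] [PerfectRing k p]
  {M : Type v} [AddCommGroup M] [Module (WittVector p k) M]
  (F : M →ₛₗ[(WittVector.frobenius : WittVector p k →+* WittVector p k)] M)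
  (V : M →ₛₗ[((WittVector.frobeniusEquiv p k).symm : WittVector p k →+* WittVector p k)] M)

local notation "W" => WittVector p k
local notation "σ" => (WittVector.frobenius : WittVector p k →+* WittVector p k)
set_option quotPrecheck false in
local notation "σ'" => ((WittVector.frobeniusEquiv p k).symm : WittVector p k →+* WittVector p k)
local notation "pW" => Ideal.span {(p : WittVector p k)}

omit [CharP k p] [PerfectRing k p] in
theorem exists_eq_p_smul {x : M} (hx : x ∈ pW • (⊤ : Submodule W M)) : ∃ y, x = (p : W) • y := by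
  rw [Submodule.ideal_span_singleton_smul] at hx
  obtain ⟨y, -, hy⟩ := hx
  exact ⟨y, hy.symm⟩

omit [CharP k p] [PerfectRing k p] in
theorem p_smul_mem (y : M) : (p : W) • y ∈ pW • (⊤ : Submodule W M) :=
  Submodule.smul_mem_smul (Ideal.mem_span_singleton_self _) trivial

/-- Semilinear maps preserve `J M` when the twist preserves `J`. -/
theorem map_smul_top_mem {τ : W →+* W} (G : M →ₛₗ[τ] M) (J : Ideal W) (hJ : ∀ a ∈ J, τ a ∈ J) {x : M}
    (hx : x ∈ J • (⊤ : Submodule W M)) : G x ∈ J • (⊤ : Submodule W M) := by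
  refine Submodule.smul_induction_on hx (fun a ha t _ => ?_) (fun a b ha hb => ?_)
  · rw [G.map_smulₛₗ]; exact Submodule.smul_mem_smul (hJ a ha) trivial
  · rw [map_add]; exact add_mem ha hb

variable (hFV : ∀ m : M, F (V m) = (p : WittVector p k) • m) (hVF : ∀ m : M, V (F m) = (p : WittVector p k) • m)

include hFV hVF in
theorem comap_F_eq (hc : Cancel p (k := k) M) : (pW • (⊤ : Submodule W M)).comap F =
    Submodule.span W (Set.range V) ⊔ pW • (⊤ : Submodule W M) := by
  refine le_antisymm (fun x hx => ?_) (sup_le (Submodule.span_le.2 ?_) ?_)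
  · obtain ⟨y, hy⟩ := exists_eq_p_smul (p := p) (k := k) (Submodule.mem_comap.1 hx)
    have h0 : (p : W) • (x - V y) = 0 := by
      rw [smul_sub, ← hVF x, hy, V.map_smulₛₗ, map_natCast, sub_self]
    rw [← add_sub_cancel (V y) x]
    exact Submodule.add_mem_sup (Submodule.subset_span ⟨y, rfl⟩)
      (hc (Ideal.span {(p : W) ^ 2}) pW (Ideal.mem_span_singleton_self _) (fun a => mem_span_p_of_p_mul) _
        (by rw [h0]; exact zero_mem _))
  · rintro _ ⟨y, rfl⟩
    rw [SetLike.mem_coe, Submodule.mem_comap]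
    show F (V y) ∈ _
    rw [hFV]; exact p_smul_mem (p := p) (k := k) y
  · intro x hx
    obtain ⟨y, rfl⟩ := exists_eq_p_smul (p := p) (k := k) hx
    rw [Submodule.mem_comap, F.map_smulₛₗ, map_natCast]; exact p_smul_mem (p := p) (k := k) _

include hFV hVF in
theorem comap_V_eq (hc : Cancel p (k := k) M) : (pW • (⊤ : Submodule W M)).comap V =
    Submodule.span W (Set.range F) ⊔ pW • (⊤ : Submodule W M) := by
  refine le_antisymm (fun x hx => ?_) (sup_le (Submodule.span_le.2 ?_) ?_)
  · obtain ⟨y, hy⟩ := exists_eq_p_smul (p := p) (k := k) (Submodule.mem_comap.1 hx)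
    have h0 : (p : W) • (x - F y) = 0 := by
      rw [smul_sub, ← hFV x, hy, F.map_smulₛₗ, map_natCast, sub_self]
    rw [← add_sub_cancel (F y) x]
    exact Submodule.add_mem_sup (Submodule.subset_span ⟨y, rfl⟩)
      (hc (Ideal.span {(p : W) ^ 2}) pW (Ideal.mem_span_singleton_self _) (fun a => mem_span_p_of_p_mul) _
        (by rw [h0]; exact zero_mem _))
  · rintro _ ⟨y, rfl⟩
    rw [SetLike.mem_coe, Submodule.mem_comap]
    show V (F y) ∈ _
    rw [hVF]; exact p_smul_mem (p := p) (k := k) y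
  · intro x hx
    obtain ⟨y, rfl⟩ := exists_eq_p_smul (p := p) (k := k) hx
    rw [Submodule.mem_comap, V.map_smulₛₗ, map_natCast]; exact p_smul_mem (p := p) (k := k) _

include hFV hVF in
/-- Exactness in the fibre at a prime over `p`. -/
theorem mem_of_F_mem (hc : Cancel p (k := k) M) {Q : Ideal W} [Q.IsPrime] (hQ : (p : W) ∈ Q) {x : M}
    (hx : F x ∈ Q • (⊤ : Submodule W M)) : ∃ y, x - V y ∈ Q • (⊤ : Submodule W M) := by
  haveI := map_cc_isPrime hQ
  set J := J2 (p := p) (Q.map (constantCoeff : W →+* k))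
  have h1 := Submodule.smul_mono (le_J2_sup hQ) le_rfl hx
  rw [Submodule.sup_smul] at h1
  obtain ⟨j, hj, z, hz, hjz⟩ := Submodule.mem_sup.1 h1
  obtain ⟨y, rfl⟩ := exists_eq_p_smul (p := p) (k := k) hz
  refine ⟨y, hc J Q (p_sq_mem_J2 _) (fun a => mem_of_p_mul_mem_J2 hQ) _ ?_⟩
  have h2 : (p : W) • (x - V y) = V j := by
    rw [smul_sub, ← hVF x, ← hjz, map_add, V.map_smulₛₗ, map_natCast, add_sub_cancel_right]
  rw [h2]
  exact map_smul_top_mem V J (fun a => σ'_mem_J2) hj

include hFV hVF in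
theorem projective_coker_V [Module.Finite W M] (hc : Cancel p (k := k) M) (hd : HasDualModP p (k := k) M) :
    Module.Projective (W ⧸ pW) ((M ⧸ pW • (⊤ : Submodule W M)) ⧸
      Submodule.span (W ⧸ pW) (Set.range fun m : M => (pW • (⊤ : Submodule W M)).mkQ (V m))) := by
  obtain ⟨d, e, ψ, hψ⟩ := hd
  set N := pW • (⊤ : Submodule W M) with hN
  set S := Submodule.span (W ⧸ pW) (Set.range fun m : M => N.mkQ (V m)) with hS
  have hτ0 : ∀ a ∈ pW, Ideal.Quotient.mk pW (σ' a) = 0 := by
    intro a ha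
    rw [Ideal.Quotient.eq_zero_iff_mem]
    obtain ⟨c, rfl⟩ := Ideal.mem_span_singleton'.1 ha
    rw [map_mul, map_natCast]
    exact Ideal.mul_mem_left _ _ (Ideal.mem_span_singleton_self _)
  let τ : W ⧸ pW →+* W ⧸ pW := Ideal.Quotient.lift pW ((Ideal.Quotient.mk pW).comp σ') hτ0
  have hτmk : ∀ a, τ (Ideal.Quotient.mk pW a) = Ideal.Quotient.mk pW (σ' a) := fun a => rfl
  let φ : M →ₗ[W] (Fin d → W ⧸ pW) :=
    { toFun := fun x i => τ (ψ i (F x))
      map_add' := fun x y => funext fun i => by simp only [map_add, Pi.add_apply]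
      map_smul' := fun a x => funext fun i => by
        simp only [RingHom.id_apply, Pi.smul_apply]
        rw [F.map_smulₛₗ, map_smul, Algebra.smul_def, Algebra.smul_def, map_mul, Ideal.Quotient.algebraMap_eq,
          hτmk, σ'_σ] }
  have hφp : ∀ y, φ ((p : W) • y) = 0 := by
    intro y
    rw [map_smul]
    funext i
    rw [Pi.smul_apply, Algebra.smul_def, Ideal.Quotient.algebraMap_eq,
      Ideal.Quotient.eq_zero_iff_mem.2 (Ideal.mem_span_singleton_self _), zero_mul]
    rfl
  let φ1 : (M ⧸ N) →ₗ[W] (Fin d → W ⧸ pW) := N.liftQ φ fun x hx => by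
    obtain ⟨y, rfl⟩ := exists_eq_p_smul (p := p) (k := k) hx
    exact hφp y
  let φ2 : (M ⧸ N) →ₗ[W ⧸ pW] (Fin d → W ⧸ pW) :=
    { toFun := φ1
      map_add' := map_add φ1
      map_smul' := fun c q => by
        obtain ⟨a, rfl⟩ := Ideal.Quotient.mk_surjective c
        obtain ⟨x, rfl⟩ := Submodule.Quotient.mk_surjective N q
        rw [RingHom.id_apply]
        show φ1 (a • Submodule.Quotient.mk x) = _
        rw [map_smul, ← Ideal.Quotient.algebraMap_eq, algebraMap_smul] }
  let Φ := S.liftQ φ2 (by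
    rw [hS, Submodule.span_le]
    rintro _ ⟨m, rfl⟩
    show φ (V m) = 0
    funext i
    show τ (ψ i (F (V m))) = 0
    rw [hFV, LinearMap.map_smul, Algebra.smul_def, Ideal.Quotient.algebraMap_eq,
      Ideal.Quotient.eq_zero_iff_mem.2 (Ideal.mem_span_singleton_self _), zero_mul, map_zero])
  haveI : Module.Finite (W ⧸ pW) (M ⧸ N) := Module.Finite.of_restrictScalars_finite W _ _
  refine projective_of_functionals Φ fun m hm c hc' => ?_
  obtain ⟨q, rfl⟩ := Submodule.Quotient.mk_surjective S c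
  obtain ⟨x, rfl⟩ := Submodule.Quotient.mk_surjective N q
  haveI : (m.comap (Ideal.Quotient.mk pW)).IsPrime := Ideal.comap_isPrime _ _
  set Q := m.comap (Ideal.Quotient.mk pW) with hQdef
  have hQ : (p : W) ∈ Q := by
    rw [hQdef, Ideal.mem_comap, Ideal.Quotient.eq_zero_iff_mem.2 (Ideal.mem_span_singleton_self _)]
    exact zero_mem _
  choose a ha using fun i => Ideal.Quotient.mk_surjective (ψ i (F x))
  have haQ : ∀ i, a i ∈ Q := by
    intro i
    have h : τ (ψ i (F x)) ∈ m := hc' i
    rw [← ha i, hτmk, ← Ideal.mem_comap] at h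
    rw [← σ_σ' (p := p) (a i)]
    exact σ_mem_prime hQ h
  have hFx : F x ∈ Q • (⊤ : Submodule W M) := by
    rw [← sub_add_cancel (F x) (∑ i, a i • e i)]
    refine add_mem ?_ (Submodule.sum_mem _ fun i _ => Submodule.smul_mem_smul (haQ i) trivial)
    refine Submodule.smul_mono ?_ le_rfl (hψ a (F x) ha)
    rw [Ideal.span_le, Set.singleton_subset_iff]
    exact hQ
  obtain ⟨y, hy⟩ := mem_of_F_mem F V hFV hVF hc hQ hFx
  have key : ∀ z ∈ Q • (⊤ : Submodule W M),
      (Submodule.Quotient.mk (Submodule.Quotient.mk z : M ⧸ N) : (M ⧸ N) ⧸ S) ∈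
        m • (⊤ : Submodule (W ⧸ pW) ((M ⧸ N) ⧸ S)) := by
    intro z hz
    refine Submodule.smul_induction_on hz (fun b hb t _ => ?_) (fun b b' hb hb' => ?_)
    · exact Submodule.smul_mem_smul (r := Ideal.Quotient.mk pW b) hb
        (show (Submodule.Quotient.mk (Submodule.Quotient.mk t : M ⧸ N) : (M ⧸ N) ⧸ S) ∈ ⊤ from trivial)
    · rw [Submodule.Quotient.mk_add, Submodule.Quotient.mk_add]; exact add_mem hb hb'
  have h := key _ hy
  rw [Submodule.Quotient.mk_sub, Submodule.Quotient.mk_sub,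
    (Submodule.Quotient.mk_eq_zero S).2 (show (Submodule.Quotient.mk (V y) : M ⧸ N) ∈ S from
      Submodule.subset_span ⟨y, rfl⟩), sub_zero] at h
  exact h

end Groth.L15.DW
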