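import Groth.Agent.L15.DW.Basic
import Groth.Prelude.Def_Disp2

/-! Elementary identities in 3n-displays. -/

set_option autoImplicit false

namespace Groth.L15.DW

universe u v
open WittVector W4c1extbt610

variable {p : ℕ} [hp : Fact p.Prime] {R : Type u} [CommRing R]
  {P : Type v} [AddCommGroup P] [Module (WittVector p R) P] (D : Display3n p R P)

theorem V_smul_mem (a : WittVector p R) (x : P) : verschiebung a • x ∈ D.Q :=
  D.IV_smul_le (Submodule.smul_mem_smul (verschiebung_mem_IV p R a) Submodule.mem_top)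

theorem Vinv_V_smul (a : WittVector p R) (x : P) (h : verschiebung a • x ∈ D.Q) :
    D.Vinv ⟨_, h⟩ = a • D.F x := D.Vinv_verschiebung_smul a x

theorem F_eq_p_smul (y : D.Q) : D.F (y : P) = (p : WittVector p R) • D.Vinv y := by
  have h1 := Vinv_V_smul D 1 (y : P) (V_smul_mem D 1 _)
  rw [one_smul] at h1
  have h2 : (⟨_, V_smul_mem D 1 (y : P)⟩ : D.Q) = verschiebung (1 : WittVector p R) • y := rfl
  rw [h2, D.Vinv.map_smulₛₗ, frobenius_verschiebung, one_mul] at h1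
  exact h1.symm

theorem le_Q {L T : Submodule (WittVector p R) P} (hQ : D.Q = L ⊔ IV p R • T) : L ≤ D.Q :=
  hQ ▸ le_sup_left

/-- To prove a property of `V⁻¹ y` it is enough to treat `L` and `V a • t`. -/
theorem Vinv_mem {L T : Submodule (WittVector p R) P} (hQ : D.Q = L ⊔ IV p R • T)
    (S : Submodule (WittVector p R) P)
    (hL : ∀ (l : P) (hl : l ∈ L), D.Vinv ⟨l, le_Q D hQ hl⟩ ∈ S) (hT : ∀ t ∈ T, D.F t ∈ S)
    (y : D.Q) : D.Vinv y ∈ S := by
  obtain ⟨y, hy⟩ := y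
  have hy' : y ∈ L ⊔ IV p R • T := hQ ▸ hy
  obtain ⟨l, hl, z, hz, rfl⟩ := Submodule.mem_sup.1 hy'
  have hzQ : z ∈ D.Q := hQ ▸ Submodule.mem_sup_right hz
  rw [show (⟨l + z, hy⟩ : D.Q) = ⟨l, le_Q D hQ hl⟩ + ⟨z, hzQ⟩ from rfl, map_add]
  refine S.add_mem (hL l hl) ?_
  suffices ∀ z, z ∈ IV p R • T → ∃ h : z ∈ D.Q, D.Vinv ⟨z, h⟩ ∈ S by
    obtain ⟨_, h⟩ := this z hz
    exact h
  intro z hz
  refine Submodule.smul_induction_on hz (fun a ha t ht => ?_) ?_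
  · obtain ⟨c, rfl⟩ := exists_V_of_coeff_zero (mem_IV_iff.1 ha)
    exact ⟨V_smul_mem D c t, by rw [Vinv_V_smul D c t]; exact S.smul_mem _ (hT t ht)⟩
  · rintro a b ⟨ha, iha⟩ ⟨hb, ihb⟩
    refine ⟨D.Q.add_mem ha hb, ?_⟩
    rw [show (⟨a + b, D.Q.add_mem ha hb⟩ : D.Q) = ⟨a, ha⟩ + ⟨b, hb⟩ from rfl, map_add]
    exact S.add_mem iha ihb

theorem span_L_T {L T : Submodule (WittVector p R) P} (hQ : D.Q = L ⊔ IV p R • T) :
    Submodule.span (WittVector p R) (Set.range (fun l : L => D.Vinv ⟨l.1, le_Q D hQ l.2⟩) ∪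
      Set.range (fun t : T => D.F t.1)) = ⊤ := by
  rw [eq_top_iff, ← D.span_range_Vinv, Submodule.span_le]
  rintro _ ⟨y, rfl⟩
  exact Vinv_mem D hQ _ (fun l hl => Submodule.subset_span (Or.inl ⟨⟨l, hl⟩, rfl⟩))
    (fun t ht => Submodule.subset_span (Or.inr ⟨⟨t, ht⟩, rfl⟩)) y

end Groth.L15.DW
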