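import Groth.Agent.L15.DW.Mk
import Mathlib.LinearAlgebra.ExteriorPower.Basis
import Mathlib.LinearAlgebra.Multilinear.Basic
import Mathlib.Algebra.Module.RingHom

/-! Exterior powers of 3n-displays with a tangent module free of rank one. -/

set_option autoImplicit false

namespace Groth.L15.DW

universe u v w
open WittVector W4c1extbt610

section gen

variable {A : Type u} [CommRing A] {M : Type v} [AddCommGroup M] [Module A M] {N : Type w} [AddCommGroup N]
  [Module A N] {r : ℕ}

/-- Expansion of an alternating map when the correction terms are multiples of one vector. -/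
theorem alt_expand (ψ : M [⋀^Fin r]→ₗ[A] N) (a b : Fin r → M) (t : M) (c : Fin r → A)
    (hb : ∀ i, b i = c i • t) :
    ψ (fun i => a i + b i) = ψ a + ∑ i, ψ (Function.update a i (b i)) := by
  classical
  have h := ψ.toMultilinearMap.map_add_univ b a
  have hzero : ∀ s : Finset (Fin r), 2 ≤ s.card → ψ (s.piecewise b a) = 0 := by
    intro s hs
    obtain ⟨i, hi, j, hj, hij⟩ := Finset.one_lt_card.1 hs
    set v := s.piecewise b a
    have hvi : v i = c i • t := by rw [← hb i]; exact Finset.piecewise_eq_of_mem _ _ _ hi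
    have hvj : v j = c j • t := by rw [← hb j]; exact Finset.piecewise_eq_of_mem _ _ _ hj
    rw [← Function.update_eq_self i v, hvi, AlternatingMap.map_update_smul,
      ← Function.update_eq_self j (Function.update v i t), Function.update_of_ne hij.symm, hvj,
      AlternatingMap.map_update_smul, ψ.map_eq_zero_of_eq _ (i := i) (j := j) ?_ hij, smul_zero, smul_zero]
    rw [Function.update_of_ne hij, Function.update_self, Function.update_self]
  rw [show (fun i => a i + b i) = b + a from funext fun i => add_comm _ _]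
  refine h.trans ?_
  simp only [AlternatingMap.coe_multilinearMap]
  rw [← Finset.sum_subset (s₁ := insert ∅ (Finset.univ.image fun i : Fin r => ({i} : Finset (Fin r))))
    (Finset.subset_univ _) fun s _ hs => hzero s ?_]
  · rw [Finset.sum_insert (by simp), Finset.piecewise_empty,
      Finset.sum_image fun i _ j _ hij => Finset.singleton_injective hij]
    simp only [Finset.piecewise_singleton]
  · by_contra hlt
    apply hs
    rcases Nat.lt_or_ge s.card 1 with h0 | h0
    · exact Finset.mem_insert.2 (Or.inl (Finset.card_eq_zero.1 (by omega)))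
    · obtain ⟨i, rfl⟩ := Finset.card_eq_one.1 (show s.card = 1 by omega)
      exact Finset.mem_insert_of_mem (Finset.mem_image.2 ⟨i, Finset.mem_univ _, rfl⟩)

end gen

variable {p : ℕ} [hp : Fact p.Prime] {R : Type u} [CommRing R]
  {P : Type v} [AddCommGroup P] [Module (WittVector p R) P]

local notation "σ" => (WittVector.frobenius : WittVector p R →+* WittVector p R)

/-- A module with scalars twisted by the Frobenius. -/
def Tw (_p : ℕ) (_R : Type u) (E : Type v) : Type v := E

instance {E : Type v} [AddCommGroup E] : AddCommGroup (Tw p R E) := inferInstanceAs (AddCommGroup E)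

noncomputable instance {E : Type v} [AddCommGroup E] [Module (WittVector p R) E] :
    Module (WittVector p R) (Tw p R E) :=
  Module.compHom E (WittVector.frobenius : WittVector p R →+* WittVector p R)

/-- The exterior power of a Frobenius-semilinear map. -/
theorem exists_extSemi (G : P →ₛₗ[(WittVector.frobenius : WittVector p R →+* WittVector p R)] P) (r : ℕ) :
    ∃ H : ⋀[WittVector p R]^r P →ₛₗ[(WittVector.frobenius : WittVector p R →+* WittVector p R)] ⋀[WittVector p R]^r P,
      ∀ v : Fin r → P, H (exteriorPower.ιMulti (WittVector p R) r v) =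
        exteriorPower.ιMulti (WittVector p R) r (fun i => G (v i)) := by
  classical
  let W := WittVector p R
  let toTw : ⋀[W]^r P → Tw p R (⋀[W]^r P) := fun z => z
  let ψ : P [⋀^Fin r]→ₗ[W] Tw p R (⋀[W]^r P) :=
    { toFun := fun v => toTw (exteriorPower.ιMulti W r (fun i => G (v i)))
      map_update_add' := by
        intro _ v i x y
        have h : ∀ z, (fun j => G (Function.update v i z j)) = Function.update (fun j => G (v j)) i (G z) :=
          fun z => funext fun j => by
            rcases eq_or_ne j i with rfl | hne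
            · simp
            · simp [Function.update_of_ne hne]
        simp only [h, map_add, AlternatingMap.map_update_add]
        rfl
      map_update_smul' := by
        intro _ v i a x
        have h : ∀ z, (fun j => G (Function.update v i z j)) = Function.update (fun j => G (v j)) i (G z) :=
          fun z => funext fun j => by
            rcases eq_or_ne j i with rfl | hne
            · simp
            · simp [Function.update_of_ne hne]
        simp only [h, G.map_smulₛₗ, AlternatingMap.map_update_smul]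
        rfl
      map_eq_zero_of_eq' := fun v i j hij hne =>
        (exteriorPower.ιMulti W r).map_eq_zero_of_eq (fun k => G (v k)) (congrArg G hij) hne }
  let Hl := exteriorPower.alternatingMapLinearEquiv ψ
  let H : ⋀[W]^r P →ₛₗ[σ] ⋀[W]^r P :=
    { toFun := fun z => Hl z
      map_add' := fun a b => map_add Hl a b
      map_smul' := fun a z => map_smul Hl a z }
  exact ⟨H, fun v => exteriorPower.alternatingMapLinearEquiv_apply_ιMulti ψ v⟩

theorem finite_projective_ext (r : ℕ) [Module.Finite (WittVector p R) P] [Module.Projective (WittVector p R) P] :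
    Module.Projective (WittVector p R) (⋀[WittVector p R]^r P) := by
  obtain ⟨n, π, s, -, -, hπs⟩ := Module.Finite.exists_comp_eq_id_of_projective (WittVector p R) P
  refine Module.Projective.of_split (exteriorPower.map r s) (exteriorPower.map r π) ?_
  rw [← exteriorPower.map_comp, hπs, exteriorPower.map_id]

theorem F_eq_Vinv (E : Display3n p R P) (x : P) : E.F x = E.Vinv ⟨_, V_smul_mem E 1 x⟩ := by
  rw [Vinv_V_smul, one_smul]

variable (D : Display3n p R P)

/-- Uniqueness of the exterior power. -/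
theorem isExtPow_unique {r : ℕ} {E E' : Display3n p R (⋀[WittVector p R]^r P)}
    (h : IsExtPow D r E) (h' : IsExtPow D r E') : E' = E := by
  obtain ⟨hQ, hV⟩ := h
  obtain ⟨hQ', hV'⟩ := h'
  have hQQ : E'.Q = E.Q := hQ'.trans hQ.symm
  have key : ∀ z (hz : z ∈ E.Q) (hz' : z ∈ E'.Q), E'.Vinv ⟨z, hz'⟩ = E.Vinv ⟨z, hz⟩ := by
    intro z hz hz'
    have hz0 : z ∈ Submodule.span (WittVector p R) (Set.range fun q : Fin r → D.Q =>
        exteriorPower.ιMulti (WittVector p R) r (fun i => (q i : P))) := hQ ▸ hz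
    induction hz0 using Submodule.span_induction with
    | mem a ha => obtain ⟨q, rfl⟩ := ha; rw [hV', hV]
    | zero => exact (map_zero E'.Vinv).trans (map_zero E.Vinv).symm
    | add a b ha hb iha ihb =>
      have e1 := iha (hQ ▸ ha) (hQ' ▸ ha)
      have e2 := ihb (hQ ▸ hb) (hQ' ▸ hb)
      rw [show (⟨a + b, hz'⟩ : E'.Q) = ⟨a, hQ' ▸ ha⟩ + ⟨b, hQ' ▸ hb⟩ from rfl,
        show (⟨a + b, hz⟩ : E.Q) = ⟨a, hQ ▸ ha⟩ + ⟨b, hQ ▸ hb⟩ from rfl, map_add, map_add, e1, e2]
    | smul c a ha iha =>
      have e1 := iha (hQ ▸ ha) (hQ' ▸ ha)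
      rw [show (⟨c • a, hz'⟩ : E'.Q) = c • ⟨a, hQ' ▸ ha⟩ from rfl,
        show (⟨c • a, hz⟩ : E.Q) = c • ⟨a, hQ ▸ ha⟩ from rfl, LinearMap.map_smulₛₗ, LinearMap.map_smulₛₗ, e1]
  obtain ⟨L, T, -, hLT⟩ := E'.exists_normal
  refine Display3n_ext E' E hLT hQQ ?_ fun l hl h' => key l h' _
  ext z
  rw [F_eq_Vinv, F_eq_Vinv]
  exact congrArg Subtype.val (key _ _ _)

variable {L T : Submodule (WittVector p R) P}

/-- Existence, with the tangent submodule identified. -/
theorem exists_extPow (hLT : IsCompl L T) (hQ : D.Q = L ⊔ IV p R • T)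
    (eT : T ≃ₗ[WittVector p R] WittVector p R) (r : ℕ) :
    ∃ E : Display3n p R (⋀[WittVector p R]^r P), IsExtPow D r E ∧
      ∃ L' T' : Submodule (WittVector p R) (⋀[WittVector p R]^r P), IsCompl L' T' ∧
        E.Q = L' ⊔ IV p R • T' ∧
        T' = LinearMap.ker (exteriorPower.map r (L.subtype.comp (Submodule.projectionOnto L T hLT))) := by
  classical
  haveI := D.finite
  haveI := D.projective
  haveI := finite_projective_ext (p := p) (R := R) (P := P) r
  let W := WittVector p R
  let ι := exteriorPower.ιMulti W r (M := P)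
  let pL : P →ₗ[W] P := L.subtype.comp (Submodule.projectionOnto L T hLT)
  let pT : P →ₗ[W] P := T.subtype.comp (Submodule.projectionOnto T L hLT.symm)
  let t : P := (eT.symm 1).1
  have hsum : ∀ x, pL x + pT x = x := fun x => Submodule.projection_add_projection_eq_self hLT x
  have hTt : ∀ x ∈ T, ∃ c : W, x = c • t := fun x hx => ⟨eT ⟨x, hx⟩, by
    show x = ((eT ⟨x, hx⟩) • eT.symm 1 : T).1
    rw [← map_smul, smul_eq_mul, mul_one, eT.symm_apply_apply]⟩
  have hpTt : ∀ x, ∃ c : W, pT x = c • t := fun x => hTt _ (Submodule.projectionOnto T L hLT.symm x).2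
  have hpLT : ∀ x ∈ T, pL x = 0 := fun x hx =>
    congrArg Subtype.val (Submodule.projectionOnto_apply_right hLT ⟨x, hx⟩)
  have hpLL : ∀ x ∈ L, pL x = x := fun x hx =>
    congrArg Subtype.val (Submodule.projectionOnto_apply_left hLT ⟨x, hx⟩)
  have hpLmem : ∀ x, pL x ∈ L := fun x => (Submodule.projectionOnto L T hLT x).2
  have htT : t ∈ T := (eT.symm 1).2
  let PL := exteriorPower.map r pL
  let L' := LinearMap.range PL
  let T' := LinearMap.ker PL
  have hPP : ∀ z, PL (PL z) = PL z := fun z => by
    rw [← LinearMap.comp_apply, ← exteriorPower.map_comp]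
    congr 2
    exact LinearMap.ext fun x => hpLL _ (hpLmem x)
  have hcompl : IsCompl L' T' := by
    refine ⟨Submodule.disjoint_def.2 ?_, codisjoint_iff.2 (eq_top_iff.2 fun z _ => ?_)⟩
    · rintro _ ⟨z, rfl⟩ h
      rw [← hPP]; exact h
    · rw [← add_sub_cancel (PL z) z]
      exact Submodule.add_mem_sup ⟨z, rfl⟩ (by rw [LinearMap.mem_ker, map_sub, hPP, sub_self])
  let G : P →ₛₗ[σ] P :=
    D.Vinv.comp ((Submodule.inclusion (le_Q D hQ)).comp (Submodule.projectionOnto L T hLT))
  let G' : P →ₛₗ[σ] P := G + D.F.comp pT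
  have hGL : ∀ x, G (pL x) = G x := fun x =>
    congrArg (fun y => D.Vinv (Submodule.inclusion (le_Q D hQ) y))
      (Submodule.projectionOnto_apply_left hLT (Submodule.projectionOnto L T hLT x))
  have hG'L : ∀ x ∈ L, G' x = G x := fun x hx => by
    show G x + D.F (pT x) = _
    rw [show pT x = 0 from congrArg Subtype.val (Submodule.projectionOnto_apply_right hLT.symm ⟨x, hx⟩),
      map_zero, add_zero]
  have hG't : G' t = D.F t := by
    show G t + D.F (pT t) = _
    rw [show pT t = t from congrArg Subtype.val (Submodule.projectionOnto_apply_left hLT.symm ⟨t, htT⟩),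
      show G t = D.Vinv (Submodule.inclusion (le_Q D hQ) (Submodule.projectionOnto L T hLT t)) from rfl,
      Submodule.projectionOnto_apply_right hLT ⟨t, htT⟩, map_zero, map_zero, zero_add]
  obtain ⟨ΛG, hΛG⟩ := exists_extSemi G r
  obtain ⟨Φ, hΦ⟩ := exists_extSemi G' r
  have hPLι : ∀ v, PL (ι v) = ι (fun i => pL (v i)) := fun v => exteriorPower.map_apply_ιMulti pL v
  have hΛGPL : ∀ z, ΛG (PL z) = ΛG z := by
    intro z
    have hz : z ∈ Submodule.span W (Set.range ι) := by rw [exteriorPower.ιMulti_span]; trivial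
    induction hz using Submodule.span_induction with
    | mem z hz => obtain ⟨v, rfl⟩ := hz; rw [hPLι, hΛG, hΛG]; simp only [hGL]
    | zero => simp
    | add a b _ _ ha hb => rw [map_add, map_add, map_add, ha, hb]
    | smul c a _ ha => rw [map_smul, LinearMap.map_smulₛₗ, LinearMap.map_smulₛₗ, ha]
  have hΦPL : ∀ z, Φ (PL z) = ΛG z := by
    intro z
    have hz : z ∈ Submodule.span W (Set.range ι) := by rw [exteriorPower.ιMulti_span]; trivial
    induction hz using Submodule.span_induction with
    | mem z hz =>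
      obtain ⟨v, rfl⟩ := hz
      rw [hPLι, hΦ, hΛG]
      exact congrArg _ (funext fun i => (hG'L _ (hpLmem _)).trans (hGL _))
    | zero => simp
    | add a b _ _ ha hb => rw [map_add, map_add, map_add, ha, hb]
    | smul c a _ ha => rw [map_smul, LinearMap.map_smulₛₗ, LinearMap.map_smulₛₗ, ha]
  let FE : ⋀[W]^r P →ₛₗ[σ] ⋀[W]^r P := Φ - ΛG + (p : W) • ΛG
  have hFL : ∀ l : L', FE (l : ⋀[W]^r P) = (p : W) • ΛG.comp L'.subtype l := by
    rintro ⟨_, z, rfl⟩
    show Φ (PL z) - ΛG (PL z) + (p : W) • ΛG (PL z) = (p : W) • ΛG (PL z)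
    rw [hΦPL, hΛGPL, sub_self, zero_add]
  have hFT : ∀ z ∈ T', FE z = Φ z := by
    intro z hz
    show Φ z - ΛG z + (p : W) • ΛG z = Φ z
    rw [← hΛGPL, LinearMap.mem_ker.1 hz, map_zero, sub_zero, smul_zero, add_zero]
  have hspanG' : Submodule.span W (Set.range G') = ⊤ := by
    rw [eq_top_iff, ← span_L_T D hQ, Submodule.span_le]
    rintro _ (⟨l, rfl⟩ | ⟨x, rfl⟩)
    · refine Submodule.subset_span ⟨l.1, ?_⟩
      rw [hG'L _ l.2]
      exact congrArg (fun y => D.Vinv (Submodule.inclusion (le_Q D hQ) y)) (Submodule.projectionOnto_apply_left hLT l)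
    · obtain ⟨c, hc⟩ := hTt x.1 x.2
      show D.F x.1 ∈ _
      rw [hc, D.F.map_smulₛₗ]
      exact Submodule.smul_mem _ _ (Submodule.subset_span ⟨t, hG't⟩)
  have hspan : Submodule.span W (Set.range (ΛG.comp L'.subtype) ∪ FE '' T') = ⊤ := by
    rw [eq_top_iff, ← exteriorPower.ιMulti_span_of_span W r P hspanG', Submodule.span_le]
    rintro _ ⟨a, ha, rfl⟩
    choose x hx using fun i => ha ⟨i, rfl⟩
    have h1 : ι a = ΛG (PL (ι x)) + FE (ι x - PL (ι x)) := by
      rw [hFT _ (by rw [LinearMap.mem_ker, map_sub, hPP, sub_self]), map_sub, hΦPL, hΛGPL, add_sub_cancel, hΦ]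
      exact congrArg _ (funext fun i => (hx i).symm)
    rw [SetLike.mem_coe, h1]
    exact add_mem (Submodule.subset_span (Or.inl ⟨⟨_, ⟨_, rfl⟩⟩, rfl⟩))
      (Submodule.subset_span (Or.inr ⟨_, by rw [SetLike.mem_coe, LinearMap.mem_ker, map_sub, hPP, sub_self], rfl⟩))
  obtain ⟨E, hEQ, hEF, hEV⟩ := exists_mkDisplay hcompl FE (ΛG.comp L'.subtype) hFL hspan
  let one : (Fin r → P) → Fin r → P → ⋀[W]^r P := fun v i x => ι (Function.update (fun j => pL (v j)) i x)
  have hone : ∀ (v : Fin r → P) i, ∀ x ∈ T, one v i x ∈ T' := by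
    intro v i x hx
    rw [LinearMap.mem_ker, hPLι]
    exact AlternatingMap.map_coord_zero _ i (by rw [Function.update_self, hpLT x hx])
  have hexp : ∀ v : Fin r → P, ι v = ι (fun j => pL (v j)) + ∑ i, one v i (pT (v i)) := by
    intro v
    choose c hc using fun i => hpTt (v i)
    conv_lhs => rw [show v = fun i => pL (v i) + pT (v i) from funext fun i => (hsum _).symm]
    exact alt_expand _ _ _ t c hc
  have hcoef : ∀ q : D.Q, ∃ c : W, pT (q : P) = verschiebung c • t := by
    intro q
    have h1 : pT (q : P) ∈ IV p R • T := by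
      have hq : (q : P) ∈ L ⊔ IV p R • T := hQ ▸ q.2
      obtain ⟨l, hl, z, hz, hlz⟩ := Submodule.mem_sup.1 hq
      rw [← hlz, map_add, show pT l = 0 from congrArg Subtype.val (Submodule.projectionOnto_apply_right hLT.symm ⟨l, hl⟩),
        zero_add, show pT z = z from congrArg Subtype.val
          (Submodule.projectionOnto_apply_left hLT.symm ⟨z, Submodule.smul_le_right hz⟩)]
      exact hz
    have h2 : ∃ a ∈ IV p R, pT (q : P) = a • t := by
      refine Submodule.smul_induction_on h1 (fun a ha x hx => ?_) ?_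
      · obtain ⟨b, rfl⟩ := hTt x hx
        exact ⟨a * b, Ideal.mul_mem_right _ _ ha, smul_smul _ _ _⟩
      · rintro _ _ ⟨a, ha, rfl⟩ ⟨b, hb, rfl⟩
        exact ⟨a + b, add_mem ha hb, (add_smul _ _ _).symm⟩
    obtain ⟨a, ha, h⟩ := h2
    obtain ⟨c, rfl⟩ := exists_V_of_coeff_zero (mem_IV_iff.1 ha)
    exact ⟨c, h⟩
  have hterm : ∀ (q : Fin r → D.Q) i, ∃ c : W, pT (q i : P) = verschiebung c • t ∧
      one (fun j => (q j : P)) i (pT (q i : P)) = verschiebung c • one (fun j => (q j : P)) i t := by
    intro q i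
    obtain ⟨c, hc⟩ := hcoef (q i)
    exact ⟨c, hc, by show ι _ = _; rw [hc]; exact AlternatingMap.map_update_smul _ _ _ _ _⟩
  have hLmem : ∀ v : Fin r → P, ι (fun j => pL (v j)) ∈ L' := fun v => ⟨ι v, hPLι v⟩
  have hQeq : E.Q = Submodule.span W (Set.range fun q : Fin r → D.Q => ι (fun i => (q i : P))) := by
    rw [hEQ]
    refine le_antisymm (sup_le ?_ ?_) (Submodule.span_le.2 ?_)
    · rintro _ ⟨z, rfl⟩
      have hz : z ∈ Submodule.span W (Set.range ι) := by rw [exteriorPower.ιMulti_span]; trivial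
      induction hz using Submodule.span_induction with
      | mem z hz =>
        obtain ⟨v, rfl⟩ := hz
        exact Submodule.subset_span ⟨fun i => ⟨pL (v i), le_Q D hQ (hpLmem _)⟩, (hPLι v).symm⟩
      | zero => simp
      | add a b _ _ ha hb => rw [map_add]; exact add_mem ha hb
      | smul c a _ ha => rw [map_smul]; exact Submodule.smul_mem _ _ ha
    · rw [Submodule.smul_le]
      intro a ha z hz
      have hz1 : z = z - PL z := by rw [LinearMap.mem_ker.1 hz, sub_zero]
      rw [hz1]
      have hz' : z ∈ Submodule.span W (Set.range ι) := by rw [exteriorPower.ιMulti_span]; trivial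
      clear hz hz1
      induction hz' using Submodule.span_induction with
      | mem z hz =>
        obtain ⟨v, rfl⟩ := hz
        rw [hPLι, hexp, add_sub_cancel_left, Finset.smul_sum]
        refine Submodule.sum_mem _ fun i _ => Submodule.subset_span ⟨fun j =>
          if h : j = i then ⟨a • pT (v i), D.IV_smul_le (Submodule.smul_mem_smul ha trivial)⟩
          else ⟨pL (v j), le_Q D hQ (hpLmem _)⟩, ?_⟩
        refine Eq.trans ?_ (AlternatingMap.map_update_smul _ _ _ _ _)
        refine congrArg ι (funext fun j => ?_)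
        rcases eq_or_ne j i with rfl | hne
        · simp
        · simp [hne]
      | zero => simp
      | add x y _ _ hx hy =>
        convert add_mem hx hy using 1
        rw [map_add, ← smul_add]; congr 1; abel
      | smul c x _ hx =>
        convert Submodule.smul_mem _ c hx using 1
        rw [map_smul, ← smul_sub, smul_comm]
    · rintro _ ⟨q, rfl⟩
      show ι (fun i => (q i : P)) ∈ L' ⊔ IV p R • T'
      rw [hexp]
      refine Submodule.add_mem_sup (hLmem _) (Submodule.sum_mem _ fun i _ => ?_)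
      obtain ⟨c, -, hc⟩ := hterm q i
      rw [hc]
      exact Submodule.smul_mem_smul (verschiebung_mem_IV p R c) (hone _ i t htT)
  refine ⟨E, ⟨hQeq, fun q hq => ?_⟩, L', T', hcompl, hEQ, rfl⟩
  choose c hc1 hc2 using hterm q
  let qv : Fin r → P := fun j => (q j : P)
  have hdec : (⟨_, hq⟩ : E.Q) = ⟨_, le_Q E hEQ (hLmem qv)⟩ +
      ∑ i, ⟨verschiebung (c i) • one qv i t, V_smul_mem E _ _⟩ := by
    refine Subtype.ext ?_
    rw [Submodule.coe_add, AddSubmonoidClass.coe_finsetSum]
    exact (hexp qv).trans (congrArg _ (Finset.sum_congr rfl fun i _ => hc2 i))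
  have hVq : ∀ j, D.Vinv (q j) = G (qv j) + c j • D.F t := by
    intro j
    rw [show q j = ⟨pL (qv j), le_Q D hQ (hpLmem _)⟩ + ⟨verschiebung (c j) • t, V_smul_mem D _ _⟩ from
      Subtype.ext ((hsum (qv j)).symm.trans (congrArg _ (hc1 j))), map_add, Vinv_V_smul]
    rfl
  rw [hdec, map_add, map_sum, show E.Vinv ⟨_, le_Q E hEQ (hLmem qv)⟩ = ΛG (ι fun j => pL (qv j)) from
    hEV ⟨_, hLmem qv⟩, hΛG]
  simp only [hGL]
  rw [show (fun i => D.Vinv (q i)) = fun i => G (qv i) + c i • D.F t from funext hVq,
    alt_expand _ (fun i => G (qv i)) (fun i => c i • D.F t) (D.F t) c (fun i => rfl)]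
  refine congrArg _ (Finset.sum_congr rfl fun i _ => ?_)
  rw [Vinv_V_smul E (c i), hEF, hFT _ (hone qv i t htT), hΦ, AlternatingMap.map_update_smul]
  congr 1
  refine congrArg _ (funext fun j => ?_)
  rcases eq_or_ne j i with rfl | hne
  · rw [Function.update_self, Function.update_self, hG't]
  · rw [Function.update_of_ne hne, Function.update_of_ne hne, hG'L _ (hpLmem _), hGL]

theorem isAltMult_ext {r : ℕ} (E : Display3n p R (⋀[WittVector p R]^r P)) (hE : IsExtPow D r E) :
    IsAltMult D E (exteriorPower.ιMulti (WittVector p R) r) := by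
  classical
  have hmem : ∀ q : Fin r → D.Q, exteriorPower.ιMulti (WittVector p R) r (fun i => (q i : P)) ∈ E.Q :=
    fun q => hE.1 ▸ Submodule.subset_span ⟨q, rfl⟩
  refine ⟨hmem, fun q => hE.2 q _, fun i x q => ?_⟩
  let q' : Fin r → D.Q := Function.update q i ⟨_, V_smul_mem D 1 x⟩
  have hq' : exteriorPower.ιMulti (WittVector p R) r (fun j => (q' j : P)) =
      verschiebung (1 : WittVector p R) •
        exteriorPower.ιMulti (WittVector p R) r (Function.update (fun j => (q j : P)) i x) := by
    rw [← AlternatingMap.map_update_smul]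
    refine congrArg _ (funext fun j => ?_)
    rcases eq_or_ne j i with rfl | hne
    · simp [q']
    · simp [q', hne]
  rw [F_eq_Vinv]
  refine Eq.trans (congrArg E.Vinv (Subtype.ext hq'.symm :
    _ = (⟨_, hmem q'⟩ : E.Q))) ((hE.2 q' _).trans ?_)
  refine congrArg _ (funext fun j => ?_)
  rcases eq_or_ne j i with rfl | hne
  · simp [q', F_eq_Vinv]
  · simp [q', hne]

theorem existsUnique_hom {r : ℕ} (E : Display3n p R (⋀[WittVector p R]^r P)) (hE : IsExtPow D r E)
    {P' : Type w} [AddCommGroup P'] [Module (WittVector p R) P'] (D' : Display3n p R P')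
    (φ : P [⋀^Fin r]→ₗ[WittVector p R] P') (hφ : IsAltMult D D' φ) :
    ∃! ψ : ⋀[WittVector p R]^r P →ₗ[WittVector p R] P',
      IsHom E D' ψ ∧ ψ.compAlternatingMap (exteriorPower.ιMulti (WittVector p R) r) = φ := by
  let ψ := exteriorPower.alternatingMapLinearEquiv φ
  have hψ : ∀ v, ψ (exteriorPower.ιMulti (WittVector p R) r v) = φ v :=
    fun v => exteriorPower.alternatingMapLinearEquiv_apply_ιMulti _ v
  have hmap : ∀ z ∈ E.Q, ψ z ∈ D'.Q := by
    rw [hE.1]
    intro z hz
    induction hz using Submodule.span_induction with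
    | mem z hz => obtain ⟨q, rfl⟩ := hz; rw [hψ]; exact hφ.mapsTo q
    | zero => simp
    | add a b _ _ ha hb => rw [map_add]; exact add_mem ha hb
    | smul c a _ ha => rw [map_smul]; exact Submodule.smul_mem _ _ ha
  have hV : ∀ z (hz : z ∈ E.Q), ψ (E.Vinv ⟨z, hz⟩) = D'.Vinv ⟨ψ z, hmap z hz⟩ := by
    intro z hz
    have hz0 : z ∈ Submodule.span (WittVector p R) (Set.range fun q : Fin r → D.Q =>
        exteriorPower.ιMulti (WittVector p R) r (fun i => (q i : P))) := hE.1 ▸ hz
    induction hz0 using Submodule.span_induction with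
    | mem a ha =>
      obtain ⟨q, rfl⟩ := ha
      rw [hE.2, hψ, ← hφ.vCond q]
      exact congrArg D'.Vinv (Subtype.ext (hψ _).symm)
    | zero =>
      exact (congrArg ψ (map_zero E.Vinv)).trans (((map_zero ψ)).trans
        ((congrArg D'.Vinv (Subtype.ext (map_zero ψ) : _ = (0 : D'.Q))).trans (map_zero D'.Vinv)).symm)
    | add a b ha hb iha ihb =>
      have ha' : a ∈ E.Q := hE.1 ▸ ha
      have hb' : b ∈ E.Q := hE.1 ▸ hb
      rw [show (⟨a + b, hz⟩ : E.Q) = ⟨a, ha'⟩ + ⟨b, hb'⟩ from rfl, map_add, map_add, iha ha', ihb hb', ← map_add]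
      exact congrArg D'.Vinv (Subtype.ext (map_add ψ a b).symm)
    | smul c a ha iha =>
      have ha' : a ∈ E.Q := hE.1 ▸ ha
      rw [show (⟨c • a, hz⟩ : E.Q) = c • ⟨a, ha'⟩ from rfl, LinearMap.map_smulₛₗ, map_smul, iha ha',
        ← LinearMap.map_smulₛₗ]
      exact congrArg D'.Vinv (Subtype.ext (map_smul ψ c a).symm)
  refine ⟨ψ, ⟨⟨hmap, fun x => ?_, fun q => hV q.1 q.2⟩, ?_⟩, fun ψ' hψ' => ?_⟩
  · rw [F_eq_Vinv E, hV, F_eq_Vinv D']
    exact congrArg D'.Vinv (Subtype.ext (map_smul ψ _ _))
  · exact AlternatingMap.ext hψ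
  · refine exteriorPower.linearMap_ext ?_
    rw [hψ'.2]
    exact (AlternatingMap.ext hψ).symm

end Groth.L15.DW
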