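import Groth.Agent.L15.DW.Ext
import Mathlib.LinearAlgebra.Dimension.StrongRankCondition
import Mathlib.LinearAlgebra.Dimension.Free
import Mathlib.LinearAlgebra.Basis.Prod
import Mathlib.LinearAlgebra.InvariantBasisNumber
import Mathlib.RingTheory.Finiteness.Projective
import Mathlib.Data.Set.PowersetCard

/-! The rank of the tangent module of an exterior power. -/

set_option autoImplicit false

namespace Groth.L15.DW

universe u v
open W4c1extbt610

variable {A : Type u} [CommRing A] [Nontrivial A] {P : Type v} [AddCommGroup P] [Module A P]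

theorem free_ker_map_proj [Module.Finite A P] {L T : Submodule A P} (hLT : IsCompl L T) (m : ℕ)
    (hL : Module.Free A L) (hLr : Module.finrank A L = m) (eT : T ≃ₗ[A] A) (r : ℕ) (hr : 1 ≤ r) :
    Module.Free A (LinearMap.ker (exteriorPower.map r (L.subtype.comp (Submodule.projectionOnto L T hLT)))) ∧
      Module.finrank A (LinearMap.ker (exteriorPower.map r (L.subtype.comp (Submodule.projectionOnto L T hLT)))) =
        m.choose (r - 1) := by
  classical
  haveI : Module.Finite A L := Module.Finite.of_surjective _ (Submodule.projectionOnto_surjective hLT)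
  let bL : Module.Basis (Fin m) A L := Module.finBasisOfFinrankEq A L hLr
  let bT : Module.Basis (Fin 1) A T := (Module.Basis.singleton (Fin 1) A).map eT.symm
  let b : Module.Basis (Fin (m + 1)) A P :=
    ((bL.prod bT).map (Submodule.prodEquivOfIsCompl L T hLT)).reindex finSumFinEquiv
  let pL : P →ₗ[A] P := L.subtype.comp (Submodule.projectionOnto L T hLT)
  have hLast : pL (b (Fin.last m)) = 0 := by
    have h : b (Fin.last m) = (bT 0 : P) := by
      have : finSumFinEquiv.symm (Fin.last m) = (Sum.inr 0 : Fin m ⊕ Fin 1) := by
        rw [Equiv.symm_apply_eq]; rfl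
      simp only [b, Module.Basis.reindex_apply, this, Module.Basis.map_apply, Submodule.coe_prodEquivOfIsCompl']
      simp
    rw [h]
    exact congrArg Subtype.val (Submodule.projectionOnto_apply_right hLT (bT 0))
  have hOther : ∀ i, i ≠ Fin.last m → pL (b i) = b i := by
    intro i hi
    obtain ⟨j, rfl⟩ := Fin.exists_castSucc_eq.2 hi
    have h : b j.castSucc = (bL j : P) := by
      have : finSumFinEquiv.symm j.castSucc = (Sum.inl j : Fin m ⊕ Fin 1) := by
        rw [Equiv.symm_apply_eq]; rfl
      simp only [b, Module.Basis.reindex_apply, this, Module.Basis.map_apply, Submodule.coe_prodEquivOfIsCompl']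
      simp
    rw [h]
    exact congrArg Subtype.val (Submodule.projectionOnto_apply_left hLT (bL j))
  let B := b.exteriorPower r
  let PL := exteriorPower.map r pL
  let good : Set.powersetCard (Fin (m + 1)) r → Prop := fun s => Fin.last m ∈ s
  have hB : ∀ s, PL (B s) = if good s then 0 else B s := by
    intro s
    rw [exteriorPower.basis_apply]
    show exteriorPower.map r pL _ = _
    rw [exteriorPower.map_apply_ιMulti_family]
    split_ifs with h
    · obtain ⟨i, hi⟩ := (Set.powersetCard.mem_range_ofFinEmbEquiv_symm_iff_mem s _).2 h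
      exact AlternatingMap.map_coord_zero _ i (show pL (b _) = 0 by rw [hi]; exact hLast)
    · refine congrArg (exteriorPower.ιMulti A r) (funext fun i => hOther _ fun he => h ?_)
      exact (Set.powersetCard.mem_range_ofFinEmbEquiv_symm_iff_mem s _).1 ⟨i, he⟩
  have hli : LinearIndependent A (fun s : {s // good s} => B s.1) :=
    B.linearIndependent.comp _ Subtype.val_injective
  have hspan : Submodule.span A (Set.range fun s : {s // good s} => B s.1) = LinearMap.ker PL := by
    refine le_antisymm (Submodule.span_le.2 ?_) fun z hz => ?_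
    · rintro _ ⟨s, rfl⟩
      rw [SetLike.mem_coe, LinearMap.mem_ker, hB, if_pos s.2]
    · have h0 : PL z = ∑ s, (if good s then 0 else B.repr z s) • B s := by
        conv_lhs => rw [← B.sum_repr z, map_sum]
        refine Finset.sum_congr rfl fun s _ => ?_
        rw [map_smul, hB]
        split_ifs <;> simp
      rw [LinearMap.mem_ker.1 hz] at h0
      rw [← B.sum_repr z]
      refine Submodule.sum_mem _ fun s _ => ?_
      have hs := Fintype.linearIndependent_iff.1 B.linearIndependent _ h0.symm s
      by_cases h : good s
      · exact Submodule.smul_mem _ _ (Submodule.subset_span ⟨⟨s, h⟩, rfl⟩)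
      · rw [if_neg h] at hs
        rw [hs, zero_smul]
        exact zero_mem _
  let bK := (Module.Basis.span hli).map (LinearEquiv.ofEq _ _ hspan)
  refine ⟨Module.Free.of_basis bK, ?_⟩
  show Module.finrank A (LinearMap.ker PL) = _
  rw [Module.finrank_eq_card_basis bK, Fintype.card_subtype]
  have htot : Fintype.card (Set.powersetCard (Fin (m + 1)) r) = (m + 1).choose r := by
    rw [Fintype.card_eq_nat_card, Set.powersetCard.card, Nat.card_fin]
  have hbad : (Finset.univ.filter fun s : Set.powersetCard (Fin (m + 1)) r => ¬ good s).card = m.choose r := by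
    have h1 : (Finset.univ.filter fun s : Set.powersetCard (Fin (m + 1)) r => ¬ good s).card =
        (Finset.powersetCard r (Finset.univ.erase (Fin.last m))).card := by
      refine Finset.card_bij (fun s _ => (s : Finset (Fin (m + 1)))) (fun s hs => ?_)
        (fun a _ b _ h => Subtype.ext h) (fun t ht => ?_)
      · rw [Finset.mem_powersetCard]
        refine ⟨fun x hx => Finset.mem_erase.2 ⟨fun he => (Finset.mem_filter.1 hs).2 (show Fin.last m ∈ s by rw [← he]; exact hx), Finset.mem_univ _⟩, ?_⟩
        exact s.2
      · rw [Finset.mem_powersetCard] at ht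
        refine ⟨Set.powersetCard.ofCard ht.2, Finset.mem_filter.2 ⟨Finset.mem_univ _, fun hmem => ?_⟩, rfl⟩
        exact (Finset.mem_erase.1 (ht.1 hmem)).1 rfl
    rw [h1, Finset.card_powersetCard, Finset.card_erase_of_mem (Finset.mem_univ _), Finset.card_univ,
      Fintype.card_fin, Nat.add_sub_cancel]
  have hsum := Finset.card_filter_add_card_filter_not
    (s := (Finset.univ : Finset (Set.powersetCard (Fin (m + 1)) r))) good
  rw [hbad, Finset.card_univ, htot] at hsum
  obtain ⟨r', rfl⟩ : ∃ r', r = r' + 1 := ⟨r - 1, by omega⟩
  rw [Nat.choose_succ_succ] at hsum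
  rw [Nat.add_sub_cancel]
  exact Nat.add_right_cancel hsum

end Groth.L15.DW
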