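import Groth.Agent.L15.DW.Basic
import Mathlib.Algebra.CharP.Lemmas
import Mathlib.LinearAlgebra.Basis.Basic
import Mathlib.RingTheory.Ideal.Span

/-! The Frobenius is uniformly nilpotent on `W(𝔞)`; rigidity of Frobenius isomorphisms. -/

set_option autoImplicit false

namespace Groth.L15.DW

universe u v w z
open WittVector

variable {p : ℕ} [hp : Fact p.Prime] {S : Type u} [CommRing S]

theorem coeff_frobenius_mem (b b' : Ideal S) (hpow : ∀ y ∈ b, y ^ p ∈ b')
    (hpmul : ∀ y ∈ b, (p : S) * y ∈ b') (x : WittVector p S) (hx : ∀ n, x.coeff n ∈ b) (n : ℕ) :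
    (frobenius x).coeff n ∈ b' := by
  rw [coeff_frobenius, frobeniusPoly, map_add, map_pow, MvPolynomial.aeval_X, map_mul, MvPolynomial.aeval_C]
  refine b'.add_mem (hpow _ (hx n)) ?_
  rw [map_natCast]
  refine hpmul _ ?_
  rw [← Ideal.Quotient.eq_zero_iff_mem]
  have hz : ∀ q : MvPolynomial ℕ ℤ, Ideal.Quotient.mk b (MvPolynomial.aeval x.coeff q) =
      ((MvPolynomial.constantCoeff q : ℤ) : S ⧸ b) := by
    intro q
    induction q using MvPolynomial.induction_on with
    | C a => simp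
    | add p q hp hq => simp [map_add, hp, hq]
    | mul_X p i _ => simp [Ideal.Quotient.eq_zero_iff_mem.2 (hx i)]
  have h0 : MvPolynomial.constantCoeff (frobeniusPolyAux p n) = (0 : ℤ) := by
    have h := congrArg (fun y : WittVector p ℤ => y.coeff n)
      (map_zero (frobenius : WittVector p ℤ →+* WittVector p ℤ))
    simp only [coeff_frobenius, zero_coeff] at h
    rw [show (0 : WittVector p ℤ).coeff = 0 from funext fun i => zero_coeff p ℤ i,
      MvPolynomial.aeval_zero] at h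
    simpa [frobeniusPoly, hp.out.ne_zero] using h
  rw [hz, h0, Int.cast_zero]

theorem exists_iterate_frobenius_eq_zero {R : Type u} [CommRing R] (φ : S →+* R) (hp' : IsNilpotent (p : S))
    (N : ℕ) (hN : ∀ a : S, φ a = 0 → a ^ N = 0) :
    ∃ K : ℕ, ∀ x ∈ RingHom.ker (WittVector.map (p := p) φ), (⇑(frobenius : WittVector p S →+* _))^[K] x = 0 := by
  let pS : Ideal S := Ideal.span {(p : S)}
  let C : ℕ → Ideal S := fun i => pS ⊔ Ideal.span ((fun a => a ^ p ^ i) '' {a | φ a = 0})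
  have hCstep : ∀ i, ∀ y ∈ C i, y ^ p ∈ C (i + 1) := by
    intro i y hy
    rw [show C i = Ideal.span ({(p : S)} ∪ (fun a => a ^ p ^ i) '' {a | φ a = 0}) from
      (Submodule.span_union _ _).symm] at hy
    induction hy using Submodule.span_induction with
    | mem y hy =>
      rcases hy with hy | ⟨a, ha, rfl⟩
      · rw [Set.mem_singleton_iff] at hy
        subst hy
        exact Ideal.mem_sup_left (Ideal.pow_mem_of_mem _ (Ideal.mem_span_singleton_self _) p hp.out.pos)
      · refine Ideal.mem_sup_right (Ideal.subset_span ⟨a, ha, ?_⟩)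
        show a ^ p ^ (i + 1) = (a ^ p ^ i) ^ p
        rw [← pow_mul, pow_succ]
    | zero => rw [zero_pow hp.out.ne_zero]; exact zero_mem _
    | add a b _ _ ha hb =>
      obtain ⟨r, hr⟩ := exists_add_pow_prime_eq hp.out a b
      rw [hr]
      refine add_mem (add_mem ha hb) (Ideal.mem_sup_left ?_)
      rw [mul_assoc, mul_assoc]
      exact Ideal.mul_mem_right _ _ (Ideal.mem_span_singleton_self _)
    | smul c a _ ha => rw [smul_eq_mul, mul_pow]; exact Ideal.mul_mem_left _ _ ha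
  have hp1 : ∀ i y, (p : S) * y ∈ C i := fun i y =>
    Ideal.mem_sup_left (Ideal.mul_mem_right _ _ (Ideal.mem_span_singleton_self _))
  have h1 : ∀ i, ∀ x ∈ RingHom.ker (WittVector.map (p := p) φ), ∀ n,
      ((⇑(frobenius : WittVector p S →+* _))^[i] x).coeff n ∈ C i := by
    intro i x hx
    induction i with
    | zero =>
      intro n
      refine Ideal.mem_sup_right (Ideal.subset_span ⟨x.coeff n, ?_, by simp⟩)
      have := congrArg (fun y : WittVector p R => y.coeff n) hx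
      simpa [map_coeff, zero_coeff] using this
    | succ i ih =>
      rw [Function.iterate_succ_apply']
      exact coeff_frobenius_mem (C i) (C (i + 1)) (hCstep i) (fun y _ => hp1 (i + 1) y) _ ih
  have hCN : C N ≤ pS := by
    refine sup_le le_rfl (Ideal.span_le.2 ?_)
    rintro _ ⟨a, ha, rfl⟩
    show a ^ p ^ N ∈ pS
    rw [pow_eq_zero_of_le (Nat.lt_pow_self hp.out.one_lt).le (hN a ha)]
    exact zero_mem _
  obtain ⟨M, hM⟩ := hp'
  have h2 : ∀ j, ∀ x ∈ RingHom.ker (WittVector.map (p := p) φ), ∀ n,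
      ((⇑(frobenius : WittVector p S →+* _))^[N + j] x).coeff n ∈ Ideal.span {(p : S) ^ (j + 1)} := by
    intro j x hx
    induction j with
    | zero => intro n; rw [zero_add, pow_one]; exact hCN (h1 N x hx n)
    | succ j ih =>
      rw [← add_assoc, Function.iterate_succ_apply']
      refine coeff_frobenius_mem _ _ (fun y hy => ?_) (fun y hy => ?_) _ ih
      · rw [Ideal.mem_span_singleton] at hy ⊢
        refine dvd_trans ?_ (pow_dvd_pow_of_dvd hy p)
        rw [← pow_mul]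
        exact pow_dvd_pow _ (by nlinarith [hp.out.two_le])
      · rw [Ideal.mem_span_singleton] at hy ⊢
        rw [pow_succ']
        exact mul_dvd_mul_left _ hy
  refine ⟨N + M, fun x hx => WittVector.ext fun n => ?_⟩
  have := h2 M x hx n
  rw [pow_succ, hM, zero_mul, Ideal.span_singleton_zero, Ideal.mem_bot] at this
  rw [this, zero_coeff]

variable {P₁ : Type v} [AddCommGroup P₁] [Module (WittVector p S) P₁]
  {P₂ : Type w} [AddCommGroup P₂] [Module (WittVector p S) P₂]

/-- The operator `α ↦ F₂ α F₁⁻¹`. -/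
noncomputable def Top {ι₁ : Type z} (b₁ b₁' : Module.Basis ι₁ (WittVector p S) P₁)
    (F₂ : P₂ →ₛₗ[(frobenius : WittVector p S →+* WittVector p S)] P₂) :
    (P₁ →ₗ[WittVector p S] P₂) →+ (P₁ →ₗ[WittVector p S] P₂) where
  toFun α := b₁'.constr (WittVector p S) fun i => F₂ (α (b₁ i))
  map_zero' := b₁'.ext fun i => by simp [Module.Basis.constr_basis]
  map_add' α β := b₁'.ext fun i => by simp [Module.Basis.constr_basis]

theorem Top_fixed_iff {ι₁ : Type z} (b₁ b₁' : Module.Basis ι₁ (WittVector p S) P₁)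
    (F₁ : P₁ →ₛₗ[(frobenius : WittVector p S →+* WittVector p S)] P₁) (hb : ∀ i, b₁' i = F₁ (b₁ i))
    (F₂ : P₂ →ₛₗ[(frobenius : WittVector p S →+* WittVector p S)] P₂) (α : P₁ →ₗ[WittVector p S] P₂) :
    Top b₁ b₁' F₂ α = α ↔ ∀ x, F₂ (α x) = α (F₁ x) := by
  have e : ∀ i, Top b₁ b₁' F₂ α (b₁' i) = F₂ (α (b₁ i)) := fun i => b₁'.constr_basis _ _ i
  constructor
  · intro h x
    rw [← b₁.linearCombination_repr x, Finsupp.linearCombination_apply]
    simp only [map_finsuppSum, LinearMap.map_smulₛₗ, RingHom.id_apply]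
    refine Finsupp.sum_congr fun i _ => ?_
    rw [← e i, h, hb]
  · intro h
    exact b₁'.ext fun i => by rw [e, h, hb]

/-- All values lie in `I • P₂`. -/
def ValuesIn (I : Ideal (WittVector p S)) (α : P₁ →ₗ[WittVector p S] P₂) : Prop :=
  ∀ x, α x ∈ I • (⊤ : Submodule (WittVector p S) P₂)

theorem valuesIn_Top {ι₁ : Type z} (b₁ b₁' : Module.Basis ι₁ (WittVector p S) P₁)
    (F₂ : P₂ →ₛₗ[(frobenius : WittVector p S →+* WittVector p S)] P₂)
    (I I' : Ideal (WittVector p S)) (hI : ∀ a ∈ I, frobenius a ∈ I') (α : P₁ →ₗ[WittVector p S] P₂)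
    (h : ValuesIn I α) : ValuesIn I' (Top b₁ b₁' F₂ α) := by
  have hv : ∀ y ∈ I • (⊤ : Submodule (WittVector p S) P₂), F₂ y ∈ I' • (⊤ : Submodule (WittVector p S) P₂) := by
    intro y hy
    refine Submodule.smul_induction_on hy (fun a ha t _ => ?_) (fun a b ha hb => ?_)
    · rw [F₂.map_smulₛₗ]; exact Submodule.smul_mem_smul (hI a ha) trivial
    · rw [map_add]; exact add_mem ha hb
  intro x
  rw [← b₁'.linearCombination_repr x, Finsupp.linearCombination_apply, map_finsuppSum]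
  refine Submodule.sum_mem _ fun i _ => ?_
  dsimp only
  rw [map_smul]
  refine Submodule.smul_mem _ _ ?_
  rw [show Top b₁ b₁' F₂ α (b₁' i) = F₂ (α (b₁ i)) from b₁'.constr_basis _ _ i]
  exact hv _ (h _)

theorem rigid {R : Type u} [CommRing R] (φ : S →+* R) (hp' : IsNilpotent (p : S))
    (N : ℕ) (hN : ∀ a : S, φ a = 0 → a ^ N = 0) {ι₁ : Type z} (b₁ : Module.Basis ι₁ (WittVector p S) P₁)
    (F₁ : P₁ →ₛₗ[(frobenius : WittVector p S →+* WittVector p S)] P₁)
    (F₂ : P₂ →ₛₗ[(frobenius : WittVector p S →+* WittVector p S)] P₂)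
    (hF₁ : LinearIndependent (WittVector p S) (fun i => F₁ (b₁ i)) ∧
      Submodule.span (WittVector p S) (Set.range fun i => F₁ (b₁ i)) = ⊤)
    (𝔠 : Ideal (WittVector p S)) (h𝔠 : 𝔠 ≤ RingHom.ker (WittVector.map (p := p) φ))
    (h𝔠F : ∀ x ∈ 𝔠, frobenius x ∈ 𝔠)
    (α₀ : P₁ →ₗ[WittVector p S] P₂)
    (hα₀ : ∀ x : P₁, F₂ (α₀ x) - α₀ (F₁ x) ∈ 𝔠 • (⊤ : Submodule (WittVector p S) P₂)) :
    ∃ α : P₁ →ₗ[WittVector p S] P₂,
      ((∀ x, α x - α₀ x ∈ 𝔠 • (⊤ : Submodule (WittVector p S) P₂)) ∧ ∀ x, F₂ (α x) = α (F₁ x)) ∧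
      ∀ β : P₁ →ₗ[WittVector p S] P₂,
        (∀ x, β x - α₀ x ∈ 𝔠 • (⊤ : Submodule (WittVector p S) P₂)) →
        (∀ x, F₂ (β x) = β (F₁ x)) → β = α := by
  obtain ⟨K, hK⟩ := exists_iterate_frobenius_eq_zero φ hp' N hN
  let b₁' := Module.Basis.mk hF₁.1 (le_of_eq hF₁.2.symm)
  have hb : ∀ i, b₁' i = F₁ (b₁ i) := fun i => Module.Basis.mk_apply _ _ i
  let T := Top b₁ b₁' F₂
  let c : ℕ → Ideal (WittVector p S) := fun i =>
    Ideal.span ((⇑(frobenius : WittVector p S →+* _))^[i] '' (𝔠 : Set (WittVector p S)))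
  have hc0 : c 0 = 𝔠 := by simp [c]
  have hcstep : ∀ i, ∀ a ∈ c i, (frobenius : WittVector p S →+* _) a ∈ c (i + 1) := fun i => by
    show c i ≤ (c (i + 1)).comap (frobenius : WittVector p S →+* _)
    refine Ideal.span_le.2 ?_
    rintro _ ⟨a, ha, rfl⟩
    refine Ideal.subset_span ⟨a, ha, ?_⟩
    rw [Function.iterate_succ_apply']
  have hcle : ∀ i, c i ≤ 𝔠 := fun i => Ideal.span_le.2 (by
    rintro _ ⟨a, ha, rfl⟩
    induction i with
    | zero => exact ha
    | succ i ih => rw [Function.iterate_succ_apply']; exact h𝔠F _ ih)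
  have hcK : c K = ⊥ := le_bot_iff.1 (Ideal.span_le.2 (by
    rintro _ ⟨a, ha, rfl⟩; exact hK a (h𝔠 ha)))
  have hit : ∀ (δ : P₁ →ₗ[WittVector p S] P₂), ValuesIn 𝔠 δ → ∀ i, ValuesIn (c i) (T^[i] δ) := by
    intro δ hδ i
    induction i with
    | zero => rw [hc0]; exact hδ
    | succ i ih => rw [Function.iterate_succ_apply']; exact valuesIn_Top b₁ b₁' F₂ _ _ (hcstep i) _ ih
  have hz : ∀ (δ : P₁ →ₗ[WittVector p S] P₂), ValuesIn 𝔠 δ → T^[K] δ = 0 := by
    intro δ hδ
    apply LinearMap.ext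
    intro x
    have := hit δ hδ K x
    rw [hcK, Submodule.bot_smul, Submodule.mem_bot] at this
    rw [this, LinearMap.zero_apply]
  let δ₀ := T α₀ - α₀
  have hδ₀ : ValuesIn 𝔠 δ₀ := by
    intro x
    rw [← b₁'.linearCombination_repr x, Finsupp.linearCombination_apply, map_finsuppSum]
    refine Submodule.sum_mem _ fun i _ => ?_
    dsimp only
    rw [map_smul]
    refine Submodule.smul_mem _ _ ?_
    rw [LinearMap.sub_apply, show T α₀ (b₁' i) = F₂ (α₀ (b₁ i)) from b₁'.constr_basis _ _ i, hb]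
    exact hα₀ _
  let α := α₀ + ∑ i ∈ Finset.range K, T^[i] δ₀
  have hfix : T α = α := by
    have h1 : T α = T α₀ + ∑ i ∈ Finset.range K, T^[i + 1] δ₀ := by
      simp only [α, map_add, map_sum, Function.iterate_succ_apply']
    have h2 := Finset.sum_range_succ' (fun i => T^[i] δ₀) K
    rw [Finset.sum_range_succ, hz δ₀ hδ₀, add_zero, Function.iterate_zero, id] at h2
    rw [h1]
    show _ = α₀ + ∑ i ∈ Finset.range K, T^[i] δ₀
    rw [h2]
    show _ = α₀ + (_ + (T α₀ - α₀))
    abel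
  refine ⟨α, ⟨fun x => ?_, (Top_fixed_iff b₁ b₁' F₁ hb F₂ α).1 hfix⟩, fun β hβ0 hβF => ?_⟩
  · simp only [α, LinearMap.add_apply, add_sub_cancel_left, LinearMap.sum_apply]
    exact Submodule.sum_mem _ fun i _ => Submodule.smul_mono_left (hcle i) (hit δ₀ hδ₀ i x)
  · have hd : ValuesIn 𝔠 (β - α) := by
      intro x
      have e : (β - α) x = (β x - α₀ x) - ∑ i ∈ Finset.range K, (T^[i] δ₀) x := by
        simp only [α, LinearMap.sub_apply, LinearMap.add_apply, LinearMap.sum_apply]; abel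
      rw [e]
      exact sub_mem (hβ0 x) (Submodule.sum_mem _ fun i _ =>
        Submodule.smul_mono_left (hcle i) (hit δ₀ hδ₀ i x))
    have h1 : ∀ i, T^[i] (β - α) = β - α := by
      intro i
      induction i with
      | zero => rfl
      | succ i ih =>
        rw [Function.iterate_succ_apply', ih, map_sub, hfix, (Top_fixed_iff b₁ b₁' F₁ hb F₂ β).2 hβF]
    have := hz _ hd
    rw [h1 K, sub_eq_zero] at this
    exact this

end Groth.L15.DW
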