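import Groth.Agent.L15.DW.Basic
import Groth.Agent.L15.DW.Rigid
import Mathlib.Algebra.TrivSqZeroExt.Basic
import Mathlib.Algebra.Module.Prod

/-! Witt vectors with coefficients in an ideal `b`, modulo those with coefficients in `b₁ ⊇ b² + pb`. -/

set_option autoImplicit false

namespace Groth.L15.DW

universe u
open WittVector TrivSqZeroExt

variable {p : ℕ} [hp : Fact p.Prime] {S : Type u} [CommRing S]

/-- Witt vectors with coefficients in `b`. -/
noncomputable def WI (b : Ideal S) : Ideal (WittVector p S) :=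
  RingHom.ker (WittVector.map (Ideal.Quotient.mk b))

theorem mem_WI {b : Ideal S} {x : WittVector p S} : x ∈ WI b ↔ ∀ n, x.coeff n ∈ b := by
  rw [WI, RingHom.mem_ker, WittVector.ext_iff]
  simp only [map_coeff, zero_coeff, Ideal.Quotient.eq_zero_iff_mem]

theorem WI_mono {b b' : Ideal S} (h : b ≤ b') : (WI b : Ideal (WittVector p S)) ≤ WI b' :=
  fun _ hx => mem_WI.2 fun n => h (mem_WI.1 hx n)

theorem WI_bot : (WI (⊥ : Ideal S) : Ideal (WittVector p S)) = ⊥ :=
  le_bot_iff.1 fun x hx => WittVector.ext fun n => by rw [zero_coeff]; exact mem_WI.1 hx n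

theorem verschiebung_mem_WI {b : Ideal S} {x : WittVector p S} : verschiebung x ∈ WI b ↔ x ∈ WI b := by
  simp only [mem_WI]
  refine ⟨fun h n => by simpa using h (n + 1), fun h n => ?_⟩
  cases n with
  | zero => rw [verschiebung_coeff_zero]; exact b.zero_mem
  | succ n => rw [verschiebung_coeff_succ]; exact h n

variable {b b₁ : Ideal S}

theorem σ_mem_WI (hbb : b * b ≤ b₁) (hpb : ∀ y ∈ b, (p : S) * y ∈ b₁) {x : WittVector p S} (hx : x ∈ WI b) :
    frobenius x ∈ WI b₁ := by
  refine mem_WI.2 (coeff_frobenius_mem b b₁ (fun y hy => ?_) hpb x (mem_WI.1 hx))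
  rw [show p = (p - 2) + 2 from by have := hp.out.two_le; omega, pow_add, pow_two]
  exact Ideal.mul_mem_left _ _ (hbb (Ideal.mul_mem_mul hy hy))

theorem p_mul_mem_WI (hbb : b * b ≤ b₁) (hpb : ∀ y ∈ b, (p : S) * y ∈ b₁) {x : WittVector p S} (hx : x ∈ WI b) :
    (p : WittVector p S) * x ∈ WI b₁ := by
  rw [mul_comm, ← frobenius_verschiebung]
  exact σ_mem_WI hbb hpb (verschiebung_mem_WI.2 hx)

theorem V_mul_mem_WI (hbb : b * b ≤ b₁) (hpb : ∀ y ∈ b, (p : S) * y ∈ b₁) {x : WittVector p S} (hx : x ∈ WI b)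
    (c : WittVector p S) : verschiebung c * x ∈ WI b₁ := by
  rw [V_mul, verschiebung_mem_WI]
  exact Ideal.mul_mem_left _ _ (σ_mem_WI hbb hpb hx)

theorem IV_sup_p_mul_mem_WI (hbb : b * b ≤ b₁) (hpb : ∀ y ∈ b, (p : S) * y ∈ b₁) {x a : WittVector p S}
    (hx : x ∈ WI b) (ha : a ∈ W4c1extbt610.IV p S ⊔ Ideal.span {(p : WittVector p S)}) : a * x ∈ WI b₁ := by
  obtain ⟨y, hy, z, hz, rfl⟩ := Submodule.mem_sup.1 ha
  rw [add_mul]
  refine add_mem ?_ ?_
  · obtain ⟨c, rfl⟩ := exists_V_of_coeff_zero (mem_IV_iff.1 hy)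
    exact V_mul_mem_WI hbb hpb hx c
  · obtain ⟨c, rfl⟩ := Ideal.mem_span_singleton'.1 hz
    rw [mul_assoc]
    exact Ideal.mul_mem_left _ _ (p_mul_mem_WI hbb hpb hx)

/-- The universal pair of elements with all products zero. -/
abbrev T2 := TrivSqZeroExt ℤ (ℤ × ℤ)

theorem teich_add_T2 (x y : ℤ × ℤ) :
    teichmuller p (inr (x + y) : T2) = teichmuller p (inr x : T2) + teichmuller p (inr y : T2) := by
  set D := teichmuller p (inr (x + y) : T2) - (teichmuller p (inr x : T2) + teichmuller p (inr y : T2)) with hD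
  have hpow : ∀ (z : ℤ × ℤ) (m : ℕ), (inr z : T2) ^ (m + 2) = 0 := fun z m => by
    rw [pow_add, pow_two, inr_mul_inr, mul_zero]
  have hghost : ∀ n, ghostComponent n D = 0 := by
    intro n
    rw [hD, map_sub, map_add, ghostComponent_teichmuller, ghostComponent_teichmuller, ghostComponent_teichmuller]
    cases n with
    | zero => rw [pow_zero, pow_one, pow_one, pow_one, inr_add, sub_self]
    | succ n =>
      have h2 : p ^ (n + 1) = (p ^ (n + 1) - 2) + 2 := by
        have : 2 ≤ p ^ (n + 1) := le_trans hp.out.two_le (Nat.le_self_pow (by omega) p)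
        omega
      rw [h2, hpow, hpow, hpow, add_zero, sub_zero]
  have hz : D = 0 := by
    refine WittVector.ext fun n => ?_
    rw [zero_coeff]
    induction n using Nat.strong_induction_on with
    | _ n ih =>
      have h := hghost n
      rw [ghostComponent_apply, aeval_wittPolynomial, Finset.sum_range_succ, Nat.sub_self, pow_zero, pow_one,
        Finset.sum_eq_zero fun i hi => by
          rw [ih i (Finset.mem_range.1 hi), zero_pow (pow_ne_zero _ hp.out.ne_zero), mul_zero], zero_add] at h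
      rw [← map_natCast (inlHom ℤ (ℤ × ℤ)), ← map_pow] at h
      have hne : ((p : ℤ) ^ n) ≠ 0 := pow_ne_zero _ (by exact_mod_cast hp.out.ne_zero)
      have hsmul : ((p : ℤ) ^ n) • D.coeff n = 0 := by
        rw [← inl_mul_eq_smul]; exact h
      refine TrivSqZeroExt.ext ?_ ?_
      · have := congrArg fst hsmul
        rw [fst_smul, fst_zero, smul_eq_zero] at this
        exact this.resolve_left hne
      · have := congrArg snd hsmul
        rw [snd_smul, snd_zero, smul_eq_zero] at this
        exact this.resolve_left hne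
  exact sub_eq_zero.1 hz

theorem teich_add_mem_WI (hbb : b * b ≤ b₁) {x y : S} (hx : x ∈ b) (hy : y ∈ b) :
    teichmuller p (x + y) - (teichmuller p x + teichmuller p y) ∈ WI b₁ := by
  let mk := Ideal.Quotient.mk b₁
  have hz : ∀ a ∈ b, ∀ c ∈ b, mk a * mk c = 0 := fun a ha c hc => by
    rw [← map_mul]; exact Ideal.Quotient.eq_zero_iff_mem.2 (hbb (Ideal.mul_mem_mul ha hc))
  let gl : (ℤ × ℤ) →ₗ[ℤ] S ⧸ b₁ := (LinearMap.toSpanSingleton ℤ _ (mk x)).coprod (LinearMap.toSpanSingleton ℤ _ (mk y))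
  have hgl : ∀ z, gl z = mk ((z.1 : S) * x + (z.2 : S) * y) := fun z => by
    simp [gl, zsmul_eq_mul, mk]
  let e : T2 →ₐ[ℤ] S ⧸ b₁ := TrivSqZeroExt.lift (Algebra.ofId ℤ _) gl
    (fun z w => by
      rw [hgl, hgl]
      exact hz _ (add_mem (b.mul_mem_left _ hx) (b.mul_mem_left _ hy)) _
        (add_mem (b.mul_mem_left _ hx) (b.mul_mem_left _ hy)))
    (fun r z => by rw [map_smul, Algebra.smul_def]; rfl)
    (fun r z => by
      rw [op_smul_eq_smul, map_smul, Algebra.smul_def, mul_comm]
      rfl)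
  have he : ∀ z, e (inr z) = gl z := fun z => by rw [lift_def, fst_inr, snd_inr, map_zero, zero_add]
  rw [WI, RingHom.mem_ker, map_sub, map_add (WittVector.map (Ideal.Quotient.mk b₁)), map_teichmuller,
    map_teichmuller, map_teichmuller, map_add (Ideal.Quotient.mk b₁), sub_eq_zero]
  have := congrArg (WittVector.map e.toRingHom) (teich_add_T2 (p := p) (1, 0) (0, 1))
  rw [map_add (WittVector.map e.toRingHom), map_teichmuller, map_teichmuller, map_teichmuller] at this
  simpa [he, hgl, mk] using this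

end Groth.L15.DW
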