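import Groth.Agent.L15.DW.Nilp
import Groth.Agent.L15.DW.SquareZero
import Mathlib.RingTheory.Nilpotent.Lemmas

/-! Homomorphisms of displays: rigidity along nilpotent ideals and `p`-power liftability. -/

set_option autoImplicit false

namespace Groth.L15.DW

universe u v v'
open WittVector W4c1extbt610 Dieu

variable {p : ℕ} [hp : Fact p.Prime] {S : Type u} [CommRing S]
  {P : Type v} [AddCommGroup P] [Module (WittVector p S) P]
  {P' : Type v'} [AddCommGroup P'] [Module (WittVector p S) P']

local notation "σ" => (WittVector.frobenius : WittVector p S →+* WittVector p S)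

/-- `V⁻¹` of the non-constant part. -/
noncomputable def uu (x : WittVector p S) : WittVector p S :=
  vinv (p := p) ⟨x - teichmuller p (x.coeff 0), mem_IV_iff.2 (sub_teich_coeff_zero x)⟩

theorem V_uu (x : WittVector p S) : verschiebung (uu x) = x - teichmuller p (x.coeff 0) := V_vinv _

theorem uu_of_mem_IV (c : WittVector p S) : uu (verschiebung c) = c := by
  apply verschiebung_injective p S
  rw [V_uu, verschiebung_coeff_zero, teichmuller_zero, sub_zero]

variable {b b₁ : Ideal S}

theorem uu_add_sub (hbb : b * b ≤ b₁) {x y : WittVector p S} (hx : x ∈ WI b) (hy : y ∈ WI b) :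
    uu (x + y) - (uu x + uu y) ∈ WI b₁ := by
  rw [← verschiebung_mem_WI, map_sub, map_add, V_uu, V_uu, V_uu, add_coeff_zero]
  have h := neg_mem (teich_add_mem_WI (p := p) hbb (mem_WI.1 hx 0) (mem_WI.1 hy 0))
  convert h using 1
  ring

theorem uu_mem_WI {c : Ideal S} {x : WittVector p S} (hx : x ∈ WI c) : uu x ∈ WI c := by
  rw [← verschiebung_mem_WI, V_uu]
  refine sub_mem hx (mem_WI.2 fun n => ?_)
  cases n with
  | zero => rw [teichmuller_coeff_zero]; exact mem_WI.1 hx 0
  | succ n => rw [teichmuller_coeff_pos p _ (n + 1) (Nat.succ_pos n)]; exact c.zero_mem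

theorem uu_mul_sub (hbb : b * b ≤ b₁) (hpb : ∀ y ∈ b, (p : S) * y ∈ b₁) (a : WittVector p S) {x : WittVector p S}
    (hx : x ∈ WI b) : uu (a * x) - σ a * uu x ∈ WI b₁ := by
  rw [← verschiebung_mem_WI, map_sub, V_uu, mul_comm (σ a) (uu x), verschiebung_mul_frobenius, V_uu,
    mul_coeff_zero, map_mul]
  obtain ⟨c, hc⟩ := exists_V_of_coeff_zero (sub_teich_coeff_zero a)
  have ht : teichmuller p (x.coeff 0) ∈ WI b := mem_WI.2 fun n => by
    cases n with
    | zero => rw [teichmuller_coeff_zero]; exact mem_WI.1 hx 0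
    | succ n => rw [teichmuller_coeff_pos p _ (n + 1) (Nat.succ_pos n)]; exact b.zero_mem
  have h := V_mul_mem_WI hbb hpb ht c
  rw [hc] at h
  convert h using 1
  ring

section U

variable (D' : Display3n p S P') (T : Submodule (WittVector p S) P') {d : ℕ}
  (e' : Fin d → P') (φ' : Fin d → (P' →ₗ[WittVector p S] WittVector p S)) (pT : P' →ₗ[WittVector p S] P')

/-- The extension of `V⁻¹` to `W(b) P'`, modulo `W(b₁) P'`. -/
noncomputable def Umap (z : P') : P' := ∑ i, uu (φ' i (pT z)) • D'.F (e' i)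

variable {D'} {e'} {φ'} {pT}

theorem coord_mem {c : Ideal (WittVector p S)} {z : P'} (hz : z ∈ c • (⊤ : Submodule (WittVector p S) P'))
    (f : P' →ₗ[WittVector p S] WittVector p S) : f z ∈ c := by
  refine Submodule.smul_induction_on hz (fun a ha t _ => ?_) (fun a b ha hb => ?_)
  · rw [map_smul, smul_eq_mul]; exact c.mul_mem_right _ ha
  · rw [map_add]; exact add_mem ha hb

theorem Umap_mem {c : Ideal S} {z : P'} (hz : z ∈ (WI c : Ideal (WittVector p S)) • (⊤ : Submodule (WittVector p S) P')) :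
    Umap D' e' φ' pT z ∈ (WI c : Ideal (WittVector p S)) • (⊤ : Submodule (WittVector p S) P') :=
  Submodule.sum_mem _ fun i _ =>
    Submodule.smul_mem_smul (uu_mem_WI (coord_mem hz ((φ' i).comp pT))) trivial

theorem Umap_add_sub (hbb : b * b ≤ b₁) {z z' : P'} (hz : z ∈ (WI b : Ideal (WittVector p S)) • (⊤ : Submodule (WittVector p S) P'))
    (hz' : z' ∈ (WI b : Ideal (WittVector p S)) • (⊤ : Submodule (WittVector p S) P')) :
    Umap D' e' φ' pT (z + z') - (Umap D' e' φ' pT z + Umap D' e' φ' pT z') ∈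
      (WI b₁ : Ideal (WittVector p S)) • (⊤ : Submodule (WittVector p S) P') := by
  rw [Umap, Umap, Umap, ← Finset.sum_add_distrib, ← Finset.sum_sub_distrib]
  refine Submodule.sum_mem _ fun i _ => ?_
  rw [← add_smul, ← sub_smul, map_add, map_add]
  exact Submodule.smul_mem_smul
    (uu_add_sub hbb (coord_mem hz ((φ' i).comp pT)) (coord_mem hz' ((φ' i).comp pT))) trivial

theorem Umap_smul_sub (hbb : b * b ≤ b₁) (hpb : ∀ y ∈ b, (p : S) * y ∈ b₁) (a : WittVector p S) {z : P'}
    (hz : z ∈ (WI b : Ideal (WittVector p S)) • (⊤ : Submodule (WittVector p S) P')) :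
    Umap D' e' φ' pT (a • z) - σ a • Umap D' e' φ' pT z ∈ (WI b₁ : Ideal (WittVector p S)) • (⊤ : Submodule (WittVector p S) P') := by
  rw [Umap, Umap, Finset.smul_sum, ← Finset.sum_sub_distrib]
  refine Submodule.sum_mem _ fun i _ => ?_
  rw [smul_smul, ← sub_smul, map_smul, map_smul, smul_eq_mul]
  exact Submodule.smul_mem_smul (uu_mul_sub hbb hpb a (coord_mem hz ((φ' i).comp pT))) trivial

theorem Umap_zero : Umap D' e' φ' pT (0 : P') = 0 :=
  Finset.sum_eq_zero fun i _ => by
    rw [map_zero, map_zero, show (0 : WittVector p S) = verschiebung 0 from (map_zero _).symm, uu_of_mem_IV,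
      zero_smul]

theorem Umap_sum_sub (hbb : b * b ≤ b₁) (hpb : ∀ y ∈ b, (p : S) * y ∈ b₁) {ι : Type*} (s : Finset ι)
    (a : ι → WittVector p S) (z : ι → P') (hz : ∀ i, z i ∈ (WI b : Ideal (WittVector p S)) • (⊤ : Submodule (WittVector p S) P')) :
    Umap D' e' φ' pT (∑ i ∈ s, a i • z i) - ∑ i ∈ s, σ (a i) • Umap D' e' φ' pT (z i) ∈
      (WI b₁ : Ideal (WittVector p S)) • (⊤ : Submodule (WittVector p S) P') := by
  classical
  induction s using Finset.induction_on with
  | empty => simp [Umap_zero]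
  | insert i s hi ih =>
    rw [Finset.sum_insert hi, Finset.sum_insert hi]
    have h1 := Umap_add_sub (D' := D') (e' := e') (φ' := φ') (pT := pT) hbb (Submodule.smul_mem _ (a i) (hz i))
      (Submodule.sum_mem ((WI b : Ideal (WittVector p S)) • (⊤ : Submodule (WittVector p S) P')) (t := s)
        (f := fun j => a j • z j) fun j _ => Submodule.smul_mem _ (a j) (hz j))
    have h2 := Umap_smul_sub (D' := D') (e' := e') (φ' := φ') (pT := pT) hbb hpb (a i) (hz i)
    convert add_mem h1 (add_mem h2 ih) using 1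
    abel

theorem Umap_congr (hbb : b * b ≤ b₁) (hb₁ : b₁ ≤ b) {z z' : P'}
    (hz' : z' ∈ (WI b : Ideal (WittVector p S)) • (⊤ : Submodule (WittVector p S) P'))
    (h : z - z' ∈ (WI b₁ : Ideal (WittVector p S)) • (⊤ : Submodule (WittVector p S) P')) :
    Umap D' e' φ' pT z - Umap D' e' φ' pT z' ∈ (WI b₁ : Ideal (WittVector p S)) • (⊤ : Submodule (WittVector p S) P') := by
  have h1 := Umap_add_sub (D' := D') (e' := e') (φ' := φ') (pT := pT) hbb
    (Submodule.smul_mono (WI_mono hb₁) le_rfl h) hz'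
  rw [sub_add_cancel] at h1
  convert add_mem h1 (Umap_mem (D' := D') (e' := e') (φ' := φ') (pT := pT) h) using 1
  abel

end U

/-- One step of the rigidity. -/
theorem values_step (hbb : b * b ≤ b₁) (hpb : ∀ y ∈ b, (p : S) * y ∈ b₁) (hb₁ : b₁ ≤ b)
    (D : Display3n p S P) (D' : Display3n p S P')
    (Vs : P →ₗ[WittVector p S] BC (WittVector.frobenius : WittVector p S →+* WittVector p S) P)
    (hVs : IsVSharp D Vs) (hnil : IsVNilpotent Vs) (ψ : P →ₗ[WittVector p S] P') (hψ : IsHom D D' ψ)
    (hval : ∀ x, ψ x ∈ (WI b : Ideal (WittVector p S)) • (⊤ : Submodule (WittVector p S) P')) :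
    ∀ x, ψ x ∈ (WI b₁ : Ideal (WittVector p S)) • (⊤ : Submodule (WittVector p S) P') := by
  haveI := D.finite
  haveI := D.projective
  haveI := D'.finite
  haveI := D'.projective
  obtain ⟨d, e, φ, hφ⟩ := exists_dual_basis (WittVector p S) P
  obtain ⟨d', e', φ', hφ'⟩ := exists_dual_basis (WittVector p S) P'
  obtain ⟨L, T, hLT, hQ⟩ := D'.exists_normal
  let pL : P' →ₗ[WittVector p S] P' := L.subtype.comp (Submodule.projectionOnto L T hLT)
  let pT : P' →ₗ[WittVector p S] P' := T.subtype.comp (Submodule.projectionOnto T L hLT.symm)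
  let K := (WI b₁ : Ideal (WittVector p S)) • (⊤ : Submodule (WittVector p S) P')
  let U := Umap D' e' φ' pT
  let G : P' →ₛₗ[σ] P' :=
    D'.Vinv.comp ((Submodule.inclusion (le_Q D' hQ)).comp (Submodule.projectionOnto L T hLT))
  have hVU : ∀ (z : P') (hz : z ∈ D'.Q), z ∈ (WI b : Ideal (WittVector p S)) • (⊤ : Submodule (WittVector p S) P') →
      D'.Vinv ⟨z, hz⟩ - U z ∈ K := by
    intro z hz hzb
    have hLmem : pL z ∈ D'.Q := le_Q D' hQ (Submodule.projectionOnto L T hLT z).2
    have hTmem : pT z ∈ IV p S • (⊤ : Submodule (WittVector p S) P') := projT_mem hLT (hQ ▸ hz)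
    have hTQ : pT z ∈ D'.Q := D'.IV_smul_le hTmem
    have hdec : (⟨z, hz⟩ : D'.Q) = ⟨pL z, hLmem⟩ + ⟨pT z, hTQ⟩ :=
      Subtype.ext (Submodule.projection_add_projection_eq_self hLT z).symm
    have h1 : D'.Vinv ⟨pL z, hLmem⟩ ∈ K := by
      show G z ∈ K
      refine Submodule.smul_induction_on hzb (fun a ha t _ => ?_) (fun a c ha hc => ?_)
      · rw [G.map_smulₛₗ]; exact Submodule.smul_mem_smul (σ_mem_WI hbb hpb ha) trivial
      · rw [map_add]; exact add_mem ha hc
    have h2 : D'.Vinv ⟨pT z, hTQ⟩ = U z := by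
      choose c hc using fun i => exists_V_of_coeff_zero (mem_IV_iff.1 (coord_mem hTmem (φ' i)))
      have hsum : (⟨pT z, hTQ⟩ : D'.Q) = ∑ i, ⟨verschiebung (c i) • e' i, V_smul_mem D' _ _⟩ := by
        refine Subtype.ext ?_
        rw [AddSubmonoidClass.coe_finsetSum]
        simp only [hc, hφ']
      rw [hsum, map_sum]
      refine Finset.sum_congr rfl fun i _ => ?_
      rw [Vinv_V_smul D' (c i), show φ' i (pT z) = verschiebung (c i) from (hc i).symm, uu_of_mem_IV]
    rw [hdec, map_add, h2, add_sub_cancel_right]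
    exact h1
  have hU1 : ∀ x, ψ x - ∑ i, bcFun σ (φ i) (Vs x) • U (ψ (e i)) ∈ K := by
    intro x
    have hx : x ∈ (⊤ : Submodule (WittVector p S) P) := trivial
    rw [← D.span_range_Vinv] at hx
    induction hx using Submodule.span_induction with
    | mem z hz =>
      obtain ⟨y, rfl⟩ := hz
      have h := hVs.app_smul_Vinv 1 y
      rw [one_smul] at h
      simp only [h, bcFun_tmul, one_mul]
      rw [hψ.comm_Vinv y]
      have h1 := hVU _ (hψ.mapsTo _ y.2) (hval y)
      have h2 : U (ψ (y : P)) - ∑ i, σ (φ i (y : P)) • U (ψ (e i)) ∈ K := by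
        conv in U (ψ (y : P)) => rw [← hφ (y : P), map_sum]; simp only [map_smul]
        exact Umap_sum_sub hbb hpb _ _ _ fun i => hval (e i)
      convert add_mem h1 h2 using 1
      abel
    | zero => simp
    | add a c _ _ ha hc =>
      convert add_mem ha hc using 1
      simp only [map_add, add_smul, Finset.sum_add_distrib]
      abel
    | smul a c _ hc =>
      convert Submodule.smul_mem _ a hc using 1
      simp only [map_smul, smul_sub, Finset.smul_sum, smul_eq_mul, mul_smul]
  let Z : ℕ → Fin d → P' := fun n i => U^[n + 1] (ψ (e i))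
  have hZmem : ∀ n i, Z n i ∈ (WI b : Ideal (WittVector p S)) • (⊤ : Submodule (WittVector p S) P') := by
    intro n i
    induction n with
    | zero => exact Umap_mem (hval _)
    | succ n ih =>
      show U^[n + 1 + 1] _ ∈ _
      rw [Function.iterate_succ_apply']
      exact Umap_mem ih
  have hC : ∀ n j, ψ (e j) - ∑ i, matPow e φ Vs n i j • Z n i ∈ K := by
    intro n
    induction n with
    | zero => intro j; rw [matPow_zero]; exact hU1 (e j)
    | succ n ih =>
      intro j
      have key : ∀ l, U (ψ (e l)) - ∑ i, σ (matPow e φ Vs n i l) • Z (n + 1) i ∈ K := by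
        intro l
        have hsum : ∑ i, matPow e φ Vs n i l • Z n i ∈ (WI b : Ideal (WittVector p S)) • (⊤ : Submodule (WittVector p S) P') :=
          Submodule.sum_mem _ fun i _ => Submodule.smul_mem _ _ (hZmem n i)
        have h1 := Umap_congr (D' := D') (e' := e') (φ' := φ') (pT := pT) hbb hb₁ hsum (ih l)
        have h2 := Umap_sum_sub (D' := D') (e' := e') (φ' := φ') (pT := pT) hbb hpb Finset.univ
          (fun i => matPow e φ Vs n i l) (Z n) (hZmem n)
        convert add_mem h1 h2 using 1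
        simp only [Z, U, Function.iterate_succ_apply' _ (n + 1)]
        abel
      have h3 : ∑ l, bcFun σ (φ l) (Vs (e j)) • (U (ψ (e l)) - ∑ i, σ (matPow e φ Vs n i l) • Z (n + 1) i) ∈ K :=
        Submodule.sum_mem _ fun l _ => Submodule.smul_mem _ _ (key l)
      convert add_mem (hU1 (e j)) h3 using 1
      rw [matPow_succ Vs hφ]
      simp only [Matrix.mul_apply, Matrix.map_apply, matV, Matrix.of_apply, Finset.sum_smul, smul_sub,
        Finset.smul_sum, smul_smul, Finset.sum_sub_distrib]
      rw [Finset.sum_comm]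
      simp only [mul_comm (σ _)]
      abel
  obtain ⟨n, hn⟩ := (isVNilpotent_iff hφ Vs).1 hnil
  have hgen : ∀ j, ψ (e j) ∈ K := fun j => by
    rw [← sub_add_cancel (ψ (e j)) (∑ i, matPow e φ Vs n i j • Z n i)]
    refine add_mem (hC n j) (Submodule.sum_mem _ fun i _ => ?_)
    refine Submodule.smul_induction_on (hZmem n i) (fun a ha t _ => ?_) (fun a c ha hc => ?_)
    · rw [smul_smul]; exact Submodule.smul_mem_smul (IV_sup_p_mul_mem_WI hbb hpb ha (hn i j)) trivial
    · rw [smul_add]; exact add_mem ha hc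
  intro x
  rw [← hφ x, map_sum]
  exact Submodule.sum_mem _ fun j _ => by rw [map_smul]; exact Submodule.smul_mem _ _ (hgen j)

theorem eq_zero_of_values (hp' : IsNilpotent (p : S)) {b : Ideal S} (hb : IsNilpotent b)
    (D : Display3n p S P) (D' : Display3n p S P') (hD : IsDisplay D)
    (ψ : P →ₗ[WittVector p S] P') (hψ : IsHom D D' ψ)
    (hval : ∀ x, ψ x ∈ (WI b : Ideal (WittVector p S)) • (⊤ : Submodule (WittVector p S) P')) : ψ = 0 := by
  obtain ⟨Vs, hVs, hnil⟩ := hD
  let c : Ideal S := Ideal.span {(p : S)} ⊔ b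
  let bs : ℕ → Ideal S := fun m => Nat.rec b (fun _ a => Ideal.span {(p : S)} * a ⊔ a * a) m
  have hs : ∀ m, bs m ≤ c ^ (m + 1) := by
    intro m
    induction m with
    | zero => rw [zero_add, pow_one]; exact le_sup_right
    | succ m ih =>
      show Ideal.span {(p : S)} * bs m ⊔ bs m * bs m ≤ _
      rw [pow_succ' _ (m + 1)]
      refine sup_le (Ideal.mul_mono le_sup_left ih) (Ideal.mul_mono (ih.trans ?_) ih)
      exact Ideal.pow_le_self (by omega)
  have hval' : ∀ m, ∀ x, ψ x ∈ (WI (bs m) : Ideal (WittVector p S)) • (⊤ : Submodule (WittVector p S) P') := by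
    intro m
    induction m with
    | zero => exact hval
    | succ m ih =>
      exact values_step (b := bs m) (b₁ := bs (m + 1)) le_sup_right
        (fun y hy => Ideal.mem_sup_left (Ideal.mul_mem_mul (Ideal.mem_span_singleton_self _) hy))
        (sup_le Ideal.mul_le_right Ideal.mul_le_left) D D' Vs hVs hnil ψ hψ ih
  obtain ⟨M, hM⟩ := hp'
  obtain ⟨N, hN⟩ := hb
  have hc : c ^ (M + N) = ⊥ := by
    rw [eq_bot_iff]
    refine Ideal.sup_pow_add_le_pow_sup_pow.trans ?_
    rw [hN, Ideal.span_singleton_pow, hM, Ideal.span_singleton_zero]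
    simp
  have hbot : bs (M + N) = ⊥ := le_bot_iff.1 ((hs _).trans ((Ideal.pow_le_pow_right (Nat.le_succ _)).trans hc.le))
  ext x
  have h := hval' (M + N) x
  rw [hbot, WI_bot, Submodule.bot_smul, Submodule.mem_bot] at h
  exact h

theorem eq_of_map_eq {R : Type u} [CommRing R] (f : S →+* R) (hp' : IsNilpotent (p : S))
    (hker : IsNilpotent (RingHom.ker f)) (D : Display3n p S P) (D' : Display3n p S P') (hD : IsDisplay D)
    (ψ χ : P →ₗ[WittVector p S] P') (hψ : IsHom D D' ψ) (hχ : IsHom D D' χ)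
    (h : BC.map (WittVector.map f : WittVector p S →+* WittVector p R) ψ = BC.map (WittVector.map f) χ) :
    ψ = χ := by
  haveI := D'.finite
  haveI := D'.projective
  obtain ⟨d', e', φ', hφ'⟩ := exists_dual_basis (WittVector p S) P'
  have hsub : IsHom D D' (ψ - χ) :=
    ⟨fun q hq => D'.Q.sub_mem (hψ.mapsTo q hq) (hχ.mapsTo q hq),
      fun x => by rw [LinearMap.sub_apply, LinearMap.sub_apply, map_sub, hψ.comm_F, hχ.comm_F],
      fun q => by
        rw [LinearMap.sub_apply, hψ.comm_Vinv, hχ.comm_Vinv, ← map_sub]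
        rfl⟩
  rw [← sub_eq_zero]
  refine eq_zero_of_values hp' hker D D' hD _ hsub fun x => (mem_smul_top_iff hφ' _ _).2 fun i => mem_WI.2 fun n => ?_
  have h1 := congrArg (bcFun (WittVector.map f : WittVector p S →+* WittVector p R) (φ' i))
    (LinearMap.congr_fun h (BC.tmul _ 1 x))
  rw [BC.map_tmul, BC.map_tmul, bcFun_tmul, bcFun_tmul, one_mul, one_mul, ← sub_eq_zero, ← map_sub, ← map_sub] at h1
  rw [RingHom.mem_ker, ← map_coeff]
  show ((WittVector.map f : WittVector p S →+* WittVector p R) (φ' i (ψ x - χ x))).coeff n = 0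
  rw [h1, zero_coeff]

theorem eq_zero_of_p_smul_hom (hp' : IsNilpotent (p : S)) (hn : IsNilpotent (nilradical S))
    (D : Display3n p S P) (D' : Display3n p S P') (hD : IsDisplay D)
    (ψ : P →ₗ[WittVector p S] P') (hψ : IsHom D D' ψ) (h : (p : WittVector p S) • ψ = 0) : ψ = 0 := by
  haveI := D'.finite
  haveI := D'.projective
  obtain ⟨d', e', φ', hφ'⟩ := exists_dual_basis (WittVector p S) P'
  refine eq_zero_of_values hp' hn D D' hD ψ hψ fun x => (mem_smul_top_iff hφ' _ _).2 fun i => mem_WI.2 fun n => ?_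
  have h0 : φ' i (ψ x) * (p : WittVector p S) = 0 := by
    rw [mul_comm, ← smul_eq_mul, ← map_smul, ← LinearMap.smul_apply, h, LinearMap.zero_apply, map_zero]
  by_cases htop : (1 : S) ∈ nilradical S
  · rw [(Ideal.eq_top_iff_one _).2 htop]; trivial
  haveI : Nontrivial (S ⧸ nilradical S) :=
    Ideal.Quotient.nontrivial_iff.2 fun ht => htop ((Ideal.eq_top_iff_one _).1 ht)
  haveI : CharP (S ⧸ nilradical S) p := (CharP.charP_iff_prime_eq_zero hp.out).2 (by
    rw [← map_natCast (Ideal.Quotient.mk (nilradical S)), Ideal.Quotient.eq_zero_iff_mem]; exact hp')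
  have h1 := congrArg (fun y : WittVector p (S ⧸ nilradical S) => y.coeff (n + 1))
    (congrArg (WittVector.map (Ideal.Quotient.mk (nilradical S))) h0)
  simp only [map_mul, map_natCast, map_zero, zero_coeff, mul_charP_coeff_succ, map_coeff] at h1
  rw [← map_pow, Ideal.Quotient.eq_zero_iff_mem, mem_nilradical] at h1
  exact mem_nilradical.2 (IsNilpotent.of_pow h1)

section lift

variable {R : Type u} [CommRing R] (f : S →+* R)

local notation "g" => (WittVector.map f : WittVector p S →+* WittVector p R)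

theorem exists_lift_p_pow (hp' : IsNilpotent (p : S)) (hf : Function.Surjective f)
    (hker : IsNilpotent (RingHom.ker f)) (D : Display3n p S P) (D' : Display3n p S P')
    (DR : Display3n p R (BC g P)) (hDR : IsDispBaseChange f D DR)
    (DR' : Display3n p R (BC g P')) (hDR' : IsDispBaseChange f D' DR')
    (χ : BC g P →ₗ[WittVector p R] BC g P') (hχ : IsHom DR DR' χ) :
    ∃ (n : ℕ) (ψ : P →ₗ[WittVector p S] P'), IsHom D D' ψ ∧ BC.map g ψ = ((p : WittVector p R) ^ n) • χ := by
  haveI := D.finite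
  haveI := D.projective
  haveI := D'.finite
  haveI := D'.projective
  obtain ⟨Vs, hVs, -⟩ := exists_vsharp D hp'
  obtain ⟨N, hN⟩ := hker
  obtain ⟨K, hK⟩ := exists_iterate_frobenius_eq_zero (p := p) f hp' N fun a ha => by
    have := Ideal.pow_mem_pow (RingHom.mem_ker.2 ha : a ∈ RingHom.ker f) N
    rw [hN] at this
    exact this
  let T : (P →ₗ[WittVector p S] P') → (P →ₗ[WittVector p S] P') := fun α =>
    (BC.lift σ D'.F).comp ((BC.map σ α).comp Vs)
  have hT : ∀ α (y : D.Q), T α (D.Vinv y) = D'.F (α (y : P)) := by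
    intro α y
    have h := hVs.app_smul_Vinv 1 y
    rw [one_smul] at h
    show BC.lift σ D'.F (BC.map σ α (Vs (D.Vinv y))) = _
    rw [h, BC.map_tmul, BC.lift_tmul, one_smul]
  have hTF : ∀ α x, T α (D.F x) = (p : WittVector p S) • D'.F (α x) := by
    intro α x
    have h := hVs.app_smul_F 1 x
    rw [one_smul] at h
    show BC.lift σ D'.F (BC.map σ α (Vs (D.F x))) = _
    rw [h, map_smul, map_smul, BC.map_tmul, BC.lift_tmul, one_smul]
  have hTsub : ∀ α β, T (α - β) = T α - T β := fun α β =>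
    LinearMap.ext_on_range D.span_range_Vinv fun y => by
      rw [hT, LinearMap.sub_apply, LinearMap.sub_apply, hT, hT, map_sub]
  have hTsmul : ∀ (m : ℕ) α, T ((m : WittVector p S) • α) = (m : WittVector p S) • T α := fun m α =>
    LinearMap.ext_on_range D.span_range_Vinv fun y => by
      rw [hT, LinearMap.smul_apply, LinearMap.smul_apply, hT, D'.F.map_smulₛₗ, map_natCast]
  obtain ⟨d, e, φ, hφ⟩ := exists_dual_basis (WittVector p S) P
  obtain ⟨d', e', φ', hφ'⟩ := exists_dual_basis (WittVector p S) P'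
  have hιsurj : ∀ z : BC g P', ∃ y, BC.tmul g 1 y = z := by
    intro z
    induction z using BC.induction_on g with
    | zero => exact ⟨0, BC.tmul_zero g 1⟩
    | add a c ha hc =>
      obtain ⟨y, rfl⟩ := ha; obtain ⟨y', rfl⟩ := hc
      exact ⟨y + y', BC.tmul_add g 1 y y'⟩
    | tmul c x =>
      obtain ⟨a, rfl⟩ := WittVector.map_surjective f hf c
      exact ⟨a • x, by rw [← BC.ι_apply, (BC.ι g P').map_smulₛₗ, BC.ι_apply, ← BC.tmul_eq_smul_tmul_one]⟩
  choose y hy using fun i => hιsurj (χ (BC.tmul g 1 (e i)))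
  let α₀ : P →ₗ[WittVector p S] P' := ∑ i, (φ i).smulRight (y i)
  have hbase : ∀ x, BC.ι g P' (α₀ x) = χ (BC.ι g P x) := by
    intro x
    conv_rhs => rw [← hφ x, map_sum, map_sum]
    simp only [α₀, LinearMap.sum_apply, map_sum, LinearMap.smulRight_apply]
    refine Finset.sum_congr rfl fun i _ => ?_
    rw [(BC.ι g P').map_smulₛₗ, (BC.ι g P).map_smulₛₗ, map_smul, BC.ι_apply, BC.ι_apply, hy]
  have hstep : ∀ (α : P →ₗ[WittVector p S] P') (m : ℕ),
      (∀ x, BC.ι g P' (α x) = (m : WittVector p R) • χ (BC.ι g P x)) →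
      ∀ x, BC.ι g P' (T α x) = ((p * m : ℕ) : WittVector p R) • χ (BC.ι g P x) := by
    intro α m hα x
    have hx : x ∈ (⊤ : Submodule (WittVector p S) P) := trivial
    rw [← D.span_range_Vinv] at hx
    induction hx using Submodule.span_induction with
    | mem z hz =>
      obtain ⟨q, rfl⟩ := hz
      rw [hT]
      have e1 : BC.ι g P' (D'.F (α (q : P))) = DR'.F (BC.ι g P' (α (q : P))) := by
        rw [BC.ι_apply, BC.ι_apply, hDR'.F_tmul, map_one]
      have e2 : DR.F (BC.ι g P (q : P)) = BC.ι g P (D.F (q : P)) := by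
        rw [BC.ι_apply, BC.ι_apply, hDR.F_tmul, map_one]
      rw [e1, hα, DR'.F.map_smulₛₗ, map_natCast, ← hχ.comm_F, e2, F_eq_p_smul D q, (BC.ι g P).map_smulₛₗ,
        map_natCast, map_smul, smul_smul, Nat.cast_mul, mul_comm (m : WittVector p R)]
    | zero => simp
    | add a c _ _ ha hc => simp only [map_add, smul_add, ha, hc]
    | smul a c _ hc => rw [map_smul, (BC.ι g P').map_smulₛₗ, (BC.ι g P).map_smulₛₗ, map_smul, hc, smul_comm]
  have hiter : ∀ i x, BC.ι g P' (T^[i] α₀ x) = ((p ^ i : ℕ) : WittVector p R) • χ (BC.ι g P x) := by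
    intro i
    induction i with
    | zero => intro x; simp only [pow_zero, Nat.cast_one, one_smul, Function.iterate_zero, id_eq]; exact hbase x
    | succ i ih => rw [Function.iterate_succ_apply', pow_succ']; exact hstep _ _ ih
  let c : ℕ → Ideal (WittVector p S) := fun i =>
    Ideal.span ((⇑σ)^[i] '' (RingHom.ker g : Set (WittVector p S)))
  have hcstep : ∀ i, ∀ a ∈ c i, σ a ∈ c (i + 1) := fun i => by
    show c i ≤ (c (i + 1)).comap σ
    refine Ideal.span_le.2 ?_
    rintro _ ⟨a, ha, rfl⟩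
    refine Ideal.subset_span ⟨a, ha, ?_⟩
    rw [Function.iterate_succ_apply']
  let δ := T α₀ - (p : WittVector p S) • α₀
  have hδ : ∀ i x, T^[i] δ x ∈ c i • (⊤ : Submodule (WittVector p S) P') := by
    intro i
    induction i with
    | zero =>
      intro x
      refine (mem_smul_top_iff hφ' _ _).2 fun j => Ideal.subset_span ⟨_, ?_, rfl⟩
      rw [SetLike.mem_coe, RingHom.mem_ker]
      have h0 : BC.ι g P' (δ x) = 0 := by
        rw [show δ x = T α₀ x - (p : WittVector p S) • α₀ x from rfl, map_sub, (BC.ι g P').map_smulₛₗ, hbase,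
          hstep α₀ 1 (fun x => by rw [Nat.cast_one, one_smul, hbase]) x, mul_one, map_natCast, sub_self]
      have h2 := congrArg (bcFun g (φ' j)) h0
      rw [BC.ι_apply, bcFun_tmul, one_mul, map_zero] at h2
      exact h2
    | succ i ih =>
      intro x
      rw [Function.iterate_succ_apply']
      have hx : x ∈ (⊤ : Submodule (WittVector p S) P) := trivial
      rw [← D.span_range_Vinv] at hx
      induction hx using Submodule.span_induction with
      | mem z hz =>
        obtain ⟨q, rfl⟩ := hz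
        rw [hT]
        refine Submodule.smul_induction_on (ih (q : P)) (fun a ha t _ => ?_) (fun a b ha hb => ?_)
        · rw [D'.F.map_smulₛₗ]; exact Submodule.smul_mem_smul (hcstep i a ha) trivial
        · rw [map_add]; exact add_mem ha hb
      | zero => simp
      | add a b _ _ ha hb => rw [map_add]; exact add_mem ha hb
      | smul a b _ hb => rw [map_smul]; exact Submodule.smul_mem _ _ hb
  have hcK : c K = ⊥ := le_bot_iff.1 (Ideal.span_le.2 (by rintro _ ⟨a, ha, rfl⟩; exact hK a ha))
  have hfix : T (T^[K] α₀) = (p : WittVector p S) • T^[K] α₀ := by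
    have hcomm : ∀ i, T^[i] δ = T (T^[i] α₀) - (p : WittVector p S) • T^[i] α₀ := by
      intro i
      induction i with
      | zero => rfl
      | succ i ih =>
        rw [Function.iterate_succ_apply', ih, hTsub, hTsmul, ← Function.iterate_succ_apply' T i α₀]
    rw [← sub_eq_zero, ← hcomm]
    ext x
    have h := hδ K x
    rw [hcK, Submodule.bot_smul, Submodule.mem_bot] at h
    exact h
  obtain ⟨M, hM⟩ := hp'
  have hpM : (p : WittVector p S) ^ M ∈ IV p S := by
    rw [mem_IV_iff]
    show (constantCoeff : WittVector p S →+* S) ((p : WittVector p S) ^ M) = 0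
    rw [map_pow, map_natCast, hM]
  let γ := ((p ^ M : ℕ) : WittVector p S) • T^[K] α₀
  have hγ : T γ = (p : WittVector p S) • γ := by rw [hTsmul, hfix, smul_comm]
  have hγQ : ∀ x, γ x ∈ D'.Q := fun x => D'.IV_smul_le (by
    rw [LinearMap.smul_apply, Nat.cast_pow]
    exact Submodule.smul_mem_smul hpM trivial)
  have hQ1 : ∀ x, ((p : WittVector p S) • γ) x ∈ D'.Q := fun x => D'.Q.smul_mem _ (hγQ x)
  refine ⟨1 + M + K, (p : WittVector p S) • γ, ⟨fun q _ => hQ1 q, fun x => ?_, fun q => ?_⟩, ?_⟩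
  · show (p : WittVector p S) • γ (D.F x) = D'.F ((p : WittVector p S) • γ x)
    rw [D'.F.map_smulₛₗ, map_natCast, ← hTF γ x, hγ]
    rfl
  · rw [show (⟨((p : WittVector p S) • γ) (q : P), hQ1 _⟩ : D'.Q) = (p : WittVector p S) • ⟨γ (q : P), hγQ _⟩ from
      rfl, D'.Vinv.map_smulₛₗ, map_natCast, ← hγ, hT, F_eq_p_smul D' ⟨γ (q : P), hγQ _⟩]
  · refine BC.ext g fun x => ?_
    rw [BC.map_tmul, LinearMap.smul_apply, LinearMap.smul_apply, LinearMap.smul_apply, ← BC.ι_apply,
      (BC.ι g P').map_smulₛₗ, (BC.ι g P').map_smulₛₗ, hiter, BC.ι_apply, map_natCast, map_natCast,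
      Nat.cast_pow, Nat.cast_pow, smul_smul, smul_smul, pow_add, pow_add, pow_one]

end lift

end Groth.L15.DW
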