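import Groth.Agent.L15.DW.Basic
import Mathlib.RingTheory.WittVector.Complete
import Mathlib.RingTheory.Ideal.Quotient.Operations
import Mathlib.RingTheory.Ideal.Operations

/-! Ideals of `W(k)` for a perfect ring `k`, and the level-one cancellation. -/

set_option autoImplicit false

namespace Groth.L15.DW

universe u v
open WittVector

variable {p : ℕ} [hp : Fact p.Prime] {k : Type u} [CommRing k] [CharP k p] [PerfectRing k p]

local notation "W" => WittVector p k
local notation "σ" => (WittVector.frobenius : WittVector p k →+* WittVector p k)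
set_option quotPrecheck false in
local notation "σ'" => ((WittVector.frobeniusEquiv p k).symm : WittVector p k →+* WittVector p k)

theorem σ_σ' (x : W) : σ (σ' x) = x := (WittVector.frobeniusEquiv p k).apply_symm_apply x

theorem σ'_σ (x : W) : σ' (σ x) = x := (WittVector.frobeniusEquiv p k).symm_apply_apply x

/-- The ideal of Witt vectors whose coefficients `0` and `1` lie in `P`. -/
noncomputable def J2 (P : Ideal k) : Ideal W :=
  RingHom.ker ((WittVector.truncate 2).comp (WittVector.map (Ideal.Quotient.mk P)))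

theorem mem_J2 {P : Ideal k} {a : W} : a ∈ J2 P ↔ a.coeff 0 ∈ P ∧ a.coeff 1 ∈ P := by
  rw [J2, RingHom.mem_ker, RingHom.comp_apply, ← RingHom.mem_ker, mem_ker_truncate]
  simp only [map_coeff, Ideal.Quotient.eq_zero_iff_mem]
  refine ⟨fun h => ⟨h 0 (by omega), h 1 (by omega)⟩, fun h i hi => ?_⟩
  obtain rfl | rfl : i = 0 ∨ i = 1 := by omega
  exacts [h.1, h.2]

theorem p_sq_mem_J2 (P : Ideal k) : (p : W) ^ 2 ∈ J2 P := by
  have h := fun m (hm : m < 2) => ((mem_span_p_pow_iff_le_coeff_eq_zero ((p : W) ^ 2) 2).1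
    (Ideal.mem_span_singleton_self _)) m hm
  rw [mem_J2, h 0 (by omega), h 1 (by omega)]
  exact ⟨P.zero_mem, P.zero_mem⟩

theorem σ_mem_J2 {P : Ideal k} {a : W} (ha : a ∈ J2 P) : σ a ∈ J2 P := by
  rw [mem_J2] at *
  rw [coeff_frobenius_charP, coeff_frobenius_charP]
  exact ⟨P.pow_mem_of_mem ha.1 p hp.out.pos, P.pow_mem_of_mem ha.2 p hp.out.pos⟩

theorem σ'_mem_J2 {P : Ideal k} [P.IsPrime] {a : W} (ha : a ∈ J2 P) : σ' a ∈ J2 P := by
  rw [mem_J2] at *
  rw [← σ_σ' (p := p) a, coeff_frobenius_charP, coeff_frobenius_charP] at ha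
  exact ⟨‹P.IsPrime›.mem_of_pow_mem p ha.1, ‹P.IsPrime›.mem_of_pow_mem p ha.2⟩

theorem ker_cc_le {M : Ideal W} (hM : (p : W) ∈ M) : RingHom.ker (constantCoeff : W →+* k) ≤ M := by
  rw [ker_constantCoeff, Ideal.span_le, Set.singleton_subset_iff]
  exact hM

/-- The prime of `k` under a prime of `W` containing `p`. -/
theorem mem_iff_coeff_zero {M : Ideal W} (hM : (p : W) ∈ M) {a : W} :
    a ∈ M ↔ a.coeff 0 ∈ M.map (constantCoeff : W →+* k) := by
  refine ⟨fun h => Ideal.mem_map_of_mem _ h, fun h => ?_⟩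
  have h' : a ∈ (M.map (constantCoeff : W →+* k)).comap (constantCoeff : W →+* k) := h
  rw [Ideal.comap_map_of_surjective' _ (constantCoeff_surjective p)] at h'
  exact sup_le le_rfl (ker_cc_le hM) h'

theorem map_cc_isPrime {M : Ideal W} [M.IsPrime] (hM : (p : W) ∈ M) :
    (M.map (constantCoeff : W →+* k)).IsPrime :=
  Ideal.map_isPrime_of_surjective (constantCoeff_surjective p) (ker_cc_le hM)

theorem σ_mem_prime {M : Ideal W} [M.IsPrime] (hM : (p : W) ∈ M) {a : W} (ha : a ∈ M) : σ a ∈ M := by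
  rw [mem_iff_coeff_zero hM] at *
  rw [coeff_frobenius_charP]
  exact Ideal.pow_mem_of_mem _ ha p hp.out.pos

theorem le_J2_sup {M : Ideal W} (hM : (p : W) ∈ M) :
    M ≤ J2 (M.map (constantCoeff : W →+* k)) ⊔ Ideal.span {(p : W)} := by
  intro a ha
  rw [← add_sub_cancel (teichmuller p (a.coeff 0)) a]
  refine Submodule.add_mem_sup ?_ ?_
  · rw [mem_J2, teichmuller_coeff_zero, teichmuller_coeff_pos p _ 1 one_pos]
    exact ⟨(mem_iff_coeff_zero hM).1 ha, Ideal.zero_mem _⟩
  · rw [mem_span_p_iff_coeff_zero_eq_zero]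
    show constantCoeff (a - teichmuller p (a.coeff 0)) = 0
    rw [map_sub]
    show a.coeff 0 - (teichmuller p (a.coeff 0)).coeff 0 = 0
    rw [teichmuller_coeff_zero, sub_self]

theorem mem_of_p_mul_mem_J2 {M : Ideal W} [M.IsPrime] (hM : (p : W) ∈ M) {a : W}
    (h : (p : W) * a ∈ J2 (M.map (constantCoeff : W →+* k))) : a ∈ M := by
  haveI := map_cc_isPrime hM
  rw [mem_iff_coeff_zero hM]
  have h1 := (mem_J2.1 h).2
  rw [mul_comm, mul_charP_coeff_succ] at h1
  exact Ideal.IsPrime.mem_of_pow_mem ‹_› p h1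

theorem mem_span_p_of_p_mul {a : W} (h : (p : W) * a ∈ Ideal.span {(p : W) ^ 2}) :
    a ∈ Ideal.span {(p : W)} := by
  rw [Ideal.mem_span_singleton] at *
  obtain ⟨c, hc⟩ := h
  refine ⟨c, sub_eq_zero.1 (eq_zero_of_p_mul_eq_zero (a - (p : W) * c) ?_)⟩
  rw [sub_mul, mul_comm a, hc]
  ring

/-- `p x ∈ J M` forces `x ∈ I M`, for suitable pairs of ideals. -/
def Cancel (p : ℕ) [Fact p.Prime] {k : Type u} [CommRing k] (M : Type v) [AddCommGroup M]
    [Module (WittVector p k) M] : Prop :=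
  ∀ (J I : Ideal (WittVector p k)), (p : WittVector p k) ^ 2 ∈ J →
    (∀ a, (p : WittVector p k) * a ∈ J → a ∈ I) →
      ∀ x : M, (p : WittVector p k) • x ∈ J • (⊤ : Submodule (WittVector p k) M) →
        x ∈ I • (⊤ : Submodule (WittVector p k) M)

/-- A dual basis modulo `p`. -/
def HasDualModP (p : ℕ) [Fact p.Prime] {k : Type u} [CommRing k] (M : Type v) [AddCommGroup M]
    [Module (WittVector p k) M] : Prop :=
  ∃ (d : ℕ) (e : Fin d → M) (ψ : Fin d → (M →ₗ[WittVector p k] WittVector p k ⧸ Ideal.span {(p : WittVector p k)})),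
    ∀ (a : Fin d → WittVector p k) (x : M), (∀ i, Ideal.Quotient.mk _ (a i) = ψ i x) →
      x - ∑ i, a i • e i ∈ Ideal.span {(p : WittVector p k)} • (⊤ : Submodule (WittVector p k) M)

end Groth.L15.DW
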