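import Groth.Agent.L15.DW.VPow
import Groth.Agent.L15.DW.BaseChange
import Groth.Agent.L15.DW.PerfectW

/-! The nilpotence condition: propagation, base change, Dieudonné modules, the matrix criterion. -/

set_option autoImplicit false

namespace Groth.L15.DW

universe u v w
open WittVector W4c1extbt610 Dieu

variable {p : ℕ} [hp : Fact p.Prime] {R : Type u} [CommRing R]
  {P : Type v} [AddCommGroup P] [Module (WittVector p R) P]

local notation "σ" => (WittVector.frobenius : WittVector p R →+* WittVector p R)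

/-- `I + pW`. -/
noncomputable def J0 : Ideal (WittVector p R) := IV p R ⊔ Ideal.span {(p : WittVector p R)}

theorem σ_mem_J0 {a : WittVector p R} (ha : a ∈ J0) : σ a ∈ J0 := by
  obtain ⟨x, hx, y, hy, rfl⟩ := Submodule.mem_sup.1 ha
  rw [map_add]
  refine add_mem (Ideal.mem_sup_right ?_) (Ideal.mem_sup_right ?_)
  · obtain ⟨c, rfl⟩ := exists_V_of_coeff_zero (mem_IV_iff.1 hx)
    rw [frobenius_verschiebung]
    exact Ideal.mul_mem_left _ _ (Ideal.mem_span_singleton_self _)
  · obtain ⟨c, rfl⟩ := Ideal.mem_span_singleton'.1 hy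
    rw [map_mul, map_natCast]
    exact Ideal.mul_mem_left _ _ (Ideal.mem_span_singleton_self _)

theorem σ_iterate_mem_J0 {a : WittVector p R} (ha : a ∈ J0) : ∀ k, (σ)^[k] a ∈ J0 := by
  intro k
  induction k with
  | zero => exact ha
  | succ k ih => rw [Function.iterate_succ_apply']; exact σ_mem_J0 ih

theorem J0_mul_J0_le : (J0 : Ideal (WittVector p R)) * J0 ≤ Ideal.span {(p : WittVector p R)} * J0 := by
  have key : IV p R * IV p R ≤ Ideal.span {(p : WittVector p R)} * IV p R := by
    rw [Ideal.mul_le]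
    intro a ha b hb
    obtain ⟨a, rfl⟩ := exists_V_of_coeff_zero (mem_IV_iff.1 ha)
    obtain ⟨b, rfl⟩ := exists_V_of_coeff_zero (mem_IV_iff.1 hb)
    rw [V_mul, frobenius_verschiebung,
      show a * (b * (p : WittVector p R)) = p • (a * b) by rw [nsmul_eq_mul]; ring, map_nsmul, nsmul_eq_mul]
    exact Ideal.mul_mem_mul (Ideal.mem_span_singleton_self _) (verschiebung_mem_IV p R _)
  rw [J0, Ideal.sup_mul, Ideal.mul_sup, sup_le_iff]
  refine ⟨sup_le (key.trans (Ideal.mul_mono_right le_sup_left)) ?_, le_rfl⟩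
  rw [mul_comm]
  exact Ideal.mul_mono_right le_sup_left

theorem J0_pow_le : ∀ k : ℕ, (J0 : Ideal (WittVector p R)) ^ (k + 1) ≤ Ideal.span {(p : WittVector p R) ^ k} := by
  have h : ∀ k : ℕ, (J0 : Ideal (WittVector p R)) ^ (k + 1) ≤ Ideal.span {(p : WittVector p R)} ^ k * J0 := by
    intro k
    induction k with
    | zero => simp
    | succ k ih =>
      calc (J0 : Ideal (WittVector p R)) ^ (k + 1 + 1) = J0 ^ (k + 1) * J0 := pow_succ _ _
        _ ≤ Ideal.span {(p : WittVector p R)} ^ k * J0 * J0 := Ideal.mul_mono ih le_rfl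
        _ = Ideal.span {(p : WittVector p R)} ^ k * (J0 * J0) := mul_assoc _ _ _
        _ ≤ Ideal.span {(p : WittVector p R)} ^ k * (Ideal.span {(p : WittVector p R)} * J0) :=
          Ideal.mul_mono le_rfl J0_mul_J0_le
        _ = Ideal.span {(p : WittVector p R)} ^ (k + 1) * J0 := by rw [pow_succ]; exact (mul_assoc _ _ _).symm
  intro k
  refine (h k).trans (Ideal.mul_le_left.trans ?_)
  rw [Ideal.span_singleton_pow]

variable {d : Type*} [Fintype d] {e : d → P} {φ : d → (P →ₗ[WittVector p R] WittVector p R)}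

theorem isVNilpotent_iff (hφ : ∀ x, ∑ i, φ i x • e i = x)
    (Vs : P →ₗ[WittVector p R] BC (WittVector.frobenius : WittVector p R →+* WittVector p R) P) :
    IsVNilpotent Vs ↔ ∃ n, ∀ i j, matPow e φ Vs n i j ∈ J0 :=
  exists_congr fun n => vSharpPow_mem_iff Vs hφ n J0

theorem exists_vSharpPow_mem (hnil : IsNilpotent (p : R))
    (hφ : ∀ x, ∑ i, φ i x • e i = x)
    (Vs : P →ₗ[WittVector p R] BC (WittVector.frobenius : WittVector p R →+* WittVector p R) P)
    (hV : IsVNilpotent Vs) (n : ℕ) :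
    ∃ N, ∀ i j, matPow e φ Vs N i j ∈ RingHom.ker (WittVector.truncate (p := p) (R := R) n) := by
  obtain ⟨a, ha⟩ := (isVNilpotent_iff hφ Vs).1 hV
  obtain ⟨K, b, hb⟩ := exists_pow_eq_iterate_V (p := p) hnil n
  have hker : Ideal.span {(p : WittVector p R) ^ K} ≤ RingHom.ker (WittVector.truncate (p := p) (R := R) n) := by
    rw [Ideal.span_le, Set.singleton_subset_iff, SetLike.mem_coe, RingHom.mem_ker, hb, truncate_iterate_V]
  have h : ∀ k : ℕ, ∃ N, ∀ i j, matPow e φ Vs N i j ∈ (J0 : Ideal (WittVector p R)) ^ (k + 1) := by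
    intro k
    induction k with
    | zero => exact ⟨a, fun i j => by simpa using ha i j⟩
    | succ k ih =>
      obtain ⟨N, hN⟩ := ih
      refine ⟨N + a + 1, fun i j => ?_⟩
      rw [matPow_add Vs hφ, Matrix.mul_apply, pow_succ']
      exact sum_mem fun l _ => Ideal.mul_mem_mul (σ_iterate_mem_J0 (ha i l) _) (hN l j)
  obtain ⟨N, hN⟩ := h K
  exact ⟨N, fun i j => hker (J0_pow_le K (hN i j))⟩

section baseChange

variable {S : Type u} [CommRing S] {P₀ : Type v} [AddCommGroup P₀] [Module (WittVector p S) P₀] (f : S →+* R)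

theorem g_mem_J0 {a : WittVector p S} (ha : a ∈ J0) :
    (WittVector.map f : WittVector p S →+* WittVector p R) a ∈ J0 := by
  obtain ⟨x, hx, y, hy, rfl⟩ := Submodule.mem_sup.1 ha
  rw [map_add]
  refine add_mem (Ideal.mem_sup_left (map_mem_IV f hx)) (Ideal.mem_sup_right ?_)
  obtain ⟨c, rfl⟩ := Ideal.mem_span_singleton'.1 hy
  rw [map_mul, map_natCast]
  exact Ideal.mul_mem_left _ _ (Ideal.mem_span_singleton_self _)

theorem isDisplay_baseChange (hnil : IsNilpotent (p : S)) (D : Display3n p S P₀) (hD : IsDisplay D)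
    (DR : Display3n p R (BC (WittVector.map f : WittVector p S →+* WittVector p R) P₀))
    (hDR : IsDispBaseChange f D DR) : IsDisplay DR := by
  haveI := D.finite
  haveI := D.projective
  obtain ⟨Vs, hVs, hVn⟩ := hD
  have hnilR : IsNilpotent (p : R) := by
    have := hnil.map f
    rwa [map_natCast] at this
  obtain ⟨Vs', hVs', -⟩ := exists_vsharp DR hnilR
  refine ⟨Vs', hVs', ?_⟩
  let g : WittVector p S →+* WittVector p R := WittVector.map f
  let σS : WittVector p S →+* WittVector p S := WittVector.frobenius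
  let φ0 : P₀ →ₛₗ[g.comp σS] BC σ (BC g P₀) :=
    { toFun := fun y => BC.tmul σ 1 (BC.tmul g 1 y)
      map_add' := fun x y => by rw [BC.tmul_add, BC.tmul_add]
      map_smul' := fun a x => by
        show BC.ι σ _ (BC.ι g P₀ (a • x)) = _
        rw [(BC.ι g P₀).map_smulₛₗ, (BC.ι σ _).map_smulₛₗ]
        show σ (g a) • _ = g (σS a) • _
        rw [map_frobenius]
        rfl }
  let τ := liftSemi σS g φ0
  have hτ : ∀ w y, τ (BC.tmul σS w y) = g w • BC.tmul σ 1 (BC.tmul g 1 y) := fun w y => liftSemi_tmul _ _ _ _ _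
  have key : ∀ x, Vs' (BC.tmul g 1 x) = τ (Vs x) := by
    intro x
    have hx : x ∈ (⊤ : Submodule (WittVector p S) P₀) := trivial
    rw [← D.span_range_Vinv] at hx
    induction hx using Submodule.span_induction with
    | mem z hz =>
      obtain ⟨y, rfl⟩ := hz
      have hy : BC.tmul g 1 (y : P₀) ∈ DR.Q := hDR.Q_eq ▸ ι_mem_ker f D y
      have h1 := hVs'.app_smul_Vinv 1 ⟨_, hy⟩
      rw [one_smul, hDR.Vinv_tmul 1 y hy, map_one] at h1
      have h2 := hVs.app_smul_Vinv 1 y
      rw [one_smul] at h2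
      rw [h1, h2, hτ, map_one, one_smul]
    | zero => simp
    | add a b _ _ ha hb => rw [BC.tmul_add, map_add, map_add, map_add, ha, hb]
    | smul c a _ ha =>
      rw [← BC.ι_apply, (BC.ι g P₀).map_smulₛₗ, map_smul, map_smul, τ.map_smulₛₗ, BC.ι_apply, ha]
  obtain ⟨d, e, φ, hφ⟩ := exists_dual_basis (WittVector p S) P₀
  obtain ⟨n, hn⟩ := (isVNilpotent_iff hφ Vs).1 hVn
  let eR : Fin d → BC g P₀ := fun i => BC.tmul g 1 (e i)
  let φR : Fin d → (BC g P₀ →ₗ[WittVector p R] WittVector p R) := fun i => bcFun g (φ i)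
  have hφR : ∀ z, ∑ i, φR i z • eR i = z := bcFun_expand g hφ
  refine (isVNilpotent_iff hφR Vs').2 ⟨n, ?_⟩
  have hB : matV eR φR Vs' = (matV e φ Vs).map g := by
    refine Matrix.ext fun i j => ?_
    rw [Matrix.map_apply, matV, matV, Matrix.of_apply, Matrix.of_apply, key]
    generalize Vs (e j) = z
    induction z using BC.induction_on σS with
    | zero => simp
    | add a b ha hb => simp only [map_add, ha, hb]
    | tmul b x =>
      rw [hτ, map_smul, bcFun_tmul, bcFun_tmul, one_mul]
      show g b • σ (bcFun g (φ i) (BC.tmul g 1 x)) = g (b * σS (φ i x))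
      rw [bcFun_tmul, one_mul, map_mul, smul_eq_mul, map_frobenius]
  have hC : ∀ m, matPow eR φR Vs' m = (matPow e φ Vs m).map g := by
    intro m
    induction m with
    | zero => rw [matPow_zero, matPow_zero, hB]
    | succ m ih =>
      rw [matPow_succ Vs' hφR, matPow_succ Vs hφ, hB, ih, Matrix.map_mul, Matrix.map_map, Matrix.map_map]
      refine congrArg₂ _ (congrArg (Matrix.map _) (funext fun a => ?_)) rfl
      exact (map_frobenius f a).symm
  intro i j
  rw [hC, Matrix.map_apply]
  exact g_mem_J0 f (hn i j)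

theorem mem_Q_iff_baseChange [Algebra S R] (hinj : Function.Injective (algebraMap S R))
    (D : Display3n p S P₀)
    (DR : Display3n p R (BC (WittVector.map (algebraMap S R) : WittVector p S →+* WittVector p R) P₀))
    (hDR : IsDispBaseChange (algebraMap S R) D DR) (x : P₀) :
    x ∈ D.Q ↔ BC.ι (WittVector.map (algebraMap S R) : WittVector p S →+* WittVector p R) P₀ x ∈ DR.Q := by
  haveI := D.finite
  haveI := D.projective
  rw [hDR.Q_eq]
  refine ⟨fun h => ι_mem_ker _ D ⟨x, h⟩, fun h => ?_⟩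
  obtain ⟨L, T, hLT, hQ⟩ := D.exists_normal
  obtain ⟨d, e, φ, hφ⟩ := exists_dual_basis (WittVector p S) P₀
  let g : WittVector p S →+* WittVector p R := WittVector.map (algebraMap S R)
  let pT : P₀ →ₗ[WittVector p S] P₀ := T.subtype.comp (Submodule.projectionOnto T L hLT.symm)
  have hzero : ∀ i, φ i (pT x) ∈ IV p S := by
    intro i
    let ξ : (P₀ ⧸ D.Q) →ₛₗ[(constantCoeff : WittVector p R →+* R).comp g] R :=
      D.Q.liftQ ((semilinearOfRingHom ((constantCoeff : WittVector p R →+* R).comp g)).comp ((φ i).comp pT))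
        fun y hy => by
          rw [LinearMap.mem_ker, LinearMap.comp_apply, semilinearOfRingHom_apply]
          exact mem_IV_iff.1 (map_mem_IV _ (apply_mem_of_mem_IV_smul _ (projT_mem hLT (hQ ▸ hy))))
    have h1 := congrArg (BC.lift _ ξ) (LinearMap.mem_ker.1 h)
    rw [BC.ι_apply, bcQuotMap_tmul, map_one, BC.lift_tmul, one_smul, map_zero] at h1
    rw [mem_IV_iff]
    apply hinj
    rw [map_zero]
    exact h1
  rw [hQ]
  have hsum : x = L.subtype (Submodule.projectionOnto L T hLT x) + pT x :=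
    (Submodule.projection_add_projection_eq_self hLT x).symm
  rw [hsum]
  refine Submodule.add_mem_sup (Submodule.projectionOnto L T hLT x).2 ?_
  have hpT : pT (pT x) = pT x := congrArg Subtype.val
    (Submodule.projectionOnto_apply_left hLT.symm (Submodule.projectionOnto T L hLT.symm x))
  rw [← hpT, ← hφ (pT x), map_sum]
  exact Submodule.sum_mem _ fun i _ => by
    rw [map_smul]
    exact Submodule.smul_mem_smul (hzero i) (Submodule.projectionOnto T L hLT.symm (e i)).2

end baseChange

section dieudonne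

variable {k : Type u} [CommRing k] [CharP k p] [PerfectRing k p]
  {M : Type v} [AddCommGroup M] [Module (WittVector p k) M]

theorem isDisplay_iff_topNilp [Module.Finite (WittVector p k) M] [Module.Projective (WittVector p k) M]
    (Dm : DieuMod p k M) (D : Display3n p k M) (hF : D.F = Dm.F) (hQ : ∀ x : M, x ∈ D.Q ↔ x ∈ Set.range Dm.V)
    (hV : ∀ (m : M) (h : Dm.V m ∈ D.Q), D.Vinv ⟨Dm.V m, h⟩ = m) : IsDisplay D ↔ Dm.VTopNilp := by
  let σk : WittVector p k →+* WittVector p k := WittVector.frobenius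
  let V0 : M →ₗ[WittVector p k] BC σk M :=
    { toFun := fun x => BC.ι σk M (Dm.V x)
      map_add' := fun x y => by rw [map_add, map_add]
      map_smul' := fun a x => by
        rw [Dm.V.map_smulₛₗ, (BC.ι σk M).map_smulₛₗ, RingHom.id_apply, σ_σ'] }
  have hV0 : ∀ (w : WittVector p k) (x : M), V0 (w • x) = BC.tmul σk w (Dm.V x) := fun w x => by
    rw [map_smul]
    exact (BC.tmul_eq_smul_tmul_one σk w _).symm
  have hV0s : IsVSharp D V0 := by
    refine ⟨fun w x => ?_, fun w y => ?_⟩
    · rw [hV0, hF, Dm.V_F, BC.tmul_eq_smul_tmul_one, ← BC.ι_apply, (BC.ι σk M).map_smulₛₗ, map_natCast,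
        BC.ι_apply, smul_comm, ← BC.tmul_eq_smul_tmul_one]
    · obtain ⟨y, hy⟩ := y
      obtain ⟨m, rfl⟩ := (hQ y).1 hy
      rw [hV0, hV]
  obtain ⟨d, e, φ, hφ⟩ := exists_dual_basis (WittVector p k) M
  have hpow : ∀ n x, vSharpPow V0 n x = BC.tmul (σk ^ (n + 1)) 1 ((⇑Dm.V)^[n + 1] x) := by
    intro n
    induction n with
    | zero =>
      intro x
      rw [vSharpPow_zero_apply]
      show BC.castHom (pow_one σk).symm (BC.tmul σk 1 (Dm.V x)) = _
      rw [BC.castHom_tmul, Function.iterate_one]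
    | succ n ih =>
      intro x
      rw [vSharpPow_succ_apply]
      show BC.castHom (comp_pow_eq_pow_succ σk (n + 1)) (BC.lift σk (BC.push (σk ^ (n + 1)) σk)
        (BC.map σk (vSharpPow V0 n) (BC.tmul σk 1 (Dm.V x)))) = _
      rw [BC.map_tmul, BC.lift_tmul, one_smul, ih, BC.push_tmul, BC.castHom_tmul, map_one,
        ← Function.iterate_succ_apply]
  have hJ0 : (J0 : Ideal (WittVector p k)) = Ideal.span {(p : WittVector p k)} := by
    rw [J0, IV_eq_ker, ker_constantCoeff, sup_idem]
  have hσ : ∀ (n : ℕ) (a : WittVector p k), (σk ^ n) a ∈ Ideal.span {(p : WittVector p k)} →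
      a ∈ Ideal.span {(p : WittVector p k)} := by
    intro n
    induction n with
    | zero => intro a h; exact h
    | succ n ih =>
      intro a h
      rw [pow_succ'] at h
      refine ih a ?_
      obtain ⟨c, hc⟩ := Ideal.mem_span_singleton'.1 (h : σk ((σk ^ n) a) ∈ _)
      refine Ideal.mem_span_singleton'.2 ⟨((WittVector.frobeniusEquiv p k).symm : WittVector p k →+* _) c, ?_⟩
      have hc' : c * (p : WittVector p k) = σk ((σk ^ n) a) := hc
      rw [← σ'_σ (p := p) ((σk ^ n) a)]
      show _ = _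
      rw [← hc', map_mul, map_natCast]
  constructor
  · rintro ⟨Vs, hVs, n, hn⟩
    have hVs0 : Vs = V0 := by
      refine LinearMap.ext_on_range D.span_range_Vinv fun y => ?_
      have h1 := hVs.app_smul_Vinv 1 y
      have h2 := hV0s.app_smul_Vinv 1 y
      rw [one_smul] at h1 h2
      rw [h1, h2]
    subst hVs0
    have h1 : ∀ x, (⇑Dm.V)^[n + 1] x ∈ Ideal.span {(p : WittVector p k)} • (⊤ : Submodule (WittVector p k) M) := by
      intro x
      rw [mem_smul_top_iff hφ]
      intro i
      have h := (bc_mem_smul_top_iff _ hφ J0 _).1 (hn x) i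
      rw [hpow, bcFun_tmul, one_mul, hJ0] at h
      exact hσ _ _ h
    intro e
    refine ⟨(n + 1) * e, ?_⟩
    induction e with
    | zero => intro m; simp
    | succ e ih =>
      intro m
      rw [Nat.mul_succ, Function.iterate_add_apply]
      have hz := h1 m
      generalize (⇑Dm.V)^[n + 1] m = z at hz
      rw [Submodule.ideal_span_singleton_smul] at hz
      obtain ⟨z, -, rfl⟩ := hz
      show (⇑Dm.V)^[(n + 1) * e] ((p : WittVector p k) • z) ∈ _
      have hc : ∀ j, (⇑Dm.V)^[j] ((p : WittVector p k) • z) = (p : WittVector p k) • (⇑Dm.V)^[j] z := by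
        intro j
        induction j with
        | zero => rfl
        | succ j ihj =>
          rw [Function.iterate_succ_apply', Function.iterate_succ_apply', ihj, Dm.V.map_smulₛₗ, map_natCast]
      rw [hc, pow_succ', ← smul_eq_mul, Submodule.smul_assoc]
      exact Submodule.smul_mem_smul (Ideal.mem_span_singleton_self _) (ih z)
  · intro h
    refine ⟨V0, hV0s, ?_⟩
    obtain ⟨n, hn⟩ := h 1
    refine ⟨n, fun x => ?_⟩
    rw [hpow, Function.iterate_succ_apply, show BC.tmul (σk ^ (n + 1)) 1 ((⇑Dm.V)^[n] (Dm.V x)) =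
      BC.ι _ M ((⇑Dm.V)^[n] (Dm.V x)) from rfl]
    refine (bc_mem_smul_top_iff _ hφ J0 _).2 fun i => ?_
    have h1 := hn (Dm.V x)
    rw [pow_one, mem_smul_top_iff hφ] at h1
    rw [BC.ι_apply, bcFun_tmul, one_mul, hJ0]
    obtain ⟨c, hc⟩ := Ideal.mem_span_singleton'.1 (h1 i)
    rw [← hc, map_mul, map_natCast]
    exact Ideal.mul_mem_left _ _ (Ideal.mem_span_singleton_self _)

end dieudonne

end Groth.L15.DW
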