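import Groth.Agent.L15.DW.IdemLift
import Groth.Agent.L15.DW.Nilp
import Mathlib.Algebra.Module.Torsion.Basic

/-! Normal decompositions over a `p`-adically complete ring. -/

set_option autoImplicit false

namespace Groth.L15.DW

universe u v
open WittVector W4c1extbt610

variable {p : ℕ} [hp : Fact p.Prime] {R : Type u} [CommRing R]

/-- The kernel of `W(R) → W_n(R/p^n)`. -/
noncomputable def Gn (n : ℕ) : Ideal (WittVector p R) :=
  RingHom.ker ((WittVector.truncate n).comp (WittVector.map (Ideal.Quotient.mk (Ideal.span {(p : R)} ^ n))))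

theorem sub_mem_Gn {n : ℕ} {x y : WittVector p R} :
    x - y ∈ Gn n ↔ ∀ i < n, x.coeff i - y.coeff i ∈ Ideal.span {(p : R)} ^ n := by
  rw [Gn, RingHom.mem_ker, map_sub, sub_eq_zero, RingHom.comp_apply, RingHom.comp_apply,
    TruncatedWittVector.ext_iff]
  simp only [coeff_truncate, map_coeff, Ideal.Quotient.eq]
  exact ⟨fun h i hi => h ⟨i, hi⟩, fun h i => h i.1 i.2⟩

theorem mem_Gn {n : ℕ} {x : WittVector p R} :
    x ∈ Gn n ↔ ∀ i < n, x.coeff i ∈ Ideal.span {(p : R)} ^ n := by
  simpa using sub_mem_Gn (x := x) (y := 0) (n := n)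

theorem exists_IV_pow_le (n : ℕ) : ∃ K, (IV p R) ^ K ≤ Gn n := by
  have hnil : IsNilpotent (p : R ⧸ Ideal.span {(p : R)} ^ n) := ⟨n, by
    rw [← map_natCast (Ideal.Quotient.mk (Ideal.span {(p : R)} ^ n)), ← map_pow,
      Ideal.Quotient.eq_zero_iff_mem, Ideal.span_singleton_pow]
    exact Ideal.mem_span_singleton_self _⟩
  obtain ⟨k, b, hb⟩ := exists_pow_eq_iterate_V (p := p) hnil n
  refine ⟨k + 1, ((Ideal.pow_right_mono (le_sup_left : IV p R ≤ J0) _).trans (J0_pow_le k)).trans ?_⟩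
  rw [Ideal.span_le, Set.singleton_subset_iff, SetLike.mem_coe, Gn, RingHom.mem_ker, RingHom.comp_apply, map_pow,
    map_natCast, hb, truncate_iterate_V]

theorem exists_normal_decomposition [IsAdicComplete (Ideal.span {(p : R)}) R]
    (P : Type v) [AddCommGroup P] [Module (WittVector p R) P]
    [Module.Finite (WittVector p R) P] [Module.Projective (WittVector p R) P]
    (Q : Submodule (WittVector p R) P)
    (hQ : ∃ C : Submodule (WittVector p R) P,
      Q ⊔ C = ⊤ ∧ Q ⊓ C = IV p R • (⊤ : Submodule (WittVector p R) P)) :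
    ∃ L T : Submodule (WittVector p R) P, IsCompl L T ∧ Q = L ⊔ IV p R • T := by
  obtain ⟨C, hsup, hinf⟩ := hQ
  set N := IV p R • (⊤ : Submodule (WittVector p R) P) with hN
  have hNQ : N ≤ Q := hinf ▸ inf_le_left
  have hNC : N ≤ C := hinf ▸ inf_le_right
  have hcompl : IsCompl (C.map N.mkQ) (Q.map N.mkQ) := by
    refine ⟨Submodule.disjoint_def.2 ?_, codisjoint_iff.2 ?_⟩
    · rintro _ ⟨c, hc, rfl⟩ ⟨q, hq, h⟩
      rw [Submodule.mkQ_apply, Submodule.mkQ_apply, Submodule.Quotient.eq] at h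
      rw [Submodule.mkQ_apply, Submodule.Quotient.mk_eq_zero, ← hinf]
      exact ⟨by rw [← sub_sub_cancel q c]; exact Q.sub_mem hq (hNQ h), hc⟩
    · rw [← Submodule.map_sup, sup_comm, hsup, Submodule.map_top, Submodule.range_mkQ]
  let ebar : (P ⧸ N) →ₗ[WittVector p R] (P ⧸ N) :=
    (C.map N.mkQ).subtype.comp (Submodule.projectionOnto _ _ hcompl)
  obtain ⟨e0, he0⟩ := Module.projective_lifting_property N.mkQ (ebar.comp N.mkQ) (Submodule.mkQ_surjective N)
  have he0' : ∀ x, N.mkQ (e0 x) = ebar (N.mkQ x) := fun x => LinearMap.congr_fun he0 x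
  have hee : ∀ q, ebar (ebar q) = ebar q := fun q => by
    show Subtype.val (Submodule.projectionOnto _ _ hcompl (Submodule.projectionOnto _ _ hcompl q : P ⧸ N)) = _
    rw [Submodule.projectionOnto_apply_left]
    rfl
  have hidem : Into (IV p R) (e0 * e0 - e0) := fun x => by
    rw [← hN, ← Submodule.Quotient.mk_eq_zero, LinearMap.sub_apply, Submodule.Quotient.mk_sub, sub_eq_zero,
      Module.End.mul_apply]
    show N.mkQ (e0 (e0 x)) = N.mkQ (e0 x)
    rw [he0', he0', hee]
  have hcomp : ∀ f : ℕ → WittVector p R, (∀ m n, m ≤ n → f m - f n ∈ Gn m) → ∃ L, ∀ n, f n - L ∈ Gn n := by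
    intro f hf
    have hc : ∀ i : ℕ, ∃ L : R, ∀ n, (f (n + i + 1)).coeff i - L ∈ Ideal.span {(p : R)} ^ n := by
      intro i
      obtain ⟨L, hL⟩ := IsPrecomplete.prec (inferInstance : IsPrecomplete (Ideal.span {(p : R)}) R)
        (f := fun n => (f (n + i + 1)).coeff i) (fun {m n} hmn => by
          rw [SModEq.sub_mem, smul_eq_mul, Ideal.mul_top]
          exact Ideal.pow_le_pow_right (by omega)
            (sub_mem_Gn.1 (hf (m + i + 1) (n + i + 1) (by omega)) i (by omega)))
      refine ⟨L, fun n => ?_⟩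
      have h := hL n
      rwa [SModEq.sub_mem, smul_eq_mul, Ideal.mul_top] at h
    choose L hL using hc
    refine ⟨WittVector.mk p L, fun n => sub_mem_Gn.2 fun i hi => ?_⟩
    rw [coeff_mk, ← sub_add_sub_cancel ((f n).coeff i) ((f (n + i + 1)).coeff i) (L i)]
    exact add_mem (sub_mem_Gn.1 (hf n (n + i + 1) (by omega)) i hi) (hL i n)
  have hhaus : ∀ x : WittVector p R, (∀ n, x ∈ Gn n) → x = 0 := fun x hx => WittVector.ext fun i => by
    rw [zero_coeff]
    refine IsHausdorff.haus (inferInstance : IsHausdorff (Ideal.span {(p : R)}) R) _ fun n => ?_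
    rw [SModEq.zero, smul_eq_mul, Ideal.mul_top]
    exact Ideal.pow_le_pow_right (by omega) (mem_Gn.1 (hx (n + i + 1)) i (by omega))
  obtain ⟨E, hE, hEe⟩ := exists_idempotent_lift' (IV p R) (fun n => Gn n ⊓ IV p R) (fun n => by
      obtain ⟨K, hK⟩ := exists_IV_pow_le (p := p) (R := R) n
      exact ⟨K + 1, le_inf ((Ideal.pow_le_pow_right (Nat.le_succ K)).trans hK) (Ideal.pow_le_self (by omega))⟩)
    (fun f hf => by
      obtain ⟨L, hL⟩ := hcomp f fun m n h => (hf m n h).1
      refine ⟨L, fun n => ⟨hL n, ?_⟩⟩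
      rw [SetLike.mem_coe, IV_eq_ker, RingHom.mem_ker, map_sub, sub_eq_zero]
      refine sub_eq_zero.1 (IsHausdorff.haus (inferInstance : IsHausdorff (Ideal.span {(p : R)}) R) _ fun m => ?_)
      rw [SModEq.zero, smul_eq_mul, Ideal.mul_top]
      have h0 : constantCoeff (f (m + 1)) = constantCoeff (f n) := by
        rcases le_total n (m + 1) with h | h
        · have h' := (hf _ _ h).2
          rw [SetLike.mem_coe, IV_eq_ker, RingHom.mem_ker, map_sub, sub_eq_zero] at h'
          exact h'.symm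
        · have h' := (hf _ _ h).2
          rw [SetLike.mem_coe, IV_eq_ker, RingHom.mem_ker, map_sub, sub_eq_zero] at h'
          exact h'
      rw [← h0]
      exact Ideal.pow_le_pow_right (Nat.le_succ m) (sub_mem_Gn.1 (hL (m + 1)) 0 (Nat.succ_pos m)))
    (fun x hx => hhaus x fun n => (hx n).1) ⟨0, inf_le_right⟩ e0 hidem
  have hEmk : ∀ x, N.mkQ (E x) = ebar (N.mkQ x) := fun x => by
    rw [← he0', Submodule.mkQ_apply, Submodule.mkQ_apply, Submodule.Quotient.eq]
    exact hEe x
  have hEE : ∀ x, E (E x) = E x := fun x => LinearMap.congr_fun hE x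
  refine ⟨LinearMap.ker E, LinearMap.range E, ?_, ?_⟩
  · refine ⟨Submodule.disjoint_def.2 ?_, codisjoint_iff.2 (eq_top_iff.2 fun x _ => ?_)⟩
    · rintro _ hx ⟨y, rfl⟩
      rw [← hEE, LinearMap.mem_ker.1 hx]
    · rw [← sub_add_cancel x (E x)]
      exact Submodule.add_mem_sup (by rw [LinearMap.mem_ker, map_sub, hEE, sub_self]) ⟨x, rfl⟩
  refine le_antisymm (fun x hx => ?_) (sup_le (fun l hl => ?_) ((Submodule.smul_mono le_rfl le_top).trans hNQ))
  · rw [← sub_add_cancel x (E x)]
    refine Submodule.add_mem_sup (by rw [LinearMap.mem_ker, map_sub, hEE, sub_self]) ?_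
    have h0 : E x ∈ N := by
      rw [← Submodule.Quotient.mk_eq_zero]
      show N.mkQ (E x) = 0
      rw [hEmk]
      exact congrArg Subtype.val (Submodule.projectionOnto_apply_right hcompl ⟨N.mkQ x, x, hx, rfl⟩)
    rw [← hEE]
    have h1 : E (E x) ∈ N.map E := ⟨E x, h0, rfl⟩
    rwa [hN, Submodule.map_smul'', Submodule.map_top] at h1
  · have h0 : ebar (N.mkQ l) = 0 := by rw [← hEmk, LinearMap.mem_ker.1 hl, map_zero]
    have h2 : N.mkQ l ∈ LinearMap.ker (Submodule.projectionOnto _ _ hcompl) :=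
      LinearMap.mem_ker.2 (Subtype.ext h0)
    rw [Submodule.ker_projectionOnto] at h2
    obtain ⟨q, hq, h⟩ := h2
    rw [Submodule.mkQ_apply, Submodule.mkQ_apply, Submodule.Quotient.eq] at h
    rw [← sub_sub_cancel q l]
    exact Q.sub_mem hq (hNQ h)

end Groth.L15.DW
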