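import Groth.Agent.L15.DW.VSharp
import Groth.Agent.L15.DW.Mk
import Mathlib.Data.Matrix.Mul

/-! Coordinates of the iterates of `V#`; the nilpotence condition. -/

set_option autoImplicit false

namespace Groth.L15.DW

universe u v w
open WittVector W4c1extbt610 Dieu

section coord

variable {A : Type u} {B : Type w} [CommRing A] [CommRing B] (g : A →+* B)
  {P : Type v} [AddCommGroup P] [Module A P]

/-- The scalar extension of a functional. -/
noncomputable def bcFun (φ : P →ₗ[A] A) : BC g P →ₗ[B] B :=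
  BC.lift g ((semilinearOfRingHom g).comp φ)

theorem bcFun_tmul (φ : P →ₗ[A] A) (b : B) (x : P) : bcFun g φ (BC.tmul g b x) = b * g (φ x) := by
  rw [bcFun, BC.lift_tmul]; rfl

variable {n : Type*} [Fintype n] {e : n → P} {φ : n → (P →ₗ[A] A)}

theorem bcFun_expand (h : ∀ x, ∑ i, φ i x • e i = x) (z : BC g P) :
    ∑ i, bcFun g (φ i) z • BC.tmul g 1 (e i) = z := by
  induction z using BC.induction_on g with
  | zero => simp
  | add a b ha hb => simp only [map_add, add_smul, Finset.sum_add_distrib, ha, hb]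
  | tmul b x =>
    conv_rhs => rw [← h x, BC.tmul_eq_smul_tmul_one, ← BC.ι_apply, map_sum, Finset.smul_sum]
    refine Finset.sum_congr rfl fun i _ => ?_
    rw [bcFun_tmul, (BC.ι g P).map_smulₛₗ, smul_smul]
    rfl

theorem mem_smul_top_iff {M : Type v} [AddCommGroup M] [Module A M] {e : n → M}
    {φ : n → (M →ₗ[A] A)} (h : ∀ x, ∑ i, φ i x • e i = x) (J : Ideal A) (z : M) :
    z ∈ J • (⊤ : Submodule A M) ↔ ∀ i, φ i z ∈ J := by
  refine ⟨fun hz i => ?_, fun hz => ?_⟩
  · refine Submodule.smul_induction_on hz (fun a ha t _ => ?_) (fun a b ha hb => ?_)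
    · rw [map_smul, smul_eq_mul]; exact J.mul_mem_right _ ha
    · rw [map_add]; exact add_mem ha hb
  · rw [← h z]
    exact Submodule.sum_mem _ fun i _ => Submodule.smul_mem_smul (hz i) trivial

theorem bc_mem_smul_top_iff {A B : Type u} [CommRing A] [CommRing B] (g : A →+* B) {P : Type v} [AddCommGroup P]
    [Module A P] {e : n → P} {φ : n → (P →ₗ[A] A)} (h : ∀ x, ∑ i, φ i x • e i = x) (J : Ideal B)
    (z : BC g P) : z ∈ J • (⊤ : Submodule B (BC g P)) ↔ ∀ i, bcFun g (φ i) z ∈ J :=
  mem_smul_top_iff (bcFun_expand g h) J z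

end coord

section iter

variable {p : ℕ} [hp : Fact p.Prime] {R : Type u} [CommRing R]
  {P : Type v} [AddCommGroup P] [Module (WittVector p R) P]

local notation "σ" => (WittVector.frobenius : WittVector p R →+* WittVector p R)

variable {d : Type*} [Fintype d] (e : d → P) (φ : d → (P →ₗ[WittVector p R] WittVector p R))

/-- The matrix of `V#`. -/
noncomputable def matV (Vs : P →ₗ[WittVector p R] BC (WittVector.frobenius : WittVector p R →+* WittVector p R) P) :
    Matrix d d (WittVector p R) :=
  Matrix.of fun i j => bcFun _ (φ i) (Vs (e j))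

/-- The matrices of the iterates of `V#`. -/
noncomputable def matPow (Vs : P →ₗ[WittVector p R] BC (WittVector.frobenius : WittVector p R →+* WittVector p R) P)
    (n : ℕ) : Matrix d d (WittVector p R) :=
  Matrix.of fun i j => bcFun _ (φ i) (vSharpPow Vs n (e j))

variable (Vs : P →ₗ[WittVector p R] BC (WittVector.frobenius : WittVector p R →+* WittVector p R) P)

theorem matPow_zero : matPow e φ Vs 0 = matV e φ Vs := by
  refine Matrix.ext fun i j => ?_
  rw [matPow, matV, Matrix.of_apply, Matrix.of_apply, vSharpPow_zero_apply]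
  generalize Vs (e j) = z
  induction z using BC.induction_on σ with
  | zero => simp
  | add a b ha hb => simp only [map_add, ha, hb]
  | tmul b x => rw [BC.castHom_tmul, bcFun_tmul, bcFun_tmul, pow_one]

variable {e φ} (hφ : ∀ x, ∑ i, φ i x • e i = x)

include hφ in
theorem Vs_expand (x : P) : Vs x = ∑ i, bcFun σ (φ i) (Vs x) • BC.tmul σ 1 (e i) :=
  (bcFun_expand σ hφ _).symm

include hφ in
theorem matPow_succ (n : ℕ) :
    matPow e φ Vs (n + 1) = (matPow e φ Vs n).map σ * matV e φ Vs := by
  refine Matrix.ext fun i j => ?_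
  rw [Matrix.mul_apply]
  show bcFun _ (φ i) (vSharpPow Vs (n + 1) (e j)) = _
  rw [vSharpPow_succ_apply, Vs_expand Vs hφ (e j)]
  simp only [map_sum, map_smul, BC.map_tmul, BC.lift_tmul, one_smul]
  refine Finset.sum_congr rfl fun l _ => ?_
  rw [smul_eq_mul, mul_comm]
  congr 1
  show bcFun _ (φ i) _ = σ (bcFun _ (φ i) (vSharpPow Vs n (e l)))
  generalize vSharpPow Vs n (e l) = z
  induction z using BC.induction_on (σ ^ (n + 1)) with
  | zero => simp
  | add a b ha hb => simp only [map_add, ha, hb]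
  | tmul b x =>
    rw [BC.push_tmul, BC.castHom_tmul, bcFun_tmul, bcFun_tmul, map_mul]
    rw [pow_succ' _ (n + 1)]
    rfl

include hφ in
theorem vSharpPow_mem_iff (n : ℕ) (J : Ideal (WittVector p R)) :
    (∀ x : P, vSharpPow Vs n x ∈ J • (⊤ : Submodule (WittVector p R) (BC (σ ^ (n + 1)) P))) ↔
      ∀ i j, matPow e φ Vs n i j ∈ J := by
  refine ⟨fun h i j => (bc_mem_smul_top_iff _ hφ J _).1 (h (e j)) i, fun h x => ?_⟩
  rw [← hφ x, map_sum]
  refine Submodule.sum_mem _ fun j _ => ?_
  rw [map_smul]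
  exact Submodule.smul_mem _ _ ((bc_mem_smul_top_iff _ hφ J _).2 fun i => h i j)

include hφ in
theorem matPow_succ_left (n : ℕ) :
    matPow e φ Vs (n + 1) = (matV e φ Vs).map (σ)^[n + 1] * matPow e φ Vs n := by
  induction n with
  | zero => rw [matPow_succ Vs hφ, matPow_zero, Function.iterate_one]
  | succ n ih =>
    rw [matPow_succ Vs hφ (n + 1)]
    nth_rewrite 1 [ih]
    rw [Matrix.map_mul, Matrix.mul_assoc, ← matPow_succ Vs hφ n, Matrix.map_map,
      ← Function.iterate_succ']

include hφ in
theorem matPow_add (a b : ℕ) :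
    matPow e φ Vs (a + b + 1) = (matPow e φ Vs b).map (σ)^[a + 1] * matPow e φ Vs a := by
  induction b with
  | zero => rw [add_zero, matPow_succ_left Vs hφ, matPow_zero]
  | succ b ih =>
    rw [show a + (b + 1) + 1 = (a + b + 1) + 1 by omega, matPow_succ_left Vs hφ, ih, ← Matrix.mul_assoc,
      matPow_succ_left Vs hφ b, ← RingHom.coe_pow, ← RingHom.coe_pow, ← RingHom.coe_pow, Matrix.map_mul,
      Matrix.map_map, RingHom.coe_pow, RingHom.coe_pow, RingHom.coe_pow, ← Function.iterate_add,
      show a + 1 + (b + 1) = a + b + 1 + 1 by omega]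

end iter

end Groth.L15.DW
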