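import Groth.Agent.L15.DW.Disp
import Groth.Agent.L15.DW.BC
import Mathlib.RingTheory.Finiteness.Prod

/-! `V⁻¹ ⊕ F` is a Frobenius-linear isomorphism and `V#` exists. -/

set_option autoImplicit false

namespace Groth.L15.DW

universe u v
open WittVector W4c1extbt610 Dieu

variable {p : ℕ} [hp : Fact p.Prime] {R : Type u} [CommRing R]
  {P : Type v} [AddCommGroup P] [Module (WittVector p R) P] (D : Display3n p R P)

local notation "σ" => (WittVector.frobenius : WittVector p R →+* WittVector p R)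

/-- `V⁻¹` on `L`. -/
noncomputable def VinvL {L T : Submodule (WittVector p R) P} (hQ : D.Q = L ⊔ IV p R • T) :
    L →ₛₗ[σ] P := D.Vinv.comp (Submodule.inclusion (le_Q D hQ))

/-- `V⁻¹ ⊕ F`, linearised. -/
noncomputable def Phi {L T : Submodule (WittVector p R) P} (hQ : D.Q = L ⊔ IV p R • T) :
    BC σ L × BC σ T →ₗ[WittVector p R] P :=
  (BC.lift σ (VinvL D hQ)).coprod (BC.lift σ (D.F.comp T.subtype))

theorem Phi_tmul_left {L T : Submodule (WittVector p R) P} (hQ : D.Q = L ⊔ IV p R • T) (w : WittVector p R)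
    (l : L) : Phi D hQ (BC.tmul σ w l, 0) = w • D.Vinv ⟨l.1, le_Q D hQ l.2⟩ := by
  simp only [Phi, LinearMap.coprod_apply, map_zero, add_zero, BC.lift_tmul]
  rfl

theorem Phi_tmul_right {L T : Submodule (WittVector p R) P} (hQ : D.Q = L ⊔ IV p R • T) (w : WittVector p R)
    (t : T) : Phi D hQ (0, BC.tmul σ w t) = w • D.F t.1 := by
  simp [Phi, LinearMap.coprod_apply]

theorem Phi_surjective {L T : Submodule (WittVector p R) P} (hQ : D.Q = L ⊔ IV p R • T) :
    Function.Surjective (Phi D hQ) := by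
  rw [← LinearMap.range_eq_top, eq_top_iff, ← span_L_T D hQ, Submodule.span_le]
  rintro _ (⟨l, rfl⟩ | ⟨t, rfl⟩)
  · exact ⟨(BC.tmul σ 1 l, 0), by rw [Phi_tmul_left, one_smul]⟩
  · exact ⟨(0, BC.tmul σ 1 t), by rw [Phi_tmul_right, one_smul]⟩

theorem Phi_bijective (h : IsNilpotent (p : R)) {L T : Submodule (WittVector p R) P} (hLT : IsCompl L T)
    (hQ : D.Q = L ⊔ IV p R • T) : Function.Bijective (Phi D hQ) := by
  haveI := D.finite
  haveI := D.projective
  haveI : Module.Finite (WittVector p R) L := Module.Finite.of_surjective _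
    (Submodule.projectionOnto_surjective hLT)
  haveI : Module.Finite (WittVector p R) T := Module.Finite.of_surjective _
    (Submodule.projectionOnto_surjective hLT.symm)
  haveI := finite_BC σ (P := L)
  haveI := finite_BC σ (P := T)
  haveI : Module.Finite (WittVector p R) (BC σ L × BC σ T) := inferInstance
  exact bijective_of_mod_maximal _ (Phi_surjective D hQ) fun m hm z hz =>
    mod_maximal_of_twist σ hLT m (fun a ha => (frobenius_mem_iff h m a).2 ha) _ (Phi_surjective D hQ) z hz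

theorem exists_vsharp (h : IsNilpotent (p : R)) :
    ∃! Vs : P →ₗ[WittVector p R] BC σ P, IsVSharp D Vs := by
  obtain ⟨L, T, hLT, hQ⟩ := D.exists_normal
  let e := LinearEquiv.ofBijective (Phi D hQ) (Phi_bijective D h hLT hQ)
  let Ψ : BC σ L × BC σ T →ₗ[WittVector p R] BC σ P :=
    (BC.map σ L.subtype).coprod ((p : WittVector p R) • BC.map σ T.subtype)
  let Vs : P →ₗ[WittVector p R] BC σ P := Ψ.comp e.symm.toLinearMap
  have hΨL : ∀ l : L, Vs (D.Vinv ⟨l.1, le_Q D hQ l.2⟩) = BC.tmul σ 1 l.1 := by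
    intro l
    have he : e.symm (D.Vinv ⟨l.1, le_Q D hQ l.2⟩) = (BC.tmul σ 1 l, 0) :=
      e.symm_apply_eq.2 ((Phi_tmul_left D hQ 1 l).trans (one_smul _ _)).symm
    show Ψ (e.symm _) = _
    rw [he]
    simp [Ψ]
  have hΨT : ∀ t : T, Vs (D.F t.1) = (p : WittVector p R) • BC.tmul σ 1 t.1 := by
    intro t
    have he : e.symm (D.F t.1) = (0, BC.tmul σ 1 t) :=
      e.symm_apply_eq.2 ((Phi_tmul_right D hQ 1 t).trans (one_smul _ _)).symm
    show Ψ (e.symm _) = _
    rw [he]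
    simp [Ψ]
  have hV : ∀ y : D.Q, Vs (D.Vinv y) = BC.tmul σ 1 (y : P) := by
    intro y
    let A : D.Q →ₛₗ[σ] BC σ P := Vs.comp D.Vinv
    let B : D.Q →ₛₗ[σ] BC σ P := (BC.ι σ P).comp D.Q.subtype
    show A y = B y
    obtain ⟨y, hy⟩ := y
    have hy' : y ∈ L ⊔ IV p R • T := hQ ▸ hy
    obtain ⟨l, hl, z, hz, rfl⟩ := Submodule.mem_sup.1 hy'
    have hzQ : z ∈ D.Q := hQ ▸ Submodule.mem_sup_right hz
    rw [show (⟨l + z, hy⟩ : D.Q) = ⟨l, le_Q D hQ hl⟩ + ⟨z, hzQ⟩ from rfl, map_add, map_add]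
    congr 1
    · exact hΨL ⟨l, hl⟩
    suffices ∀ z, z ∈ IV p R • T → ∃ h : z ∈ D.Q, A ⟨z, h⟩ = B ⟨z, h⟩ by
      obtain ⟨_, h⟩ := this z hz; exact h
    intro z hz
    refine Submodule.smul_induction_on hz (fun a ha t ht => ?_) ?_
    · obtain ⟨c, rfl⟩ := exists_V_of_coeff_zero (mem_IV_iff.1 ha)
      refine ⟨V_smul_mem D c t, ?_⟩
      show Vs (D.Vinv _) = BC.ι σ P (verschiebung c • t)
      rw [Vinv_V_smul D c t, map_smul, hΨT ⟨t, ht⟩, (BC.ι σ P).map_smulₛₗ, frobenius_verschiebung,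
        mul_smul]
      rfl
    · rintro a b ⟨ha, iha⟩ ⟨hb, ihb⟩
      refine ⟨D.Q.add_mem ha hb, ?_⟩
      rw [show (⟨a + b, D.Q.add_mem ha hb⟩ : D.Q) = ⟨a, ha⟩ + ⟨b, hb⟩ from rfl, map_add, map_add, iha, ihb]
  refine ⟨Vs, ⟨fun w x => ?_, fun w y => ?_⟩, fun V' hV' => ?_⟩
  · have h1 := hV ⟨_, V_smul_mem D 1 x⟩
    rw [Vinv_V_smul D 1 x, one_smul] at h1
    rw [map_smul, h1]
    show w • BC.ι σ P (verschiebung 1 • x) = _
    rw [(BC.ι σ P).map_smulₛₗ, frobenius_verschiebung, one_mul, smul_comm, BC.ι_apply,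
      ← BC.tmul_eq_smul_tmul_one]
  · rw [map_smul, hV, ← BC.tmul_eq_smul_tmul_one]
  · apply LinearMap.ext_on_range D.span_range_Vinv
    intro y
    have := hV'.app_smul_Vinv 1 y
    rw [one_smul] at this
    rw [this, hV]

end Groth.L15.DW
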